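import Cfsg.Agent.S1225
import Cfsg.Agent.S1163
import Cfsg.Agent.BenderType.Inv
import Cfsg.Agent.LieClassical.SLTwoUnipotent
/-!
# Facts on the Sylow 2-subgroups of `L₂(2^n)` and `Sz(q)` (helper803)

`R1 K`: all involutions of `K` are conjugate; every Sylow 2-subgroup permutes the others transitively;
different Sylow 2-subgroups meet trivially; involutions of a Sylow 2-subgroup commute.
`R1.of_psl`, `R1.of_suzuki`.
-/
set_option autoImplicit false

namespace Cfsg.Agent.H803.RankOneFacts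
open Cfsg
open scoped Pointwise

/-- Facts shared by `L₂(2^n)` and `Sz(q)`. -/
structure R1 (K : Type*) [Group K] : Prop where
  conj : ∀ x y : K, orderOf x = 2 → orderOf y = 2 → IsConj x y
  trans : ∀ P Q R : Sylow 2 K, Q ≠ P → R ≠ P → ∃ g ∈ P, g • Q = R
  ti : ∀ P Q : Sylow 2 K, P ≠ Q → (P : Subgroup K) ⊓ (Q : Subgroup K) = ⊥
  comm : ∀ P : Sylow 2 K, ∀ x ∈ P, ∀ y ∈ P, x * x = 1 → y * y = 1 → x * y = y * x

theorem mem_smul_iff {K : Type*} [Group K] {g x : K} {S : Sylow 2 K} :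
    x ∈ g • S ↔ g⁻¹ * x * g ∈ S := by
  have h : x ∈ g • S ↔ x ∈ MulAut.conj g • (S : Subgroup K) := Iff.rfl
  rw [h, Subgroup.mem_pointwise_smul_iff_inv_smul_mem]
  simp only [MulAut.smul_def, MulAut.conj_apply, ← map_inv, inv_inv]
  exact Iff.rfl

theorem smul_eq_self_iff {K : Type*} [Group K] {g : K} {S : Sylow 2 K} :
    g • S = S ↔ g ∈ Subgroup.normalizer ((S : Subgroup K) : Set K) := Sylow.smul_eq_iff_mem_normalizer

theorem R1.of_sylow {K : Type*} [Group K] [Finite K] (S : Sylow 2 K)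
    (htr : ∀ Q R : Sylow 2 K, Q ≠ S → R ≠ S → ∃ g ∈ S, g • Q = R)
    (hti : ∀ Q : Sylow 2 K, Q ≠ S → (S : Subgroup K) ⊓ (Q : Subgroup K) = ⊥)
    (hcomm : ∀ x ∈ S, ∀ y ∈ S, x * x = 1 → y * y = 1 → x * y = y * x)
    (hne : ∃ Q : Sylow 2 K, Q ≠ S) (h2 : 2 ∣ Nat.card (S : Subgroup K)) : R1 K := by
  have hF : Fact (Nat.Prime 2) := ⟨Nat.prime_two⟩
  have hti' : ∀ P Q : Sylow 2 K, P ≠ Q → (P : Subgroup K) ⊓ (Q : Subgroup K) = ⊥ := by
    intro P Q hPQ
    obtain ⟨g, hg⟩ := MulAction.exists_smul_eq K P S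
    have h1 := hti (g • Q) (by
      intro h
      rw [← hg] at h
      exact hPQ (MulAction.injective g h).symm)
    rw [eq_bot_iff]
    rintro x ⟨hxP, hxQ⟩
    have h3 : g * x * g⁻¹ ∈ (S : Subgroup K) ⊓ ((g • Q : Sylow 2 K) : Subgroup K) := by
      refine ⟨?_, ?_⟩
      · change g * x * g⁻¹ ∈ S
        rw [← hg, mem_smul_iff]
        have : g⁻¹ * (g * x * g⁻¹) * g = x := by group
        rw [this]; exact hxP
      · change g * x * g⁻¹ ∈ g • Q
        rw [mem_smul_iff]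
        have : g⁻¹ * (g * x * g⁻¹) * g = x := by group
        rw [this]; exact hxQ
    rw [h1, Subgroup.mem_bot] at h3
    rw [Subgroup.mem_bot]
    have := congrArg (fun y => g⁻¹ * y * g) h3
    simpa [mul_assoc] using this
  -- involutions normalizing a Sylow 2-subgroup lie in it
  have hmem : ∀ t : K, orderOf t = 2 → t ∈ Subgroup.normalizer ((S : Subgroup K) : Set K) → t ∈ S := by
    intro t ht htN
    have h1 : IsPGroup 2 (Subgroup.zpowers t) :=
      IsPGroup.of_card (n := 1) (by rw [Nat.card_zpowers, ht, pow_one])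
    have h3 := h1.inf_normalizer_sylow S
    have h4 : t ∈ Subgroup.zpowers t ⊓ (S : Subgroup K) := by
      rw [← h3]
      exact ⟨Subgroup.mem_zpowers t, htN⟩
    exact h4.2
  refine ⟨?_, ?_, hti', ?_⟩
  · obtain ⟨Q, hQ⟩ := hne
    obtain ⟨s, hs2⟩ := exists_prime_orderOf_dvd_card' (G := (S : Subgroup K)) 2 h2
    have hs2' : orderOf (s : K) = 2 := by rw [Subgroup.orderOf_coe, hs2]
    have hSE : IsStronglyEmbedded (Subgroup.normalizer ((S : Subgroup K) : Set K)) := by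
      refine ⟨?_, ?_, ?_⟩
      · intro htop
        obtain ⟨g, hg⟩ := MulAction.exists_smul_eq K S Q
        apply hQ
        rw [← hg, smul_eq_self_iff, htop]
        exact Subgroup.mem_top _
      · rw [even_iff_two_dvd]
        exact h2.trans (Subgroup.card_dvd_of_le Subgroup.le_normalizer)
      · intro g hg
        rw [← Nat.not_even_iff_odd]
        intro hev
        obtain ⟨t, ht2⟩ := exists_prime_orderOf_dvd_card' 2 (even_iff_two_dvd.1 hev)
        have ht2' : orderOf (t : K) = 2 := by rw [Subgroup.orderOf_coe, ht2]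
        have htS : (t : K) ∈ S := hmem t ht2' t.2.1
        obtain ⟨u, hu, hut⟩ := t.2.2
        have hut' : g * u * g⁻¹ = t := hut
        have hu2 : orderOf u = 2 := by
          have h5 : orderOf (g * u * g⁻¹) = orderOf u :=
            orderOf_injective (MulAut.conj g).toMonoidHom (MulAut.conj g).injective u
          rw [← h5, hut', ht2']
        have huS : u ∈ S := hmem u hu2 hu
        have h3 : (t : K) ∈ (S : Subgroup K) ⊓ ((g • S : Sylow 2 K) : Subgroup K) := by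
          refine ⟨htS, ?_⟩
          change (t : K) ∈ g • S
          rw [mem_smul_iff, ← hut']
          have : g⁻¹ * (g * u * g⁻¹) * g = u := by group
          rw [this]; exact huS
        have h4 := hti (g • S) (by
          intro h
          exact hg (smul_eq_self_iff.1 h))
        rw [h4, Subgroup.mem_bot] at h3
        rw [h3, orderOf_one] at ht2'
        omega
    -- an involution outside
    obtain ⟨g, hg⟩ := MulAction.exists_smul_eq K S Q
    have hu2 : orderOf (g * s * g⁻¹) = 2 :=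
      (orderOf_injective (MulAut.conj g).toMonoidHom (MulAut.conj g).injective (s : K)).trans hs2'
    have huN : g * s * g⁻¹ ∉ Subgroup.normalizer ((S : Subgroup K) : Set K) := by
      intro h
      have h1 := hmem _ hu2 h
      have h3 : g * s * g⁻¹ ∈ (S : Subgroup K) ⊓ (Q : Subgroup K) := by
        refine ⟨h1, ?_⟩
        change g * s * g⁻¹ ∈ Q
        rw [← hg, mem_smul_iff]
        have : g⁻¹ * (g * (s : K) * g⁻¹) * g = s := by group
        rw [this]; exact s.2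
      rw [hti Q hQ, Subgroup.mem_bot] at h3
      rw [h3, orderOf_one] at hu2
      omega
    have hsN : (s : K) ∈ Subgroup.normalizer ((S : Subgroup K) : Set K) := Subgroup.le_normalizer s.2
    exact (Cfsg.Agent.S1225.result _ hSE (g * s * g⁻¹) hu2 huN s s hs2' hsN hs2' hsN).2
  · intro P Q R hQ hR
    obtain ⟨g, rfl⟩ := MulAction.exists_smul_eq K S P
    obtain ⟨s, hs, h⟩ := htr (g⁻¹ • Q) (g⁻¹ • R) (by
      intro h; exact hQ (by rw [← h, smul_inv_smul])) (by
      intro h; exact hR (by rw [← h, smul_inv_smul]))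
    refine ⟨g * s * g⁻¹, ?_, ?_⟩
    · rw [mem_smul_iff]
      have : g⁻¹ * (g * s * g⁻¹) * g = s := by group
      rw [this]; exact hs
    · rw [mul_smul, mul_smul, h, smul_inv_smul]
  · intro P x hx y hy hx2 hy2
    obtain ⟨g, rfl⟩ := MulAction.exists_smul_eq K S P
    rw [mem_smul_iff] at hx hy
    have h1 := hcomm _ hx _ hy (by
      have : g⁻¹ * x * g * (g⁻¹ * x * g) = g⁻¹ * (x * x) * g := by group
      rw [this, hx2]; group) (by
      have : g⁻¹ * y * g * (g⁻¹ * y * g) = g⁻¹ * (y * y) * g := by group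
      rw [this, hy2]; group)
    have h3 := congrArg (fun z => g * z * g⁻¹) h1
    simpa [mul_assoc] using h3

/-- Transport. -/
theorem R1.congr {K L : Type*} [Group K] [Finite K] [Group L] [Finite L] (h : R1 K) (e : K ≃* L) : R1 L := by
  have hF : Fact (Nat.Prime 2) := ⟨Nat.prime_two⟩
  -- pull back Sylow subgroups along `e`
  have hpb : ∀ P : Sylow 2 L, ∃ P' : Sylow 2 K, ∀ x, x ∈ P' ↔ e x ∈ P := by
    intro P
    refine ⟨P.mapSurjective (f := e.symm.toMonoidHom) e.symm.surjective, fun x => ?_⟩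
    change x ∈ (P : Subgroup L).map e.symm.toMonoidHom ↔ _
    rw [Subgroup.mem_map]
    constructor
    · rintro ⟨y, hy, rfl⟩
      change e (e.symm y) ∈ P
      rw [e.apply_symm_apply]; exact hy
    · intro hx
      exact ⟨e x, hx, e.symm_apply_apply x⟩
  choose pb hpb using hpb
  have hinj : ∀ P Q : Sylow 2 L, P ≠ Q → pb P ≠ pb Q := by
    intro P Q hPQ heq
    apply hPQ
    apply Sylow.ext
    ext y
    have h1 := hpb P (e.symm y)
    have h2 := hpb Q (e.symm y)
    rw [e.apply_symm_apply] at h1 h2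
    change y ∈ P ↔ y ∈ Q
    rw [← h1, ← h2, heq]
  refine ⟨?_, ?_, ?_, ?_⟩
  · intro x y hx hy
    have h1 := h.conj (e.symm x) (e.symm y) (by rw [MulEquiv.orderOf_eq, hx]) (by rw [MulEquiv.orderOf_eq, hy])
    have h2 := MonoidHom.map_isConj e.toMonoidHom h1
    simpa using h2
  · intro P Q R hQ hR
    obtain ⟨g, hg, hgQ⟩ := h.trans (pb P) (pb Q) (pb R) (hinj _ _ hQ) (hinj _ _ hR)
    refine ⟨e g, (hpb P g).1 hg, ?_⟩
    apply Sylow.ext
    ext y
    change y ∈ e g • Q ↔ y ∈ R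
    rw [mem_smul_iff]
    have h1 := hpb R (e.symm y)
    rw [e.apply_symm_apply, ← hgQ, mem_smul_iff, hpb Q] at h1
    rw [← h1, map_mul, map_mul, e.apply_symm_apply, map_inv]
  · intro P Q hPQ
    have h1 := h.ti _ _ (hinj _ _ hPQ)
    rw [eq_bot_iff]
    rintro x ⟨hxP, hxQ⟩
    have h2 : e.symm x ∈ (pb P : Subgroup K) ⊓ (pb Q : Subgroup K) := by
      refine ⟨(hpb P _).2 ?_, (hpb Q _).2 ?_⟩ <;> rw [e.apply_symm_apply]
      · exact hxP
      · exact hxQ
    rw [h1, Subgroup.mem_bot] at h2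
    rw [Subgroup.mem_bot]
    have := congrArg e h2
    rwa [e.apply_symm_apply, map_one] at this
  · intro P x hx y hy hx2 hy2
    have h1 := h.comm (pb P) (e.symm x) ((hpb P _).2 (by rw [e.apply_symm_apply]; exact hx))
      (e.symm y) ((hpb P _).2 (by rw [e.apply_symm_apply]; exact hy))
      (by rw [← map_mul, hx2, map_one]) (by rw [← map_mul, hy2, map_one])
    rw [← map_mul, ← map_mul] at h1
    exact e.symm.injective h1

/-! ### `L₂(2^n)` -/

section SL
open Matrix Cfsg.Agent.LieClassical.SLTwoUnipotent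
variable {F : Type*} [Field F]

theorem sl_center_eq_bot [CharP F 2] : Subgroup.center (SpecialLinearGroup (Fin 2) F) = ⊥ := by
  rw [eq_bot_iff]
  intro x hx
  rw [Subgroup.mem_bot]
  have h1 := Subgroup.mem_center_iff.1 hx (u 1)
  have h2 := Subgroup.mem_center_iff.1 hx (l 1)
  have hm1 := congrArg (fun g : SpecialLinearGroup (Fin 2) F => (g : Matrix (Fin 2) (Fin 2) F)) h1
  have hm2 := congrArg (fun g : SpecialLinearGroup (Fin 2) F => (g : Matrix (Fin 2) (Fin 2) F)) h2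
  simp only [coe_mul, coe_u, coe_l] at hm1 hm2
  have a00 := congrFun (congrFun hm1 0) 0
  have a01 := congrFun (congrFun hm1 0) 1
  have b00 := congrFun (congrFun hm2 0) 0
  simp [Matrix.mul_apply, Fin.sum_univ_two] at a00 a01 b00
  have hdet : x 0 0 * x 1 1 - x 0 1 * x 1 0 = 1 := by
    rw [← Matrix.det_fin_two, x.det_coe]
  have h10 : x 1 0 = 0 := by simpa using a00
  have h01 : x 0 1 = 0 := by simpa using b00
  have h11 : x 1 1 = x 0 0 := by
    have : x 0 1 + x 1 1 = x 0 0 + x 0 1 := a01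
    linear_combination this
  rw [h10, h11, mul_zero, sub_zero] at hdet
  have h2 : (2 : F) = 0 := by exact_mod_cast CharP.cast_eq_zero F 2
  have h00 : x 0 0 = 1 := by
    have h4 : (x 0 0 - 1) * (x 0 0 - 1) = 0 := by
      linear_combination hdet - (x 0 0 - 1) * h2
    exact sub_eq_zero.1 (mul_self_eq_zero.1 h4)
  apply ext_coe
  rw [coe_one]
  ext i j
  fin_cases i <;> fin_cases j
  · simpa using h00
  · simpa using h01
  · simpa using h10
  · simpa [h11] using h00

/-- `SL₂(F) ≅ L₂(F)` in characteristic 2 -/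
theorem nonempty_psl_equiv [CharP F 2] :
    Nonempty (SpecialLinearGroup (Fin 2) F ≃* Matrix.ProjectiveSpecialLinearGroup (Fin 2) F) :=
  ⟨((QuotientGroup.quotientMulEquivOfEq sl_center_eq_bot).trans QuotientGroup.quotientBot).symm⟩

theorem R1.of_sl [Fintype F] [CharP F 2] : R1 (SpecialLinearGroup (Fin 2) F) := by
  have hFact : Fact (Nat.Prime 2) := ⟨Nat.prime_two⟩
  have hne : ∀ Q : Sylow 2 (SpecialLinearGroup (Fin 2) F), Q ≠ upperUnipSylowSL F 2 →
      ∃ s ∈ upperUnipSylowSL F 2, ∀ y, y ∈ Q ↔ ∃ x, y = s * l x * s⁻¹ := by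
    intro Q hQ
    obtain ⟨g, hg⟩ := exists_smul_upperUnipSylowSL_eq (F := F) 2 Q
    have hg10 : g 1 0 ≠ 0 := by
      intro h
      apply hQ
      rw [← hg]
      exact (smul_upperUnipSylowSL_eq_self_iff 2).2 h
    refine ⟨u (g 0 0 / g 1 0), u_mem_upperUnipSL _, fun y => ?_⟩
    rw [← hg, mem_smul_upperUnipSylowSL_iff]
    constructor
    · intro hy
      obtain ⟨t, ht⟩ := mem_upperUnipSL_iff_exists.1 hy
      refine ⟨-(t * (g 1 0) ^ 2), ?_⟩
      rw [← conj_u_eq g hg10]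
      have h1 : -(-(t * (g 1 0) ^ 2)) / (g 1 0) ^ 2 = t := by field_simp
      rw [h1, ← ht]; group
    · rintro ⟨x, rfl⟩
      rw [← conj_u_eq g hg10]
      have : g⁻¹ * (g * u (-x / (g 1 0) ^ 2) * g⁻¹) * g = u (-x / (g 1 0) ^ 2) := by group
      rw [this]
      exact u_mem_upperUnipSL _
  refine R1.of_sylow (upperUnipSylowSL F 2) ?_ ?_ ?_ ?_ ?_
  · intro Q R hQ hR
    obtain ⟨s, hs, hsQ⟩ := hne Q hQ
    obtain ⟨t, ht, htR⟩ := hne R hR
    refine ⟨t * s⁻¹, mul_mem ht (inv_mem hs), ?_⟩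
    apply Sylow.ext
    ext y
    change y ∈ (t * s⁻¹) • Q ↔ y ∈ R
    rw [mem_smul_iff, hsQ, htR]
    constructor
    · rintro ⟨x, hx⟩
      refine ⟨x, ?_⟩
      have h1 := congrArg (fun z => (t * s⁻¹) * z * (t * s⁻¹)⁻¹) hx
      have h2 : t * s⁻¹ * ((t * s⁻¹)⁻¹ * y * (t * s⁻¹)) * (t * s⁻¹)⁻¹ = y := by group
      have h3 : t * s⁻¹ * (s * l x * s⁻¹) * (t * s⁻¹)⁻¹ = t * l x * t⁻¹ := by group
      simp only [h2, h3] at h1
      exact h1
    · rintro ⟨x, rfl⟩
      exact ⟨x, by group⟩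
  · intro Q hQ
    exact sylow_inf_eq_bot_SL 2 _ _ (Ne.symm hQ)
  · intro x hx y hy _ _
    obtain ⟨a, rfl⟩ := mem_upperUnipSL_iff_exists.1 hx
    obtain ⟨b, rfl⟩ := mem_upperUnipSL_iff_exists.1 hy
    rw [← u_add, ← u_add, add_comm]
  · obtain ⟨w, hw⟩ : ∃ w : SpecialLinearGroup (Fin 2) F, w 1 0 ≠ 0 := ⟨l 1, by simp [coe_l]⟩
    refine ⟨w • upperUnipSylowSL F 2, ?_⟩
    intro h
    exact hw ((smul_upperUnipSylowSL_eq_self_iff 2).1 h)
  · rw [coe_upperUnipSylowSL, card_upperUnipSL, Nat.card_eq_fintype_card]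
    obtain ⟨n, -, hn⟩ := FiniteField.card F 2
    rw [hn]
    exact dvd_pow_self 2 n.ne_zero

end SL

theorem R1.of_psl {F : Type*} [Field F] [Fintype F] [CharP F 2] {K : Type*} [Group K] [Finite K]
    (e : Nonempty (K ≃* Matrix.ProjectiveSpecialLinearGroup (Fin 2) F)) : R1 K := by
  obtain ⟨e⟩ := e
  obtain ⟨f⟩ := nonempty_psl_equiv (F := F)
  exact R1.of_sl.congr (f.trans e.symm)

/-! ### Suzuki groups -/

theorem R1.of_suzuki {K : Type*} [Group K] [Finite K] (h : Lie.IsoSuzuki K) : R1 K := by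
  have hFact : Fact (Nat.Prime 2) := ⟨Nat.prime_two⟩
  obtain ⟨F, iF, iF', m, hm, hF, ⟨e⟩⟩ := h
  obtain ⟨-, S, hN, hI, -, hreg⟩ := Cfsg.Agent.S1163.result hm hF
  have hty := Cfsg.Agent.BenderType.Inv.ty_sz hm hF S
  refine R1.congr ?_ e.symm
  have hmk : ∀ g : ↥(Cfsg.Lie.Sz F (2 ^ (m + 1))), g • S ≠ S →
      (QuotientGroup.mk g : _ ⧸ Subgroup.normalizer ((S : Subgroup ↥(Cfsg.Lie.Sz F (2 ^ (m + 1)))) :
        Set ↥(Cfsg.Lie.Sz F (2 ^ (m + 1))))) ≠ QuotientGroup.mk 1 := by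
    intro g hg h
    apply hg
    rw [smul_eq_self_iff]
    have := QuotientGroup.eq.1 h.symm
    rwa [inv_one, one_mul] at this
  refine R1.of_sylow S ?_ ?_ ?_ ?_ ?_
  · intro Q R hQ hR
    obtain ⟨x, rfl⟩ := MulAction.exists_smul_eq (↥(Cfsg.Lie.Sz F (2 ^ (m + 1)))) S Q
    obtain ⟨y, rfl⟩ := MulAction.exists_smul_eq (↥(Cfsg.Lie.Sz F (2 ^ (m + 1)))) S R
    obtain ⟨s, hs, -⟩ := hreg _ _ (hmk x hQ) (hmk y hR)
    refine ⟨s, s.2, ?_⟩
    have h2 := QuotientGroup.eq.1 hs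
    change (s * x)⁻¹ * y ∈ _ at h2
    rw [← mul_smul]
    have h3 : ((↑s * x)⁻¹ * y) • S = S := smul_eq_self_iff.2 h2
    rw [mul_smul] at h3
    exact (inv_smul_eq_iff.1 h3).symm
  · intro Q hQ
    obtain ⟨x, rfl⟩ := MulAction.exists_smul_eq (↥(Cfsg.Lie.Sz F (2 ^ (m + 1)))) S Q
    rw [eq_bot_iff]
    rintro t ⟨ht, htx⟩
    obtain ⟨s, -, hs⟩ := hreg _ _ (hmk x hQ) (hmk x hQ)
    have h1 : (⟨t, ht⟩ : ↥(S : Subgroup ↥(Cfsg.Lie.Sz F (2 ^ (m + 1))))) = s := by
      apply hs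
      change (QuotientGroup.mk (t * x) : _ ⧸ _) = QuotientGroup.mk x
      rw [QuotientGroup.eq]
      have h2 : t ∈ x • S := htx
      rw [mem_smul_iff] at h2
      have h3 : (t * x)⁻¹ * x = (x⁻¹ * t * x)⁻¹ := by group
      rw [h3]
      exact inv_mem (Subgroup.le_normalizer h2)
    have h2 : (1 : ↥(S : Subgroup ↥(Cfsg.Lie.Sz F (2 ^ (m + 1))))) = s := by
      apply hs
      change (QuotientGroup.mk (1 * x) : _ ⧸ _) = QuotientGroup.mk x
      rw [one_mul]
    rw [Subgroup.mem_bot]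
    exact congrArg Subtype.val (h1.trans h2.symm)
  · intro x hx y hy hx2 hy2
    exact congrArg Subtype.val (hty.comm ⟨x, hx⟩ ⟨y, hy⟩ (Subtype.ext hx2) (Subtype.ext hy2))
  · by_contra hcon
    push Not at hcon
    have h1 : Subgroup.normalizer ((S : Subgroup ↥(Cfsg.Lie.Sz F (2 ^ (m + 1)))) :
        Set ↥(Cfsg.Lie.Sz F (2 ^ (m + 1)))) = ⊤ := by
      rw [eq_top_iff]
      intro g _
      rw [← smul_eq_self_iff]
      exact hcon _
    rw [h1, Subgroup.index_top] at hI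
    have : 0 < (2 ^ (2 * m + 1)) ^ 2 := by positivity
    omega
  · rw [hty.card]
    exact (dvd_pow_self 2 (by omega)).trans (dvd_pow_self _ (by norm_num))

end Cfsg.Agent.H803.RankOneFacts
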