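import Cfsg.Agent.H803.OmFrame
import Cfsg.Agent.H95.SelfNorm
import Cfsg.Agent.H94.Matching
import Cfsg.Agent.H747.RowTwo

/-!
# The Sylow 2-subgroups of `PΩ_n(q)`, `q` odd, `n ≥ 7`, are self-normalising (helper803)

* `SC X` : the commutator subgroup of `X` has a self-normalising 2-subgroup;
* `sc_even`, `sc_odd` : `SC` for the isometry groups of the nondegenerate forms of dimension `2 m ≥ 8` and `2 m + 1 ≥ 7`;
* `self_odd`, `self_plus`, `self_minus` : the Sylow 2-subgroups of the groups `PΩ` are self-normalising;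
* `row_omega_odd`, `row_omega_plus`, `row_omega_minus` : `RowTwo` for the groups `PΩ`.
-/

set_option autoImplicit false
set_option linter.unusedSectionVars false

namespace Cfsg.Agent.H803.RowOmega

open Matrix Subgroup QuadraticMap Equiv
open Cfsg.Agent.H637 Cfsg.Agent.H803.WrNorm Cfsg.Agent.H803.OmPlane Cfsg.Agent.H803.OmWreath
open Cfsg.Agent.H803.OmFrame
open Cfsg.Agent.ClassicalGeometry.Reflection
open Cfsg.Agent.LieClassical.OmegaReindex

/-- The commutator subgroup has a self-normalising `2`-subgroup. -/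
def SC (X : Type*) [Group X] : Prop :=
  ∃ T : Subgroup X, T ≤ commutator X ∧ (∀ t ∈ T, ∃ k : ℕ, t ^ 2 ^ k = 1) ∧
    ∀ g ∈ commutator X, (∀ t ∈ T, g * t * g⁻¹ ∈ T) → g ∈ T

theorem SC.congr {X Y : Type*} [Group X] [Group Y] (e : Y ≃* X) (h : SC Y) : SC X := by
  obtain ⟨T, h1, h2, h3⟩ := h
  have hc : commutator X = (commutator Y).map e.toMonoidHom := by
    rw [commutator_def, commutator_def, Subgroup.map_commutator, Subgroup.map_top_of_surjective _ e.surjective]
  have hm : ∀ (U : Subgroup Y) (z : Y), e z ∈ U.map e.toMonoidHom ↔ z ∈ U := by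
    intro U z
    constructor
    · rintro ⟨w, hw, he⟩
      exact (e.injective he) ▸ hw
    · exact fun h => ⟨z, h, rfl⟩
  refine ⟨T.map e.toMonoidHom, ?_, ?_, ?_⟩
  · rw [hc]
    exact Subgroup.map_mono h1
  · rintro _ ⟨t, ht, rfl⟩
    obtain ⟨k, hk⟩ := h2 t ht
    exact ⟨k, by rw [← map_pow, hk, map_one]⟩
  · intro g hg hgT
    obtain ⟨g, rfl⟩ := e.surjective g
    rw [hc, hm] at hg
    rw [hm]
    refine h3 g hg fun t ht => ?_
    have := hgT (e t) ⟨t, ht, rfl⟩
    rwa [← map_inv, ← map_mul, ← map_mul, hm] at this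

theorem SC.self {X : Type*} [Group X] [Finite X] (h : SC X)
    (S : Sylow 2 (commutator X ⧸ Subgroup.center (commutator X))) :
    normalizer ((S : Subgroup (commutator X ⧸ Subgroup.center (commutator X))) :
      Set (commutator X ⧸ Subgroup.center (commutator X))) ≤ S := by
  have : Fact (Nat.Prime 2) := ⟨Nat.prime_two⟩
  obtain ⟨T, h1, h2, h3⟩ := h
  refine H95.SelfNorm.quot_of_hom (commutator X).subtype (Subgroup.subtype_injective _) T ?_ h2 ?_ S
  · rw [Subgroup.range_subtype]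
    exact h1
  · intro x hx
    rw [Subgroup.range_subtype] at hx
    exact h3 x hx

section

variable {M C : Type*} [Group M] [Group C] {κ : Type*} [DecidableEq κ]

theorem isPGroup_sub [Fintype κ] [Finite M] [Finite C] {D : Subgroup M} {S : Subgroup (Perm κ)}
    {E : Subgroup C} (hD : IsPGroup 2 D) (hS : IsPGroup 2 S) (hE : IsPGroup 2 E) : IsPGroup 2 (sub D S E) := by
  have : Fact (Nat.Prime 2) := ⟨Nat.prime_two⟩
  obtain ⟨a, ha⟩ := IsPGroup.iff_card.1 hD
  obtain ⟨b, hb⟩ := IsPGroup.iff_card.1 hS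
  obtain ⟨c, hc⟩ := IsPGroup.iff_card.1 hE
  let e : sub D S E ≃ ((κ → D) × S) × E :=
    { toFun := fun x => ⟨⟨fun i => ⟨x.1.1.left i, x.2.1 i⟩, ⟨x.1.1.right, x.2.2.1⟩⟩, ⟨x.1.2, x.2.2.2⟩⟩
      invFun := fun y => ⟨(⟨fun i => (y.1.1 i : M), y.1.2⟩, y.2), ⟨fun i => (y.1.1 i).2, y.1.2.2, y.2.2⟩⟩
      left_inv := fun x => rfl
      right_inv := fun y => rfl }
  refine IsPGroup.of_card (n := a * Fintype.card κ + b + c) ?_
  rw [Nat.card_congr e, Nat.card_prod, Nat.card_prod, Nat.card_fun, ha, hb, hc, Nat.card_eq_fintype_card,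
    pow_add, pow_add, pow_mul]

end

section Field

variable {F : Type*} [Field F] [Fintype F]

theorem sc_main (hF : Odd (Fintype.card F)) {κ ρ : Type} [Fintype κ] [DecidableEq κ] [Fintype ρ] [DecidableEq ρ]
    (hk : 3 ≤ Fintype.card κ) (d : ρ → F) (hd : ∀ r, d r ≠ 0) (hR : NoSq d) (hE : SN (CC d)) :
    SC (OO κ d) := by
  classical
  have hp2 : Fact (Nat.Prime 2) := ⟨Nat.prime_two⟩
  have h2 := two_ne_zero_of_odd hF
  have h1 : IsPGroup 2 (zpowers (rot F)) := by
    refine IsPGroup.of_card (n := Nat.log 2 (orderOf (rot F))) ?_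
    obtain ⟨k, hk, hk'⟩ := (Nat.dvd_prime_pow Nat.prime_two).1 (orderOf_dvd_of_pow_eq_one (rot_pow (F := F)))
    rw [Nat.card_zpowers, hk', Nat.log_pow Nat.one_lt_two]
  obtain ⟨D, hD⟩ := h1.exists_le_sylow
  obtain ⟨S⟩ := (inferInstance : Nonempty (Sylow 2 (Perm κ)))
  obtain ⟨E⟩ := (inferInstance : Nonempty (Sylow 2 (CC d)))
  have hSN : SN (MM F) := sn_plane hF (Fintype.card_fin 2) _ (DQ_nondegenerate h2 _ one'_ne')
  have hker := ker_chi h2 (cf κ d) (cf_ne d hd) (by
    rw [Fintype.card_sum, Fintype.card_prod, Fintype.card_fin]; omega)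
  have hP : IsPGroup 2 (sub (D : Subgroup (MM F)) (S : Subgroup (Perm κ)) (E : Subgroup (CC d))) :=
    isPGroup_sub D.2 S.2 E.2
  refine ⟨(sub (D : Subgroup (MM F)) (S : Subgroup (Perm κ)) (E : Subgroup (CC d))).map (psi κ d) ⊓
    commutator (OO κ d), inf_le_right, ?_, ?_⟩
  · rintro _ ⟨⟨x, hx, rfl⟩, -⟩
    obtain ⟨k, hk⟩ := hP ⟨x, hx⟩
    refine ⟨k, ?_⟩
    rw [← map_pow]
    have := congrArg Subtype.val hk
    change x ^ 2 ^ k = 1 at this
    rw [this, map_one]
  · intro g hg hgT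
    refine ⟨?_, hg⟩
    suffices key : ∃ y ∈ sub (D : Subgroup (MM F)) (S : Subgroup (Perm κ)) (E : Subgroup (CC d)),
        g = psi κ d y by
      obtain ⟨y, hy, hgy⟩ := key
      exact ⟨y, hy, hgy.symm⟩
    refine norm_mem h2 hk d hd hR (D : Subgroup (MM F)) (S : Subgroup (Perm κ))
      (E : Subgroup (CC d)) (hD (mem_zpowers _)) (hSN D) ?_ (hE E) ?_ g ?_
    · intro m hm
      have hle : (S : Subgroup (Perm κ)).map (MulAut.conj m).toMonoidHom ≤ (S : Subgroup (Perm κ)) := by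
        rintro _ ⟨t, ht, rfl⟩
        exact hm t ht
      have hcard : Nat.card ((S : Subgroup (Perm κ)).map (MulAut.conj m).toMonoidHom) =
          Nat.card (S : Subgroup (Perm κ)) :=
        Nat.card_congr ((S : Subgroup (Perm κ)).equivMapOfInjective _ (MulAut.conj m).injective).symm.toEquiv
      have heq : (S : Subgroup (Perm κ)).map (MulAut.conj m).toMonoidHom = (S : Subgroup (Perm κ)) :=
        Subgroup.eq_of_le_of_card_ge hle (le_of_eq hcard.symm)
      apply H94.Syl2Sym.sym_selfNorm S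
      rw [mem_normalizer_iff]
      intro t
      refine ⟨fun ht => hm t ht, fun ht => ?_⟩
      rw [← heq] at ht
      obtain ⟨t', ht', he⟩ := ht
      have : t' = t := (MulAut.conj m).injective he
      rw [← this]
      exact ht'
    · intro z hz i
      obtain ⟨a, ha, haz⟩ := exists_sg_chi (κ := κ) h2 d i z hz
      obtain ⟨b, hb, -, hbz⟩ := exists_mem_sylow (χ := (chw κ d).comp (sg (CC d) i)) ha D
      exact ⟨b, hb, hbz.trans haz⟩
    · intro x hx hx1
      have h3 : psi κ d x ∈ commutator (OO κ d) := by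
        rw [← hker]
        exact hx1
      obtain ⟨⟨y, hy, hxy⟩, -⟩ := hgT _ ⟨⟨x, hx, rfl⟩, h3⟩
      exact ⟨y, hy, hxy.symm⟩

theorem disc_cf {κ ρ : Type} [Fintype κ] [DecidableEq κ] [Fintype ρ] [DecidableEq ρ] (d : ρ → F) :
    disc (DQ (cf κ d)) = (2 ^ Fintype.card κ * 2 ^ Fintype.card κ) * disc (DQ d) := by
  rw [disc_DQ, disc_DQ, Fintype.prod_sum_type]
  congr 1
  have e : ∀ x : κ × Fin 2, (2 : F) * cf κ d (Sum.inl x) = 2 := fun x => mul_one _
  rw [Finset.prod_congr rfl fun x _ => e x, Finset.prod_const, Finset.card_univ, Fintype.card_prod,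
    Fintype.card_fin, mul_comm (Fintype.card κ) 2, two_mul, pow_add]

theorem noSq_empty (d : Fin 0 → F) : NoSq d := fun _ _ => Subsingleton.elim _ _

theorem noSq_unit (h2 : (2 : F) ≠ 0) (d : F) (hd : d ≠ 0) : NoSq (fun _ : Unit => d) := by
  intro b hb
  rcases isometry_unit d hd b with h | h
  · rw [h]
    rfl
  · exfalso
    rw [h] at hb
    have h3 := congrFun (congrFun hb ()) ()
    simp [Matrix.mul_apply] at h3
    rcases h3 with h3 | h3
    · exact h2 (by linear_combination h3)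
    · exact h2 (by linear_combination -h3)

/-- Odd dimension. -/
theorem sc_odd (hF : Odd (Fintype.card F)) {ι : Type} [Fintype ι] [DecidableEq ι]
    (Q : QuadraticForm F (ι → F)) (hQ : (polarBilin Q).Nondegenerate) (m : ℕ)
    (hm : Fintype.card ι = 2 * m + 1) (hm3 : 3 ≤ m) : SC (Cfsg.isometryGroup F (⇑Q)) := by
  have h2 := two_ne_zero_of_odd hF
  have hQ0 := disc_ne_zero' Q hQ
  set d : Unit → F := fun _ => 2 * disc Q with hd
  have hd0 : ∀ r, d r ≠ 0 := fun _ => mul_ne_zero h2 hQ0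
  have hdd : disc (DQ d) = disc Q * (2 * 2) := by
    rw [disc_DQ]
    simp only [Finset.univ_unique, Finset.prod_singleton, hd]
    ring
  obtain ⟨e, he⟩ := exists_equiv h2 (DQ (cf (Fin m) d)) Q (DQ_nondegenerate h2 _ (cf_ne d hd0)) hQ (by
    rw [hm, Fintype.card_sum, Fintype.card_prod, Fintype.card_fin, Fintype.card_fin, Fintype.card_unit]; ring)
    ⟨disc Q * (2 * 2 ^ Fintype.card (Fin m)), by rw [disc_cf, hdd]; ring⟩
  refine SC.congr (isoConj e _ _ he) ?_
  exact sc_main hF (by rw [Fintype.card_fin]; exact hm3) d hd0 (noSq_unit h2 _ (hd0 ())) (sn_line hF _ (hd0 ()))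

/-- Even dimension. -/
theorem sc_even (hF : Odd (Fintype.card F)) {ι : Type} [Fintype ι] [DecidableEq ι]
    (Q : QuadraticForm F (ι → F)) (hQ : (polarBilin Q).Nondegenerate) (m : ℕ)
    (hm : Fintype.card ι = 2 * m) (hm4 : 4 ≤ m) : SC (Cfsg.isometryGroup F (⇑Q)) := by
  have h2 := two_ne_zero_of_odd hF
  have hQ0 := disc_ne_zero' Q hQ
  by_cases hs : IsSquare (disc Q)
  · set d : Fin 0 → F := fun _ => 1 with hd
    have hd0 : ∀ r, d r ≠ 0 := fun _ => one_ne_zero
    have hdd : disc (DQ d) = 1 := by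
      rw [disc_DQ]
      simp
    obtain ⟨e, he⟩ := exists_equiv h2 (DQ (cf (Fin m) d)) Q (DQ_nondegenerate h2 _ (cf_ne d hd0)) hQ (by
      rw [hm, Fintype.card_sum, Fintype.card_prod, Fintype.card_fin, Fintype.card_fin, Fintype.card_fin]; ring)
      (by rw [disc_cf, hdd, mul_one]; exact IsSquare.mul ⟨_, rfl⟩ hs)
    refine SC.congr (isoConj e _ _ he) ?_
    refine sc_main hF (by rw [Fintype.card_fin]; omega) d hd0 (noSq_empty d) (sn_of_two_group ?_)
    intro x
    refine ⟨0, ?_⟩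
    apply Subtype.ext
    apply Units.ext
    exact Subsingleton.elim _ _
  · obtain ⟨k, rfl⟩ : ∃ k, m = k + 1 := ⟨m - 1, by omega⟩
    set d : Fin 2 → F := ![1, disc Q] with hd
    have hd0 : ∀ r, d r ≠ 0 := by
      intro i
      fin_cases i
      · exact one_ne_zero
      · exact hQ0
    have hdd : disc (DQ d) = disc Q * (2 * 2) := by
      rw [disc_DQ, Fin.prod_univ_two, hd]
      simp only [Matrix.cons_val_zero, Matrix.cons_val_one]
      ring
    obtain ⟨e, he⟩ := exists_equiv h2 (DQ (cf (Fin k) d)) Q (DQ_nondegenerate h2 _ (cf_ne d hd0)) hQ (by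
      rw [hm, Fintype.card_sum, Fintype.card_prod, Fintype.card_fin, Fintype.card_fin]; ring)
      ⟨disc Q * (2 * 2 ^ Fintype.card (Fin k)), by rw [disc_cf, hdd]; ring⟩
    refine SC.congr (isoConj e _ _ he) ?_
    refine sc_main hF (by rw [Fintype.card_fin]; omega) d hd0 ?_
      (sn_plane hF (Fintype.card_fin 2) _ (DQ_nondegenerate h2 d hd0))
    intro b hb
    refine plane_ns h2 d hd0 ?_ b.2 hb
    have e1 : d 0 * d 1 = disc Q := by
      rw [hd]
      simp
    rw [e1]
    exact hs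

/-! ### The simple groups -/

theorem self_odd (hF : Odd (Fintype.card F)) (m : ℕ) (hm : 3 ≤ m)
    (S : Sylow 2 (Cfsg.POmega F (Cfsg.quadFormOdd m F))) :
    normalizer ((S : Subgroup (Cfsg.POmega F (Cfsg.quadFormOdd m F))) :
      Set (Cfsg.POmega F (Cfsg.quadFormOdd m F))) ≤ S := by
  have h := sc_odd hF (quadOdd m F) (quadOdd_nondegenerate (m := m) (two_ne_zero_of_odd hF)) m (by
    simp only [Fintype.card_sum, Fintype.card_fin, Fintype.card_unit]; ring) hm
  rw [coe_quadOdd] at h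
  exact h.self S

theorem self_plus (hF : Odd (Fintype.card F)) (m : ℕ) (hm : 4 ≤ m)
    (S : Sylow 2 (Cfsg.POmega F (Cfsg.quadFormPlus m F))) :
    normalizer ((S : Subgroup (Cfsg.POmega F (Cfsg.quadFormPlus m F))) :
      Set (Cfsg.POmega F (Cfsg.quadFormPlus m F))) ≤ S := by
  have h := sc_even hF (quadPlus m F) (quadPlus_nondegenerate (m := m)) m (by
    simp only [Fintype.card_sum, Fintype.card_fin]; ring) hm
  rw [coe_quadPlus] at h
  exact h.self S

theorem self_minus (hF : Odd (Fintype.card F)) (m : ℕ) (hm : 4 ≤ m) (a b : F)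
    (hab : ∀ z₁ z₂ : F, z₁ ^ 2 + a * z₁ * z₂ + b * z₂ ^ 2 = 0 → z₁ = 0 ∧ z₂ = 0)
    (S : Sylow 2 (Cfsg.POmega F (Cfsg.quadFormMinus (m - 1) F a b))) :
    normalizer ((S : Subgroup (Cfsg.POmega F (Cfsg.quadFormMinus (m - 1) F a b))) :
      Set (Cfsg.POmega F (Cfsg.quadFormMinus (m - 1) F a b))) ≤ S := by
  have h := sc_even hF (quadMinus (m - 1) F a b) (quadMinus_nondegenerate hab) m (by
    simp only [Fintype.card_sum, Fintype.card_fin]; omega) hm
  rw [coe_quadMinus] at h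
  exact h.self S

theorem row_omega_odd (hF : Odd (Fintype.card F)) (m : ℕ) (hm : 3 ≤ m) :
    H747.RowTwo (Cfsg.POmega F (Cfsg.quadFormOdd m F)) := by
  obtain ⟨S⟩ := (inferInstance : Nonempty (Sylow 2 (Cfsg.POmega F (Cfsg.quadFormOdd m F))))
  exact Or.inl (H747.OddRow.of_self S (self_odd hF m hm S))

theorem row_omega_plus (hF : Odd (Fintype.card F)) (m : ℕ) (hm : 4 ≤ m) :
    H747.RowTwo (Cfsg.POmega F (Cfsg.quadFormPlus m F)) := by
  obtain ⟨S⟩ := (inferInstance : Nonempty (Sylow 2 (Cfsg.POmega F (Cfsg.quadFormPlus m F))))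
  exact Or.inl (H747.OddRow.of_self S (self_plus hF m hm S))

theorem row_omega_minus (hF : Odd (Fintype.card F)) (m : ℕ) (hm : 4 ≤ m) (a b : F)
    (hab : ∀ z₁ z₂ : F, z₁ ^ 2 + a * z₁ * z₂ + b * z₂ ^ 2 = 0 → z₁ = 0 ∧ z₂ = 0) :
    H747.RowTwo (Cfsg.POmega F (Cfsg.quadFormMinus (m - 1) F a b)) := by
  obtain ⟨S⟩ := (inferInstance : Nonempty (Sylow 2 (Cfsg.POmega F (Cfsg.quadFormMinus (m - 1) F a b))))
  exact Or.inl (H747.OddRow.of_self S (self_minus hF m hm a b hab S))

end Field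

end Cfsg.Agent.H803.RowOmega
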