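import Cfsg.Agent.H803.Invol
/-!
# Strongly closed subgroups of rank two, p odd, are normal (helper803)
-/
set_option autoImplicit false

namespace Cfsg.Agent.H803
open Cfsg Cfsg.FusionSystem Cfsg.Agent.H759
open scoped commutatorElement

section
variable {G : Type*} [Group G]

/-- In a nilpotent group, `[N, G] < N` for a nontrivial normal subgroup `N`. -/
theorem commutator_top_lt [hnil : Group.IsNilpotent G] (N : Subgroup G) [N.Normal] (hN : N ≠ ⊥) :
    ⁅N, (⊤ : Subgroup G)⁆ < N := by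
  refine lt_of_le_of_ne (Subgroup.commutator_le_left N ⊤) (fun h => hN ?_)
  have h1 : ∀ n, N ≤ (⊤ : Subgroup G).lowerCentralSeries n := by
    intro n
    induction n with
    | zero => exact le_top
    | succ n ih =>
      rw [Subgroup.lowerCentralSeries_succ, ← h]
      exact Subgroup.commutator_mono ih le_rfl
  obtain ⟨n, hn⟩ := Subgroup.nilpotent_iff_lowerCentralSeries.1 hnil
  exact le_bot_iff.1 (hn ▸ h1 n)

/-- A normal subgroup of order at most `p ^ 2` of a finite `p`-group is centralized modulo a central subgroup. -/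
theorem commutator_central_of_card [Finite G] {p : ℕ} [Fact p.Prime] (hG : IsPGroup p G)
    (N : Subgroup G) [hNn : N.Normal] (hN : Nat.card N = p ^ 2) {w : G} (hw : w ∈ N) (g h : G) :
    h * ⁅g, w⁆ = ⁅g, w⁆ * h := by
  have hp : p.Prime := Fact.out
  have hnil : Group.IsNilpotent G := hG.isNilpotent
  have hlt : ∀ M : Subgroup G, M.Normal → M ≠ ⊥ → Nat.card (⁅M, (⊤ : Subgroup G)⁆ : Subgroup G) < Nat.card M := by
    intro M hM hM1
    have h1 := commutator_top_lt M hM1
    by_contra hcon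
    push Not at hcon
    exact h1.ne (Subgroup.eq_of_le_of_card_ge h1.le hcon)
  have hN1 : N ≠ ⊥ := by
    rintro rfl
    rw [Subgroup.card_bot] at hN
    have := Nat.one_lt_pow (n := 2) (by norm_num) hp.one_lt
    omega
  set D := ⁅N, (⊤ : Subgroup G)⁆ with hD
  have hDn : D.Normal := inferInstance
  have hDle : D ≤ N := Subgroup.commutator_le_left N ⊤
  have hDcard : Nat.card D ≤ p := by
    have h1 : Nat.card D ∣ p ^ 2 := hN ▸ Subgroup.card_dvd_of_le hDle
    obtain ⟨k, hk, hk'⟩ := (Nat.dvd_prime_pow hp).1 h1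
    have h2 := hlt N hNn hN1
    rw [← hD, hN, hk'] at h2
    have h3 : k < 2 := (Nat.pow_lt_pow_iff_right hp.one_lt).1 h2
    rw [hk']
    calc p ^ k ≤ p ^ 1 := Nat.pow_le_pow_right hp.pos (by omega)
      _ = p := pow_one p
  have hDD : ⁅D, (⊤ : Subgroup G)⁆ = ⊥ := by
    by_cases hD1 : D = ⊥
    · rw [hD1, Subgroup.commutator_bot_left]
    · have h2 := hlt D hDn hD1
      have h1 : Nat.card (⁅D, (⊤ : Subgroup G)⁆ : Subgroup G) ∣ p ^ 2 :=
        hN ▸ Subgroup.card_dvd_of_le ((Subgroup.commutator_le_left D ⊤).trans hDle)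
      obtain ⟨k, hk, hk'⟩ := (Nat.dvd_prime_pow hp).1 h1
      rw [hk'] at h2
      have h3 : p ^ k < p ^ 1 := by rw [pow_one]; exact lt_of_lt_of_le h2 hDcard
      have h4 : k < 1 := (Nat.pow_lt_pow_iff_right hp.one_lt).1 h3
      have h5 : k = 0 := by omega
      rw [h5, pow_zero] at hk'
      exact Subgroup.card_eq_one.1 hk'
  have h1 : ⁅w, g⁆ ∈ D := Subgroup.commutator_mem_commutator hw (Subgroup.mem_top g)
  have h2 : ⁅g, w⁆ ∈ D := by
    rw [← commutatorElement_inv]
    exact D.inv_mem h1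
  have h3 : ⁅⁅g, w⁆, h⁆ ∈ ⁅D, (⊤ : Subgroup G)⁆ :=
    Subgroup.commutator_mem_commutator h2 (Subgroup.mem_top h)
  rw [hDD, Subgroup.mem_bot, commutatorElement_eq_one_iff_mul_comm] at h3
  exact h3.symm

/-- In a finite `p`-group, a nontrivial element has a power of order `p`. -/
theorem exists_pow_order {p : ℕ} [Fact p.Prime] (hG : IsPGroup p G) {x : G} (hx : x ≠ 1) :
    ∃ n : ℕ, x ^ n ≠ 1 ∧ (x ^ n) ^ p = 1 := by
  have hp : p.Prime := Fact.out
  obtain ⟨k, hk⟩ := hG x
  have hex : ∃ m, x ^ p ^ m = 1 := ⟨k, hk⟩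
  classical
  have h1 := Nat.find_spec hex
  have h0 : Nat.find hex ≠ 0 := by
    intro h
    rw [h, pow_zero, pow_one] at h1
    exact hx h1
  obtain ⟨m, hm⟩ := Nat.exists_eq_succ_of_ne_zero h0
  refine ⟨p ^ m, fun h => ?_, ?_⟩
  · exact Nat.find_min hex (hm ▸ Nat.lt_succ_self m) h
  · rw [← pow_mul, ← pow_succ, ← Nat.succ_eq_add_one, ← hm]
    exact h1

theorem eq_one_of_pow_eq_one_of_pow_eq_one {p n : ℕ} [Fact p.Prime] (hn : ¬ p ∣ n) {x : G}
    (hx : x ^ p = 1) (hx' : x ^ n = 1) : x = 1 := by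
  have hp : p.Prime := Fact.out
  have h := pow_gcd_eq_one.mpr ⟨hx, hx'⟩
  rwa [((Nat.Prime.coprime_iff_not_dvd hp).2 hn).gcd_eq_one, pow_one] at h

/-- A nontrivial element of a subgroup of order `p` generates it. -/
theorem exists_pow_of_card_prime {p : ℕ} [Fact p.Prime] {Z : Subgroup G} (hZ : Nat.card Z = p)
    {z d : G} (hz : z ∈ Z) (hz1 : z ≠ 1) (hd : d ∈ Z) : ∃ s : ℕ, d = z ^ s := by
  classical
  have hp : p.Prime := Fact.out
  have hfin : Finite Z := Nat.finite_of_card_ne_zero (by rw [hZ]; exact hp.ne_zero)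
  have h1 : Subgroup.zpowers z ≤ Z := by rwa [Subgroup.zpowers_le]
  have h2 : Nat.card (Subgroup.zpowers z) ∣ p := hZ ▸ Subgroup.card_dvd_of_le h1
  have h3 : Nat.card (Subgroup.zpowers z) = p := by
    rcases (Nat.dvd_prime hp).1 h2 with h | h
    · exact absurd (Subgroup.zpowers_eq_bot.1 (Subgroup.card_eq_one.1 h)) hz1
    · exact h
  have h4 : Subgroup.zpowers z = Z := Subgroup.eq_of_le_of_card_ge h1 (by rw [h3, hZ])
  rw [← h4] at hd
  have hfz : IsOfFinOrder z := by
    have : Finite (Subgroup.zpowers z) := Nat.finite_of_card_ne_zero (by rw [h3]; exact hp.ne_zero)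
    exact isOfFinOrder_iff_pow_eq_one.2 ⟨p, hp.pos, by
      have := pow_card_eq_one' (x := (⟨z, Subgroup.mem_zpowers z⟩ : Subgroup.zpowers z))
      rw [h3] at this
      exact congrArg Subtype.val this⟩
  obtain ⟨s, hs⟩ := (hfz.mem_zpowers_iff_mem_range_orderOf).1 hd |> Finset.mem_image.1
  exact ⟨s, hs.2.symm⟩
end

variable {Ω : Type*} [Group Ω] {S : Subgroup Ω} {F : FusionSystem S} {p : ℕ}

/-- A strongly closed `P` (`p` odd) whose elements of order dividing `p` form a subgroup `W` of order `p ^ 2` is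
normal. -/
theorem isNormal_of_rank_two [Finite S] [Fact p.Prime] (hp2 : p ≠ 2) (hS : IsPGroup p S)
    (hF : F.IsSaturated p) {P W : Subgroup Ω} (hP : F.StronglyClosed P)
    (hWm : ∀ x, x ∈ W ↔ x ∈ P ∧ x ^ p = 1)
    (hab : ∀ a ∈ W, ∀ b ∈ W, a * b = b * a) (hcard : Nat.card W = p ^ 2) : F.IsNormal P := by
  have hp : p.Prime := Fact.out
  have hWP : W ≤ P := fun x hx => ((hWm x).1 hx).1
  have hfP : Finite P := H802.finite_of_le hP.1
  have hfW : Finite W := H802.finite_of_le (hWP.trans hP.1)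
  have hPp : IsPGroup p P := hS.to_le hP.1
  have hWsc : F.StronglyClosed W := by
    refine ⟨hWP.trans hP.1, fun R hR φ hφ x => (hWm _).2 ⟨hP.2 R (hR.trans hWP) φ hφ x, ?_⟩⟩
    rw [← map_pow]
    have h1 : x ^ p = 1 := Subtype.ext (by simpa using ((hWm _).1 (hR x.2)).2)
    rw [h1, map_one]
  have hW : F.IsNormal W := by
    refine isNormal_of_abelian hS hF hWsc ?_
    rw [Subgroup.commutator_eq_bot_iff_le_centralizer]
    exact fun a ha => Subgroup.mem_centralizer_iff.2 fun b hb => hab b hb a ha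
  have hW1 : ∀ x ∈ P, x ^ p = 1 → x ∈ W := fun x hx h => (hWm x).2 ⟨hx, h⟩
  have hWN : P ≤ Subgroup.normalizer (W : Set Ω) :=
    hP.1.trans (StronglyClosed.le_normalizer hWsc)
  set Z := W ⊓ Subgroup.centralizer (P : Set Ω) with hZdef
  -- `[P, W] ≤ Z`
  have hPW : ∀ g ∈ P, ∀ w ∈ W, ⁅g, w⁆ ∈ Z := by
    intro g hg w hw
    refine ⟨?_, ?_⟩
    · rw [commutatorElement_def]
      exact W.mul_mem ((Subgroup.mem_normalizer_iff.1 (hWN hg) w).1 hw) (W.inv_mem hw)
    · refine Subgroup.mem_centralizer_iff.2 ?_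
      intro h hh
      have hN : (W.subgroupOf P).Normal := by
        rw [Subgroup.normal_subgroupOf_iff hWP]
        intro x y hx hy
        exact (Subgroup.mem_normalizer_iff.1 (hWN hy) x).1 hx
      have hc : Nat.card (W.subgroupOf P) = p ^ 2 := by
        rw [← hcard]
        exact Nat.card_congr (Subgroup.subgroupOfEquivOfLe hWP).toEquiv
      have := commutator_central_of_card hPp (W.subgroupOf P) hc
        (w := ⟨w, hWP hw⟩) hw ⟨g, hg⟩ ⟨h, hh⟩
      exact congrArg Subtype.val this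
  by_cases hcen : W ≤ Subgroup.centralizer (P : Set Ω)
  · refine isNormal_of_omega_chain hp2 hS hF hP 1 (fun i => if i = 0 then ⊥ else W) (by simp)
      (fun x hx h => by simpa using hW1 x hx h) ?_ ?_
    · intro i hi
      rcases Nat.eq_zero_or_pos i with h | h
      · simp only [h, if_true]; exact StronglyClosed.bot
      · simp only [if_neg (show i ≠ 0 by omega)]; exact hWsc
    · intro i hi
      have : i = 0 := by omega
      subst this
      simp only [zero_add, one_ne_zero, if_false, if_true, le_bot_iff]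
      rw [Subgroup.commutator_comm, Subgroup.commutator_eq_bot_iff_le_centralizer]
      exact hcen
  by_cases hZsc : F.StronglyClosed Z
  · refine isNormal_of_omega_chain hp2 hS hF hP 2
      (fun i => if i = 0 then ⊥ else if i = 1 then Z else W) (by simp)
      (fun x hx h => by simpa using hW1 x hx h) ?_ ?_
    · intro i hi
      rcases i with _ | _ | i
      · exact StronglyClosed.bot
      · exact hZsc
      · exact hWsc
    · intro i hi
      rcases i with _ | _ | i
      · simp only [zero_add, one_ne_zero, if_false, if_true, le_bot_iff]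
        rw [Subgroup.commutator_comm, Subgroup.commutator_eq_bot_iff_le_centralizer]
        exact inf_le_right
      · show ⁅P, W⁆ ≤ Z
        rw [Subgroup.commutator_le]
        exact hPW
      · omega
  -- the exceptional case
  exfalso
  have hZS : Z ≤ S := inf_le_left.trans (hWP.trans hP.1)
  obtain ⟨R, hRZ, φ, hφ, x, hx⟩ : ∃ R : Subgroup Ω, R ≤ Z ∧ ∃ φ : R →* Ω, φ ∈ F.Hom R ∧
      ∃ x : R, φ x ∉ Z := by
    by_contra hcon
    push Not at hcon
    exact hZsc ⟨hZS, hcon⟩
  obtain ⟨α, hα, hαe⟩ := H792.exists_aut_extension hW (hRZ.trans inf_le_left) hφ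
  have hxZ : (x : Ω) ∈ Z := hRZ x.2
  set z : W := ⟨x, hxZ.1⟩ with hz
  set y : W := α z with hy
  have hyZ : (y : Ω) ∉ Z := by rw [hy, ← hαe]; exact hx
  have hz1 : (x : Ω) ≠ 1 := by
    intro h
    apply hyZ
    have : z = 1 := Subtype.ext h
    rw [hy, this, map_one]
    exact Z.one_mem
  have hWp : ∀ w : W, w ^ p = 1 := fun w => Subtype.ext (by simpa using ((hWm _).1 w.2).2)
  have habW : ∀ a b : W, a * b = b * a := fun a b => Subtype.ext (hab a a.2 b b.2)
  -- the order of subgroups between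
  have hlt : ∀ C : Subgroup Ω, C ≤ W → (x : Ω) ∈ C → C ≠ W → Nat.card C = p := by
    intro C hCW hxC hne
    have h1 : Nat.card C ∣ p ^ 2 := hcard ▸ Subgroup.card_dvd_of_le hCW
    obtain ⟨k, hk, hk'⟩ := (Nat.dvd_prime_pow hp).1 h1
    have hfC : Finite C := H802.finite_of_le (hCW.trans (hWP.trans hP.1))
    have h2 : k ≠ 2 := by
      rintro rfl
      exact hne (Subgroup.eq_of_le_of_card_ge hCW (by rw [hk', hcard]))
    have h3 : k ≠ 0 := by
      rintro rfl
      rw [pow_zero] at hk'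
      have := Subgroup.card_eq_one.1 hk'
      rw [this, Subgroup.mem_bot] at hxC
      exact hz1 hxC
    have h4 : k = 1 := by omega
    rw [hk', h4, pow_one]
  have hZne : Z ≠ W := fun h => hcen (h ▸ inf_le_right)
  have hZcard : Nat.card Z = p := hlt Z inf_le_left hxZ hZne
  have hZpow : ∀ d ∈ Z, ∃ s : ℕ, d = (x : Ω) ^ s :=
    fun d hd => exists_pow_of_card_prime hZcard hxZ hz1 hd
  -- an element of `P` not centralizing `y`
  obtain ⟨g, hg, hgy⟩ : ∃ g ∈ P, g * (y : Ω) ≠ y * g := by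
    by_contra hcon
    push Not at hcon
    exact hyZ ⟨y.2, Subgroup.mem_centralizer_iff.2 hcon⟩
  set τ : MulAut W := conjAut W g (hWN hg) with hτ
  have hτF : τ ∈ F.autGroup W := H802.autInducedBy_le_autGroup F hW.1
    ((H802.mem_autInducedBy_iff S W _).2 ⟨g, hP.1 hg, fun x => rfl⟩)
  have hτe : ∀ w : W, ((τ w : W) : Ω) = g * w * g⁻¹ := fun w => rfl
  have hτz : τ z = z := by
    apply Subtype.ext
    rw [hτe]
    have h1 := Subgroup.mem_centralizer_iff.1 hxZ.2 g hg
    show g * (x : Ω) * g⁻¹ = x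
    rw [h1]; group
  have hτw : ∀ w : W, ∃ s : ℕ, τ w = w * z ^ s := by
    intro w
    have h1 : (w : Ω)⁻¹ * (g * w * g⁻¹) ∈ Z := by
      have h2 := Z.inv_mem (hPW g hg (w : Ω)⁻¹ (W.inv_mem w.2))
      have h3 : (⁅g, (w : Ω)⁻¹⁆)⁻¹ = (w : Ω)⁻¹ * (g * w * g⁻¹) := by
        rw [commutatorElement_def]; group
      rwa [h3] at h2
    obtain ⟨s, hs⟩ := hZpow _ h1
    refine ⟨s, Subtype.ext ?_⟩
    rw [hτe]
    show g * (w : Ω) * g⁻¹ = w * (x : Ω) ^ s
    rw [← hs]; group
  -- fixed points of `τ`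
  have hfix : ∀ c : W, τ c = c → (c : Ω) ∈ Z := by
    intro c hc
    by_contra hcZ
    let C : Subgroup Ω := W ⊓ Subgroup.centralizer {g}
    have hCW : C ≤ W := inf_le_left
    have hmemC : ∀ w : W, τ w = w ↔ (w : Ω) ∈ C := by
      intro w
      constructor
      · intro h
        refine ⟨w.2, Subgroup.mem_centralizer_iff.2 ?_⟩
        rintro _ rfl
        have h1 := congrArg Subtype.val h
        rw [hτe] at h1
        rw [← mul_inv_eq_iff_eq_mul]
        exact h1
      · rintro ⟨-, h⟩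
        apply Subtype.ext
        rw [hτe, Subgroup.mem_centralizer_iff.1 h g rfl]
        group
    have hZC : Z ≤ C := by
      intro d hd
      refine ⟨hd.1, Subgroup.mem_centralizer_iff.2 ?_⟩
      rintro _ rfl
      exact Subgroup.mem_centralizer_iff.1 hd.2 _ hg
    have hCne : C ≠ W := by
      intro h
      have h1 : (y : Ω) ∈ C := h.symm ▸ y.2
      exact hgy (Subgroup.mem_centralizer_iff.1 h1.2 g rfl)
    have h1 : Nat.card C = p := hlt C hCW (hZC hxZ) hCne
    have hfC : Finite C := H802.finite_of_le (hCW.trans (hWP.trans hP.1))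
    have h2 : Z = C := Subgroup.eq_of_le_of_card_ge hZC (by rw [h1, hZcard])
    exact hcZ (h2 ▸ (hmemC c).1 hc)
  obtain ⟨a, ha⟩ := hτw y
  have hpa : ¬ p ∣ a := by
    rintro ⟨t, rfl⟩
    apply hyZ
    apply hfix
    rw [ha, pow_mul, hWp, one_pow, mul_one]
  set τ' : MulAut W := α * τ * α⁻¹ with hτ'
  have hτ'F : τ' ∈ F.autGroup W := mul_mem (mul_mem hα hτF) (inv_mem hα)
  have hαi : ∀ w : W, α (α⁻¹ w) = w := fun w => α.apply_symm_apply w
  have hαi' : ∀ w : W, α⁻¹ (α w) = w := fun w => α.symm_apply_apply w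
  have hτ'y : τ' y = y := by
    show α (τ (α⁻¹ (α z))) = α z
    rw [hαi', hτz]
  have hτ'w : ∀ w : W, ∃ s : ℕ, τ' w = w * y ^ s := by
    intro w
    obtain ⟨s, hs⟩ := hτw (α⁻¹ w)
    refine ⟨s, ?_⟩
    show α (τ (α⁻¹ w)) = w * y ^ s
    rw [hs, map_mul, map_pow, hαi]
  obtain ⟨b, hb⟩ := hτ'w z
  have hz'1 : z ≠ 1 := fun h => hz1 (congrArg Subtype.val h)
  have hpb : ¬ p ∣ b := by
    rintro ⟨t, rfl⟩
    have h1 : τ' z = z := by rw [hb, pow_mul, hWp, one_pow, mul_one]
    have h2 : τ (α⁻¹ z) = α⁻¹ z := by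
      apply α.injective
      rw [hαi]
      exact h1
    obtain ⟨s, hs⟩ := hZpow _ (hfix _ h2)
    have hs' : α⁻¹ z = z ^ s := Subtype.ext hs
    have h3 : z = y ^ s := by
      have := congrArg α hs'
      rw [hαi, map_pow] at this
      exact this
    have hps : ¬ p ∣ s := by
      rintro ⟨t, rfl⟩
      apply hz'1
      rw [h3, pow_mul, hWp, one_pow]
    obtain ⟨k, hk⟩ := exists_inv_mod (W := W) hps
    apply hyZ
    have h4 : y = z ^ k := by
      rw [h3, ← pow_mul, hk y (hWp y)]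
    rw [h4]
    show ((z : Ω)) ^ k ∈ Z
    exact Z.pow_mem hxZ k
  obtain ⟨i, hi, hiz, hiy, hdec⟩ := exists_neg habW τ τ' z y (hWp z) (hWp y) hτz hτ'y a b hpa hpb ha hb
    hτw hτ'w
  have hiF : i ∈ F.autGroup W := by
    have h1 : Subgroup.closure {τ, τ'} ≤ F.autGroup W := by
      rw [Subgroup.closure_le]
      rintro _ (rfl | rfl)
      · exact hτF
      · exact hτ'F
    exact h1 hi
  have hiw : ∀ w : W, i w = w⁻¹ := by
    intro w
    obtain ⟨m, n, c, hw, hc1, hc2, hc3⟩ := hdec w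
    obtain ⟨k, hk⟩ := hZpow _ (hfix c hc1)
    have hk' : c = z ^ k := Subtype.ext hk
    have hc : c = 1 := by
      have h1 : y ^ (b * k) = 1 := by
        have h2 := hc2
        rw [hk', map_pow, hb] at h2
        have h3 : (z * y ^ b) ^ k = z ^ k * y ^ (b * k) := by
          rw [pow_mul]
          exact (show Commute z (y ^ b) from habW _ _).mul_pow k
        rw [h3, mul_eq_left] at h2
        exact h2
      have h2 : p ∣ k := by
        by_contra hpk
        have h4 : ¬ p ∣ b * k := fun h => (hp.dvd_mul.1 h).elim hpb hpk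
        have h5 := eq_one_of_pow_eq_one_of_pow_eq_one h4 (hWp y) h1
        apply hyZ
        rw [h5]
        exact Z.one_mem
      obtain ⟨t, rfl⟩ := h2
      rw [hk', pow_mul, hWp, one_pow]
    rw [hw, hc, one_mul, map_mul, map_pow, map_pow, hiy, hiz, mul_inv_rev, inv_pow, inv_pow]
    exact habW _ _
  obtain ⟨j, hj, hjW, hjj⟩ := exists_involution hp2 hS hF hP hW hWP hW1 hiF
    (by
      apply MulEquiv.ext
      intro w
      show i (i w) = w
      rw [hiw, hiw, inv_inv])
    (by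
      intro g hg w hgw
      rw [hiw, hiw]
      show (g * (w : Ω) * g⁻¹)⁻¹ = g * (w : Ω)⁻¹ * g⁻¹
      group)
  have hfpf : MonoidHom.FixedPointFree j := by
    intro w hw
    by_contra hw1
    obtain ⟨n, hn1, hn2⟩ := exists_pow_order hPp hw1
    have h1 : (((w ^ n : P)) : Ω) ∈ W := hW1 _ (w ^ n).2 (by
      have := congrArg Subtype.val hn2
      simpa using this)
    have h2 : j (w ^ n) = w ^ n := by rw [map_pow, hw]
    have h3 := hjW _ h1
    have h4 : (⟨((w ^ n : P) : Ω), hWP h1⟩ : P) = w ^ n := rfl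
    rw [h4, h2, hiw] at h3
    have h5 : (w ^ n) * (w ^ n) = 1 := by
      apply Subtype.ext
      have h6 : ((w ^ n : P) : Ω) = ((w ^ n : P) : Ω)⁻¹ := h3
      show ((w ^ n : P) : Ω) * ((w ^ n : P) : Ω) = 1
      nth_rewrite 1 [h6]
      exact inv_mul_cancel _
    apply hn1
    have h7 : ¬ p ∣ 2 := fun h => hp2 ((Nat.prime_dvd_prime_iff_eq hp Nat.prime_two).1 h)
    exact eq_one_of_pow_eq_one_of_pow_eq_one h7 hn2 (by rw [pow_two]; exact h5)
  have hinv : Function.Involutive j := fun w => by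
    have := congrArg (fun f : MulAut P => f w) hjj
    exact this
  have hcomm := hfpf.commute_all_of_involutive hinv ⟨g, hg⟩ ⟨y, hWP y.2⟩
  exact hgy (congrArg Subtype.val hcomm.eq)

end Cfsg.Agent.H803
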