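import Cfsg.Agent.H803.GenExtraB
import Cfsg.Agent.H803.RankTwo
/-!
# Strongly closed generalized extraspecial subgroups are normal (helper803)
-/
set_option autoImplicit false

namespace Cfsg.Agent.H803
open Cfsg Cfsg.FusionSystem Cfsg.Agent.H759
open scoped commutatorElement

variable {Ω : Type*} [Group Ω] {S : Subgroup Ω} {F : FusionSystem S} {p : ℕ}

/-- Data of a strongly closed generalized extraspecial group. -/
structure GE (F : FusionSystem S) (p : ℕ) (P Z : Subgroup Ω) : Prop where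
  closed : F.StronglyClosed P
  le : Z ≤ P
  card : Nat.card Z = p
  comm : ∀ a ∈ P, ∀ b ∈ P, ⁅a, b⁆ ∈ Z
  pow : ∀ a ∈ P, a ^ p ∈ Z
  cen : ∀ z ∈ Z, ∀ s ∈ S, s * z = z * s
  nab : ∃ a ∈ P, ∃ b ∈ P, a * b ≠ b * a

/-- The first claim: an element outside `Z` fused into `Z` has an elementary abelian centralizer in `P`. -/
theorem GE.claim [Finite S] [Fact p.Prime] (hS : IsPGroup p S) (hF : F.IsSaturated p)
    {P Z : Subgroup Ω} (h : GE F p P Z) {y : Ω} (hyP : y ∈ P) (hyZ : y ∉ Z) {R : Subgroup Ω}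
    {φ : R →* Ω} (hφ : φ ∈ F.Hom R) (hyR : y ∈ R) (hφy : φ ⟨y, hyR⟩ ∈ Z) :
    (∀ u ∈ P, u * y = y * u → ∀ v ∈ P, v * y = y * v → u * v = v * u) ∧
    (∀ u ∈ P, u * y = y * u → u ^ p = 1) ∧ ∃ g ∈ P, g * y ≠ y * g := by
  have hp : p.Prime := Fact.out
  have hPS := h.closed.1
  have hZS : Z ≤ S := h.le.trans hPS
  have hy1 : y ≠ 1 := fun h' => hyZ (h' ▸ Z.one_mem)
  have hRS : R ≤ S := H802.hom_le hφ
  -- restrict to `⟨y⟩`
  have hle : Subgroup.zpowers y ≤ R := by rwa [Subgroup.zpowers_le]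
  have hψ := H802.restrict_mem hφ hle
  set ψ := φ.comp (Subgroup.inclusion hle) with hψdef
  have hψy : ψ ⟨y, Subgroup.mem_zpowers y⟩ = φ ⟨y, hyR⟩ := rfl
  have hφ1 : φ ⟨y, hyR⟩ ≠ 1 := by
    intro h'
    apply hy1
    have h2 : (⟨y, hyR⟩ : R) = 1 := F.injective_of_mem hφ (by rw [h', map_one])
    exact congrArg Subtype.val h2
  have hrange : ψ.range = Z := by
    apply le_antisymm
    · rintro _ ⟨⟨x, n, rfl⟩, rfl⟩
      have h1 : (⟨y ^ n, _⟩ : Subgroup.zpowers y) = ⟨y, Subgroup.mem_zpowers y⟩ ^ n := rfl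
      show ψ ⟨y ^ n, _⟩ ∈ Z
      rw [h1, map_zpow]
      exact Z.zpow_mem hφy n
    · intro d hd
      obtain ⟨n, hn⟩ := exists_pow_of_card_prime h.card hφy hφ1 hd
      exact ⟨⟨y, Subgroup.mem_zpowers y⟩ ^ n, by rw [map_pow, hψy, hn]⟩
  -- `Z` is receptive
  have hZN : ∀ X : Subgroup Ω, X ≤ S → Nat.card (normalizerIn S X) ≤ Nat.card S := fun X _ => by
    have hfin : Finite S := inferInstance
    exact Nat.card_le_card_of_injective _ (Subgroup.inclusion_injective (inf_le_left : normalizerIn S X ≤ S))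
  have hZfn : F.IsFullyNormalized Z := by
    refine ⟨hZS, fun X hX => ?_⟩
    have h1 : normalizerIn S Z = S := by
      refine le_antisymm inf_le_left (le_inf le_rfl ?_)
      intro s hs
      apply Subgroup.centralizer_le_normalizer
      exact Subgroup.mem_centralizer_iff.2 fun z hz => (h.cen z hz s hs).symm
    rw [h1]
    exact hZN X (H802.isConj_le_right hX)
  have hZr := H802.isReceptive_of_isFullyNormalized hS hF hZfn
  obtain ⟨N, hN, χ, hχ, hχe⟩ : ∃ N : Subgroup Ω, N = extender S (Subgroup.zpowers y) ψ ∧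
      ∃ χ ∈ F.Hom N, ∀ (x : Ω) (hP : x ∈ Subgroup.zpowers y) (hN : x ∈ N),
        χ ⟨x, hN⟩ = ψ ⟨x, hP⟩ := ⟨_, rfl, hZr.2 _ ψ hψ hrange⟩
  have hyN : y ∈ N := by
    rw [hN]
    exact H802.le_extender (hle.trans hRS) (H802.hom_apply_mem hψ) (Subgroup.mem_zpowers y)
  have hχy : χ ⟨y, hyN⟩ = φ ⟨y, hyR⟩ := hχe y (Subgroup.mem_zpowers y) hyN
  have hCN : ∀ u ∈ P, u * y = y * u → u ∈ N := by
    intro u hu huy
    rw [hN]
    apply H802.centralizerIn_le_extender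
    refine ⟨hPS hu, Subgroup.mem_centralizer_iff.2 ?_⟩
    rintro _ ⟨n, rfl⟩
    exact ((show Commute u y from huy).zpow_right n).eq.symm
  have hχP : ∀ (u : Ω) (hu : u ∈ P) (huN : u ∈ N), χ ⟨u, huN⟩ ∈ P :=
    fun u hu huN => StronglyClosed.apply_mem h.closed hχ (x := ⟨u, huN⟩) hu
  -- nothing nontrivial of `Z` is mapped into `Z`
  have key : ∀ d ∈ Z, ∀ hdN : d ∈ N, χ ⟨d, hdN⟩ ∈ Z → d = 1 := by
    intro d hd hdN hχd
    by_contra hd1
    have h1 : χ ⟨d, hdN⟩ ≠ 1 := by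
      intro h'
      apply hd1
      have h2 : (⟨d, hdN⟩ : N) = 1 := F.injective_of_mem hχ (by rw [h', map_one])
      exact congrArg Subtype.val h2
    obtain ⟨n, hn⟩ := exists_pow_of_card_prime h.card hχd h1 hφy
    rw [← hχy, ← map_pow] at hn
    have h2 := F.injective_of_mem hχ hn
    have h3 : y = d ^ n := congrArg Subtype.val h2
    apply hyZ
    rw [h3]
    exact Z.pow_mem hd n
  have hab : ∀ u ∈ P, u * y = y * u → ∀ v ∈ P, v * y = y * v → u * v = v * u := by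
    intro u hu huy v hv hvy
    rw [← commutatorElement_eq_one_iff_mul_comm]
    have huN := hCN u hu huy
    have hvN := hCN v hv hvy
    have hcN : ⁅u, v⁆ ∈ N := by
      rw [commutatorElement_def]
      exact N.mul_mem (N.mul_mem (N.mul_mem huN hvN) (N.inv_mem huN)) (N.inv_mem hvN)
    refine key _ (h.comm u hu v hv) hcN ?_
    have h1 : (⟨⁅u, v⁆, hcN⟩ : N) = ⁅(⟨u, huN⟩ : N), ⟨v, hvN⟩⁆ := Subtype.ext rfl
    rw [h1, map_commutatorElement]
    exact h.comm _ (hχP u hu huN) _ (hχP v hv hvN)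
  refine ⟨hab, fun u hu huy => ?_, ?_⟩
  · have huN := hCN u hu huy
    refine key _ (h.pow u hu) (N.pow_mem huN p) ?_
    have h1 : (⟨u ^ p, N.pow_mem huN p⟩ : N) = ⟨u, huN⟩ ^ p := Subtype.ext rfl
    rw [h1, map_pow]
    exact h.pow _ (hχP u hu huN)
  · by_contra hcon
    push Not at hcon
    obtain ⟨a, ha, b, hb, hab'⟩ := h.nab
    exact hab' (hab a ha (hcon a ha) b hb (hcon b hb))

/-- Commutators with a fixed element behave additively. -/
theorem conj_pow_of_central {g y z : Ω} {t : ℕ} (h : g * y * g⁻¹ = y * z ^ t) (hyz : y * z = z * y)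
    (m : ℕ) : g * y ^ m * g⁻¹ = y ^ m * z ^ (t * m) := by
  have h1 : g * y ^ m * g⁻¹ = (g * y * g⁻¹) ^ m := by
    rw [conj_pow]
  rw [h1, h, pow_mul]
  exact ((show Commute y z from hyz).pow_right t).mul_pow m

/-- **The main theorem.** -/
theorem GE.isNormal [Finite S] [Fact p.Prime] (hS : IsPGroup p S) (hF : F.IsSaturated p)
    {P Z : Subgroup Ω} (h : GE F p P Z)
    (h2 : p = 2 → ¬ ∃ (A : Type) (_ : CommGroup A), (∀ a : A, a ^ 2 = 1) ∧
      Nonempty (↥P ≃* DihedralGroup 4 × A))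
    (hodd : p ≠ 2 → ¬ ∃ (E : Type) (_ : Group E) (A : Type) (_ : CommGroup A),
      Cfsg.IsExtraspecial p E ∧ Nat.card E = p ^ 3 ∧ Monoid.exponent E = p ∧
      (∀ a : A, a ^ p = 1) ∧ Nonempty (↥P ≃* E × A)) : F.IsNormal P := by
  have hp : p.Prime := Fact.out
  have hPS := h.closed.1
  have hZS : Z ≤ S := h.le.trans hPS
  have hfP : Finite P := H802.finite_of_le hPS
  have hPZ : ∀ z ∈ Z, ∀ g ∈ P, g * z = z * g := fun z hz g hg => h.cen z hz g (hPS hg)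
  by_cases hZsc : F.StronglyClosed Z
  · refine isNormal_of_chain hS hF 2
      (fun i => if i = 0 then ⊥ else if i = 1 then Z else P) (by simp) (by simp) ?_ ?_
    · intro i hi
      rcases i with _ | _ | i
      · exact StronglyClosed.bot
      · exact hZsc
      · exact h.closed
    · intro i hi
      rcases i with _ | _ | i
      · simp only [zero_add, one_ne_zero, if_false, if_true, le_bot_iff]
        rw [Subgroup.commutator_comm, Subgroup.commutator_eq_bot_iff_le_centralizer]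
        exact fun z hz => Subgroup.mem_centralizer_iff.2 fun g hg => hPZ z hz g hg
      · show ⁅P, P⁆ ≤ Z
        rw [Subgroup.commutator_le]
        exact h.comm
      · omega
  exfalso
  -- a map of `Z` moving `Z`
  obtain ⟨R, hRZ, φ₀, hφ₀, x, hx⟩ : ∃ R : Subgroup Ω, R ≤ Z ∧ ∃ φ : R →* Ω, φ ∈ F.Hom R ∧
      ∃ x : R, φ x ∉ Z := by
    by_contra hcon
    push Not at hcon
    exact hZsc ⟨hZS, hcon⟩
  have hxZ : (x : Ω) ∈ Z := hRZ x.2
  set y₀ := φ₀ x with hy₀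
  have hy₀P : y₀ ∈ P := h.closed.2 R (hRZ.trans h.le) φ₀ hφ₀ x
  obtain ⟨φ₁, hφ₁, -, h11, h12⟩ := H802.exists_inv hφ₀ rfl
  have hy₀R : y₀ ∈ φ₀.range := ⟨x, rfl⟩
  have hφ₁y : φ₁ ⟨y₀, hy₀R⟩ ∈ Z := by
    have := h11 x hy₀R
    rw [this]
    exact hxZ
  obtain ⟨hWab, hWp, g₀, hg₀P, hg₀⟩ := h.claim hS hF hy₀P hx hφ₁ hy₀R hφ₁y
  have hx1 : (x : Ω) ≠ 1 := by
    intro h'
    apply hx
    have : x = 1 := Subtype.ext h'
    rw [hy₀, this, map_one]
    exact Z.one_mem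
  -- `W = C_P(y₀)`
  set W := P ⊓ Subgroup.centralizer {y₀} with hWdef
  have hWP : W ≤ P := inf_le_left
  have hWmem : ∀ u ∈ W, u * y₀ = y₀ * u := fun u hu =>
    (Subgroup.mem_centralizer_singleton_iff.1 hu.2)
  have hZW : Z ≤ W := fun z hz => ⟨h.le hz, Subgroup.mem_centralizer_singleton_iff.2
    (hPZ z hz y₀ hy₀P).symm⟩
  have hy₀W : y₀ ∈ W := ⟨hy₀P, Subgroup.mem_centralizer_singleton_iff.2 rfl⟩
  have hWab' : ∀ u ∈ W, ∀ v ∈ W, u * v = v * u := fun u hu v hv =>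
    hWab u hu.1 (hWmem u hu) v hv.1 (hWmem v hv)
  have hWp' : ∀ u ∈ W, u ^ p = 1 := fun u hu => hWp u hu.1 (hWmem u hu)
  have hg₀W : g₀ ∉ W := fun h' => hg₀ (hWmem g₀ h')
  -- the structure theorem excludes elements of order `p` outside `W`
  have hexc : ∀ g ∈ P, g ∉ W → p ≠ 2 ∧ g ^ p ≠ 1 := by
    intro g hg hgW
    by_contra hcon
    have hcon' : p = 2 ∨ g ^ p = 1 := by
      by_contra h'
      push Not at h'
      exact hcon h'
    have := excluded_structure (G := P) (p := p) (Z := Z.subgroupOf P)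
      (by rw [← h.card]; exact Nat.card_congr (Subgroup.subgroupOfEquivOfLe h.le).toEquiv)
      (fun a b => h.comm a a.2 b b.2) (fun a => h.pow a a.2)
      (fun z hz g => Subtype.ext (hPZ z hz g g.2)) (W.subgroupOf P)
      (fun u hu v hv => Subtype.ext (hWab' u hu v hv))
      (fun u hu => Subtype.ext (by simpa using hWp' u hu)) (fun z hz => hZW hz)
      (y := ⟨y₀, hy₀P⟩) hy₀W
      (fun g hg => ⟨g.2, Subgroup.mem_centralizer_singleton_iff.2 (congrArg Subtype.val hg)⟩)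
      (g₀ := ⟨g, hg⟩) hgW
      (hcon'.imp id fun h' => Subtype.ext (by simpa using h'))
    rcases this with ⟨hp2, h'⟩ | ⟨hp2, h'⟩
    · exact h2 hp2 h'
    · exact hodd hp2 h'
  obtain ⟨hp2, -⟩ := hexc g₀ hg₀P hg₀W
  have hW1 : ∀ u ∈ P, u ^ p = 1 → u ∈ W := by
    intro u hu hup
    by_contra huW
    exact (hexc u hu huW).2 hup
  have hWsc : F.StronglyClosed W := by
    refine ⟨hWP.trans hPS, fun R hR φ hφ x => hW1 _ (h.closed.2 R (hR.trans hWP) φ hφ x) ?_⟩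
    rw [← map_pow]
    have h1 : x ^ p = 1 := Subtype.ext (by simpa using hWp' _ (hR x.2))
    rw [h1, map_one]
  have hW : F.IsNormal W := by
    refine isNormal_of_abelian hS hF hWsc ?_
    rw [Subgroup.commutator_eq_bot_iff_le_centralizer]
    exact fun a ha => Subgroup.mem_centralizer_iff.2 fun b hb => hWab' b hb a ha
  have hWN : P ≤ Subgroup.normalizer (W : Set Ω) :=
    hPS.trans (StronglyClosed.le_normalizer hWsc)
  have hfW : Finite W := H802.finite_of_le hW.1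
  -- the automorphisms
  obtain ⟨α, hα, hαe⟩ := H792.exists_aut_extension hW (hRZ.trans hZW) hφ₀
  set z : W := ⟨x, hZW hxZ⟩ with hz
  set y : W := α z with hy
  have hyy : (y : Ω) = y₀ := (hαe x).symm
  have habW : ∀ a b : W, a * b = b * a := fun a b => Subtype.ext (hWab' a a.2 b b.2)
  have hWpp : ∀ w : W, w ^ p = 1 := fun w => Subtype.ext (by simpa using hWp' w w.2)
  have hZpow : ∀ d ∈ Z, ∃ s : ℕ, d = (x : Ω) ^ s :=
    fun d hd => exists_pow_of_card_prime h.card hxZ hx1 hd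
  set τ : MulAut W := conjAut W g₀ (hWN hg₀P) with hτ
  have hτF : τ ∈ F.autGroup W := H802.autInducedBy_le_autGroup F hW.1
    ((H802.mem_autInducedBy_iff S W _).2 ⟨g₀, hPS hg₀P, fun x => rfl⟩)
  have hτe : ∀ w : W, ((τ w : W) : Ω) = g₀ * w * g₀⁻¹ := fun w => rfl
  have hconj : ∀ g ∈ P, ∀ w : Ω, w ∈ P → ∃ s : ℕ, g * w * g⁻¹ = w * (x : Ω) ^ s := by
    intro g hg w hw
    have h1 : w⁻¹ * (g * w * g⁻¹) ∈ Z := by
      have h2 := Z.inv_mem (h.comm g hg w⁻¹ (P.inv_mem hw))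
      have h3 : (⁅g, w⁻¹⁆)⁻¹ = w⁻¹ * (g * w * g⁻¹) := by
        rw [commutatorElement_def]; group
      rwa [h3] at h2
    obtain ⟨s, hs⟩ := hZpow _ h1
    exact ⟨s, by rw [← hs]; group⟩
  have hτz : τ z = z := by
    apply Subtype.ext
    rw [hτe]
    show g₀ * (x : Ω) * g₀⁻¹ = x
    rw [hPZ x hxZ g₀ hg₀P]; group
  have hτw : ∀ w : W, ∃ s : ℕ, τ w = w * z ^ s := by
    intro w
    obtain ⟨s, hs⟩ := hconj g₀ hg₀P w (hWP w.2)
    exact ⟨s, Subtype.ext (by rw [hτe, hs]; rfl)⟩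
  -- fixed points of `τ` are central in `P`
  have hgen : ∀ c : W, τ c = c → ∀ g ∈ P, g * (c : Ω) = c * g := by
    intro c hc g hg
    have hc' : g₀ * (c : Ω) * g₀⁻¹ = c := congrArg Subtype.val hc
    -- commutators with `y₀`
    obtain ⟨s₀, hs₀⟩ := hconj g₀ hg₀P y₀ hy₀P
    obtain ⟨s, hs⟩ := hconj g hg y₀ hy₀P
    have hps₀ : ¬ p ∣ s₀ := by
      rintro ⟨t, rfl⟩
      apply hg₀
      have : (x : Ω) ^ (p * t) = 1 := by
        rw [pow_mul, hWp' x (hZW hxZ), one_pow]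
      rw [this, mul_one] at hs₀
      rw [← mul_inv_eq_iff_eq_mul]
      exact hs₀
    obtain ⟨k, hk⟩ := exists_inv_mod (W := Ω) hps₀
    -- `g₀ ^ (k s)` acts on `y₀` like `g`
    have hxy : y₀ * (x : Ω) = x * y₀ := hPZ x hxZ y₀ hy₀P
    have hpow : ∀ n : ℕ, g₀ ^ n * y₀ * (g₀ ^ n)⁻¹ = y₀ * (x : Ω) ^ (s₀ * n) := by
      intro n
      induction n with
      | zero => simp
      | succ n ih =>
        have h1 : g₀ ^ (n + 1) * y₀ * (g₀ ^ (n + 1))⁻¹ = g₀ * (g₀ ^ n * y₀ * (g₀ ^ n)⁻¹) * g₀⁻¹ := by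
          rw [pow_succ']; group
        have h2 : g₀ * (x : Ω) ^ (s₀ * n) * g₀⁻¹ = (x : Ω) ^ (s₀ * n) := by
          have : Commute g₀ ((x : Ω) ^ (s₀ * n)) :=
            (show Commute g₀ (x : Ω) from hPZ x hxZ g₀ hg₀P).pow_right _
          rw [this.eq]; group
        rw [h1, ih]
        have h3 : g₀ * (y₀ * (x : Ω) ^ (s₀ * n)) * g₀⁻¹ =
            (g₀ * y₀ * g₀⁻¹) * (g₀ * (x : Ω) ^ (s₀ * n) * g₀⁻¹) := by group
        rw [h3, hs₀, h2, mul_assoc, ← pow_add]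
        congr 2
        ring
    have hxp : (x : Ω) ^ p = 1 := hWp' x (hZW hxZ)
    have h4 : g₀ ^ (k * s) * y₀ * (g₀ ^ (k * s))⁻¹ = g * y₀ * g⁻¹ := by
      rw [hpow, hs, ← mul_assoc s₀, pow_mul, hk _ hxp]
    have h5 : (g₀ ^ (k * s))⁻¹ * g ∈ W := by
      refine ⟨P.mul_mem (P.inv_mem (P.pow_mem hg₀P _)) hg, Subgroup.mem_centralizer_singleton_iff.2 ?_⟩
      have h6 : (g₀ ^ (k * s))⁻¹ * g * y₀ =
          (g₀ ^ (k * s))⁻¹ * (g * y₀ * g⁻¹) * g := by group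
      rw [h6, ← h4]
      group
    have h7 : Commute (c : Ω) g₀ := by
      show (c : Ω) * g₀ = g₀ * c
      rw [← mul_inv_eq_iff_eq_mul.1 hc']
    have h8 : Commute (c : Ω) ((g₀ ^ (k * s))⁻¹ * g) := hWab' c c.2 _ h5
    have h9 : g = g₀ ^ (k * s) * ((g₀ ^ (k * s))⁻¹ * g) := by group
    rw [h9]
    exact ((h7.pow_right _).mul_right h8).eq.symm
  obtain ⟨a, ha⟩ := hτw y
  have hpa : ¬ p ∣ a := by
    rintro ⟨t, rfl⟩
    rw [pow_mul, hWpp, one_pow, mul_one] at ha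
    apply hg₀
    have := hgen y ha g₀ hg₀P
    rwa [hyy] at this
  set τ' : MulAut W := α * τ * α⁻¹ with hτ'
  have hτ'F : τ' ∈ F.autGroup W := mul_mem (mul_mem hα hτF) (inv_mem hα)
  have hαi : ∀ w : W, α (α⁻¹ w) = w := fun w => α.apply_symm_apply w
  have hαi' : ∀ w : W, α⁻¹ (α w) = w := fun w => α.symm_apply_apply w
  have hτ'y : τ' y = y := by
    show α (τ (α⁻¹ (α z))) = α z
    rw [hαi', hτz]
  have hτ'w : ∀ w : W, ∃ s : ℕ, τ' w = w * y ^ s := by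
    intro w
    obtain ⟨s, hs⟩ := hτw (α⁻¹ w)
    refine ⟨s, ?_⟩
    show α (τ (α⁻¹ w)) = w * y ^ s
    rw [hs, map_mul, map_pow, hαi]
  obtain ⟨b, hb⟩ := hτ'w z
  have hpb : ¬ p ∣ b := by
    rintro ⟨t, rfl⟩
    have h1 : τ' z = z := by rw [hb, pow_mul, hWpp, one_pow, mul_one]
    have h3 : τ (α⁻¹ z) = α⁻¹ z := by
      apply α.injective
      rw [hαi]
      exact h1
    -- apply the claim to `α⁻¹ z`
    have hnZ : ((α⁻¹ z : W) : Ω) ∉ Z := by
      intro h'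
      obtain ⟨s, hs⟩ := hZpow _ h'
      have hs' : α⁻¹ z = z ^ s := Subtype.ext hs
      have h4 : z = y ^ s := by
        have := congrArg α hs'
        rw [hαi, map_pow] at this
        exact this
      have hps : ¬ p ∣ s := by
        rintro ⟨t, rfl⟩
        apply hx1
        have : z = 1 := by rw [h4, pow_mul, hWpp, one_pow]
        exact congrArg Subtype.val this
      obtain ⟨k, hk⟩ := exists_inv_mod (W := W) hps
      apply hx
      have h5 : y = z ^ k := by rw [h4, ← pow_mul, hk y (hWpp y)]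
      rw [← hyy, h5]
      show ((z : Ω)) ^ k ∈ Z
      exact Z.pow_mem hxZ k
    have hαm := (H802.mem_autGroup_iff F hW.1 α).1 hα
    obtain ⟨-, -, g, hg, hgne⟩ := h.claim hS hF (hWP (α⁻¹ z).2) hnZ hαm (α⁻¹ z).2 (by
      show ((α (α⁻¹ z) : W) : Ω) ∈ Z
      rw [hαi]
      exact hxZ)
    exact hgne (hgen _ h3 g hg)
  obtain ⟨i, hi, hiz, hiy, hdec⟩ := exists_neg habW τ τ' z y (hWpp z) (hWpp y) hτz hτ'y a b hpa hpb
    ha hb hτw hτ'w
  have hiF : i ∈ F.autGroup W := by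
    have h1 : Subgroup.closure {τ, τ'} ≤ F.autGroup W := by
      rw [Subgroup.closure_le]
      rintro _ (rfl | rfl)
      · exact hτF
      · exact hτ'F
    exact h1 hi
  have hii : i * i = 1 := by
    apply MulEquiv.ext
    intro w
    obtain ⟨m, n, c, hw, hc1, hc2, hc3⟩ := hdec w
    show i (i w) = w
    rw [hw]
    simp only [map_mul, map_pow, hc3, hiy, hiz, map_inv, inv_inv]
  have hcommi : ∀ g ∈ P, ∀ (w : W) (hg : g * (w : Ω) * g⁻¹ ∈ W),
      ((i ⟨g * w * g⁻¹, hg⟩ : W) : Ω) = g * (i w : W) * g⁻¹ := by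
    intro g hg w hgw
    obtain ⟨m, n, c, hw, hc1, hc2, hc3⟩ := hdec w
    obtain ⟨t, ht⟩ := hconj g hg (y : Ω) (hWP y.2)
    have hc := hgen c hc1 g hg
    have hgc : g * (c : Ω) * g⁻¹ = c := by rw [hc]; group
    have hxc := hPZ x hxZ g hg
    have hgx : g * (x : Ω) * g⁻¹ = x := by rw [hxc]; group
    have hyx : (y : Ω) * x = x * y := hPZ x hxZ y (hWP y.2)
    -- conjugation of `w`
    have e1 : (⟨g * (w : Ω) * g⁻¹, hgw⟩ : W) = c * (y * z ^ t) ^ m * z ^ n := by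
      apply Subtype.ext
      show g * (w : Ω) * g⁻¹ = c * ((y : Ω) * (x : Ω) ^ t) ^ m * (x : Ω) ^ n
      rw [hw]
      show g * ((c : Ω) * (y : Ω) ^ m * (x : Ω) ^ n) * g⁻¹ = _
      have h1 : g * ((c : Ω) * (y : Ω) ^ m * (x : Ω) ^ n) * g⁻¹ =
          (g * c * g⁻¹) * (g * y * g⁻¹) ^ m * (g * x * g⁻¹) ^ n := by
        rw [conj_pow, conj_pow]; group
      rw [h1, hgc, ht, hgx]
    rw [e1]
    simp only [map_mul, map_pow, hc3, hiy, hiz]
    have e2 : i w = c * (y⁻¹) ^ m * (z⁻¹) ^ n := by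
      rw [hw]
      simp only [map_mul, map_pow, hc3, hiy, hiz]
    rw [e2]
    show (c : Ω) * ((y : Ω)⁻¹ * ((x : Ω)⁻¹) ^ t) ^ m * ((x : Ω)⁻¹) ^ n =
      g * ((c : Ω) * ((y : Ω)⁻¹) ^ m * ((x : Ω)⁻¹) ^ n) * g⁻¹
    have h1 : g * ((c : Ω) * ((y : Ω)⁻¹) ^ m * ((x : Ω)⁻¹) ^ n) * g⁻¹ =
        (g * c * g⁻¹) * ((g * y * g⁻¹)⁻¹) ^ m * ((g * x * g⁻¹)⁻¹) ^ n := by
      have h2 : (g * (y : Ω) * g⁻¹)⁻¹ = g * (y : Ω)⁻¹ * g⁻¹ := by group
      have h3 : (g * (x : Ω) * g⁻¹)⁻¹ = g * (x : Ω)⁻¹ * g⁻¹ := by group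
      rw [h2, h3, conj_pow, conj_pow]
      group
    rw [h1, hgc, ht, hgx]
    congr 3
    rw [mul_inv_rev, inv_pow]
    have h2 : Commute ((y : Ω)⁻¹) (((x : Ω) ^ t)⁻¹) :=
      (((show Commute (y : Ω) x from hyx).pow_right t).inv_inv)
    exact h2.eq
  obtain ⟨j, hj, hjW, hjj⟩ := exists_involution hp2 hS hF h.closed hW hWP hW1 hiF hii hcommi
  have hjj' : ∀ u : P, j (j u) = u := fun u => by
    have := congrArg (fun f : MulAut P => f u) hjj
    exact this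
  -- `j` acts trivially modulo `W`
  set G₀ : P := ⟨g₀, hg₀P⟩ with hG₀
  have hjg : ((G₀⁻¹ * j G₀ : P) : Ω) ∈ W := by
    refine ⟨(G₀⁻¹ * j G₀).2, Subgroup.mem_centralizer_singleton_iff.2 ?_⟩
    -- use `w = i y`
    have h1 := hcommi g₀ hg₀P (i y) ((Subgroup.mem_normalizer_iff.1 (hWN hg₀P) _).1 (i y).2)
    have h3 : i (i y) = y := by
      have := congrArg (fun f : MulAut W => f y) hii
      exact this
    rw [h3] at h1
    have h4 := hjW (g₀ * ((i y : W) : Ω) * g₀⁻¹)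
      ((Subgroup.mem_normalizer_iff.1 (hWN hg₀P) _).1 (i y).2)
    rw [h1] at h4
    have h5 : (⟨g₀ * ((i y : W) : Ω) * g₀⁻¹, hWP ((Subgroup.mem_normalizer_iff.1 (hWN hg₀P) _).1
        (i y).2)⟩ : P) = G₀ * ⟨(i y : W), hWP (i y).2⟩ * G₀⁻¹ := Subtype.ext rfl
    rw [h5, map_mul, map_mul, map_inv] at h4
    have h6 : j ⟨(i y : W), hWP (i y).2⟩ = ⟨(y : Ω), hWP y.2⟩ := by
      apply Subtype.ext
      rw [hjW _ (i y).2]
      show ((i (i y) : W) : Ω) = y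
      rw [h3]
    rw [h6] at h4
    have h7 : ((j G₀ : P) : Ω) * y * ((j G₀ : P) : Ω)⁻¹ = g₀ * y * g₀⁻¹ := h4
    rw [hyy] at h7
    show (g₀⁻¹ * ((j G₀ : P) : Ω)) * y₀ = y₀ * (g₀⁻¹ * ((j G₀ : P) : Ω))
    have h8 : (g₀⁻¹ * ((j G₀ : P) : Ω)) * y₀ =
        g₀⁻¹ * (((j G₀ : P) : Ω) * y₀ * ((j G₀ : P) : Ω)⁻¹) * ((j G₀ : P) : Ω) := by group
    rw [h8, h7]
    group
  set w₁ : P := G₀⁻¹ * j G₀ with hw₁
  have hjG : j G₀ = G₀ * w₁ := by rw [hw₁]; group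
  have hjw₁ : j w₁ = w₁⁻¹ := by
    have h1 := hjj' G₀
    rw [hjG, map_mul, hjG] at h1
    have h3 : w₁ * j w₁ = 1 := by
      have h4 : G₀ * (w₁ * j w₁) = G₀ * 1 := by rw [← mul_assoc, h1, mul_one]
      exact mul_left_cancel h4
    exact eq_inv_of_mul_eq_one_right h3
  obtain ⟨k, hk⟩ := hp.odd_of_ne_two hp2
  have hw₁p : w₁ ^ p = 1 := Subtype.ext (by simpa using hWp' _ hjg)
  set g₁ : P := G₀ * w₁ ^ (k + 1) with hg₁
  have hjg₁ : j g₁ = g₁ := by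
    rw [hg₁, map_mul, map_pow, hjG, hjw₁, inv_pow, mul_assoc]
    congr 1
    have h3 : w₁ ^ (k + 1) * w₁ ^ (k + 1) = w₁ * 1 := by
      rw [← hw₁p, ← pow_add, ← pow_succ', hk]
      congr 1
      ring
    rw [mul_one] at h3
    rw [mul_inv_eq_iff_eq_mul]
    exact h3.symm
  have hg₁W : (g₁ : Ω) ∉ W := by
    intro h'
    apply hg₀W
    have h3 : (g₀ : Ω) = (g₁ : Ω) * (((w₁ ^ (k + 1) : P)) : Ω)⁻¹ := by
      rw [hg₁]
      show g₀ = g₀ * ((w₁ ^ (k + 1) : P) : Ω) * ((w₁ ^ (k + 1) : P) : Ω)⁻¹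
      group
    rw [h3]
    refine W.mul_mem h' (W.inv_mem ?_)
    show ((w₁ : Ω)) ^ (k + 1) ∈ W
    exact W.pow_mem hjg _
  have hg₁p := (hexc g₁ g₁.2 hg₁W).2
  obtain ⟨s, hs⟩ := hZpow _ (h.pow g₁ g₁.2)
  have hs' : ((g₁ ^ p : P) : Ω) ∈ W := hZW (h.pow g₁ g₁.2)
  have h3 := hjW _ hs'
  have h4 : (⟨((g₁ ^ p : P) : Ω), hWP hs'⟩ : P) = g₁ ^ p := rfl
  have h5 : (⟨((g₁ ^ p : P) : Ω), hs'⟩ : W) = z ^ s := Subtype.ext hs
  rw [h4, map_pow, hjg₁, h5, map_pow, hiz] at h3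
  have h6 : (g₁ : Ω) ^ p = ((x : Ω)⁻¹) ^ s := h3
  rw [hs] at h6
  -- `x ^ s = x ^ (-s)`
  apply hg₁p
  rw [hs]
  have h7 : ((x : Ω) ^ s) ^ 2 = 1 := by
    rw [pow_two]
    nth_rewrite 1 [h6]
    rw [inv_pow, inv_mul_cancel]
  have h8 : ((x : Ω) ^ s) ^ p = 1 := by
    rw [← pow_mul, mul_comm, pow_mul, hWp' x (hZW hxZ), one_pow]
  exact eq_one_of_pow_eq_one_of_pow_eq_one
    (fun h' => hp2 ((Nat.prime_dvd_prime_iff_eq hp Nat.prime_two).1 h')) h8 h7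

end Cfsg.Agent.H803
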