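import Cfsg.Agent.H792.NormalCrit
import Cfsg.Agent.H792.WeakNormal
import Cfsg.Agent.H802.FusCentric
/-!
# Weakly normal subsystems of constrained fusion systems are constrained (helper803)
-/
set_option autoImplicit false

namespace Cfsg.Agent.H803
open Cfsg Cfsg.FusionSystem

variable {Ω : Type*} [Group Ω] {S : Subgroup Ω} {p : ℕ}

/-- A characteristic subgroup of a subgroup normal in `F` is strongly closed in `F`. -/
theorem stronglyClosed_char {F : FusionSystem S} {Q : Subgroup Ω} (hQ : F.IsNormal Q)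
    {C : Subgroup Q} (hC : C.Characteristic) : F.StronglyClosed (C.map Q.subtype) := by
  refine ⟨(Subgroup.map_subtype_le C).trans hQ.1, fun R hR φ hφ x => ?_⟩
  obtain ⟨α, -, hα⟩ := H792.exists_aut_extension hQ (hR.trans (Subgroup.map_subtype_le C)) hφ
  obtain ⟨y, hy, hyx⟩ := hR x.2
  rw [hα x]
  refine ⟨α ⟨x, _⟩, ?_, rfl⟩
  have h1 : (⟨(x : Ω), (hR.trans (Subgroup.map_subtype_le C)) x.2⟩ : Q) = y := Subtype.ext hyx.symm
  rw [h1]
  have h2 := Subgroup.characteristic_iff_le_comap.1 hC α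
  exact h2 hy

theorem stronglyClosed_inf {F : FusionSystem S} {T R : Subgroup Ω} (hT : F.StronglyClosed T)
    (hR : F.StronglyClosed R) : F.StronglyClosed (T ⊓ R) :=
  ⟨inf_le_left.trans hT.1, fun P hP φ hφ x =>
    ⟨hT.2 P (hP.trans inf_le_left) φ hφ x, hR.2 P (hP.trans inf_le_right) φ hφ x⟩⟩

/-- Let `E` over `T` be a saturated subsystem of `F`, with `T` strongly closed in `F`, and `Q` a subgroup normal in
`F`. Then `T ∩ Q` is normal in `E`. -/
theorem isNormal_inf [Fact p.Prime] [Finite S] (hS : IsPGroup p S) {F : FusionSystem S}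
    {T : Subgroup Ω} {E : FusionSystem T} (hE : E.IsSaturated p) (hsub : E.IsSubsystemOf F)
    (hT : F.StronglyClosed T) {Q : Subgroup Ω} (hQ : F.IsNormal Q) : E.IsNormal (T ⊓ Q) := by
  have hQS := hQ.1
  have hfin : Finite Q := H802.finite_of_le hQS
  have hfinT : Finite T := H802.finite_of_le hT.1
  have hTp : IsPGroup p T := hS.to_le hT.1
  have hQp : IsPGroup p Q := hS.to_le hQS
  have hnil : Group.IsNilpotent Q := hQp.isNilpotent
  obtain ⟨n, hn⟩ := hnil.nilpotent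
  refine H759.isNormal_of_chain hTp hE n
    (fun i => T ⊓ (Subgroup.upperCentralSeries Q i).map Q.subtype) ?_ ?_ ?_ ?_
  · show T ⊓ (Subgroup.upperCentralSeries Q 0).map Q.subtype = ⊥
    rw [Subgroup.upperCentralSeries_zero, Subgroup.map_bot, inf_bot_eq]
  · show T ⊓ (Subgroup.upperCentralSeries Q n).map Q.subtype = T ⊓ Q
    rw [hn, ← MonoidHom.range_eq_map, Subgroup.range_subtype]
  · intro i _
    exact H792.stronglyClosed_of_isSubsystemOf hsub
      (stronglyClosed_inf hT (stronglyClosed_char hQ inferInstance)) inf_le_left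
  · intro i _
    rw [Subgroup.commutator_le]
    rintro g ⟨hgT, hg⟩ _ ⟨hxT, x, hx, rfl⟩
    have hx' : x ∈ Subgroup.upperCentralSeries Q (i + 1) := hx
    rw [Subgroup.mem_upperCentralSeries_succ_iff] at hx'
    have h1 := (Subgroup.upperCentralSeries Q i).inv_mem (hx' ⟨g, hg⟩)
    refine ⟨?_, ?_⟩
    · exact T.mul_mem (T.mul_mem (T.mul_mem hgT hxT) (T.inv_mem hgT)) (T.inv_mem hxT)
    · refine ⟨_, h1, ?_⟩
      simp [commutatorElement_def, mul_assoc]

/-- The only conjugate of a normal subgroup is itself. -/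
theorem eq_of_isConj_of_isNormal {F : FusionSystem S} [Finite S] {Q R : Subgroup Ω}
    (hQ : F.IsNormal Q) (h : F.IsConj Q R) : R = Q := by
  obtain ⟨φ, hφ, rfl⟩ := h
  have : Finite Q := H802.finite_of_le hQ.1
  exact H802.range_eq_of_mapsTo hφ (fun x => (H759.IsNormal.stronglyClosed hQ).2 Q le_rfl φ hφ x)

theorem isFullyNormalized_of_isNormal {F : FusionSystem S} [Finite S] {Q : Subgroup Ω}
    (hQ : F.IsNormal Q) : F.IsFullyNormalized Q :=
  ⟨hQ.1, fun R hR => by rw [eq_of_isConj_of_isNormal hQ hR]⟩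

/-- A map with any source `P` extends over a normal subgroup `Q`; package with the automorphism induced on `Q`. -/
theorem exists_extension_with_aut {F : FusionSystem S} {Q : Subgroup Ω} (hQ : F.IsNormal Q)
    {P : Subgroup Ω} {φ : P →* Ω} (hφ : φ ∈ F.Hom P) :
    ∃ ψ ∈ F.Hom (P ⊔ Q), (∀ (x : Ω) (hx : x ∈ P) (hx' : x ∈ P ⊔ Q), ψ ⟨x, hx'⟩ = φ ⟨x, hx⟩) ∧
      ∃ α ∈ F.autGroup Q, ∀ (x : Ω) (hx : x ∈ Q) (hx' : x ∈ P ⊔ Q),
        ψ ⟨x, hx'⟩ = (α ⟨x, hx⟩ : Q) := by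
  obtain ⟨ψ, hψ, h1, h2⟩ := hQ.2 P φ hφ
  have hle : Q ≤ P ⊔ Q := le_sup_right
  have hr : (ψ.comp (Subgroup.inclusion hle)).range = Q := by
    refine Eq.trans ?_ h2
    ext y
    constructor
    · rintro ⟨x, rfl⟩
      exact ⟨Subgroup.inclusion hle x, x.2, rfl⟩
    · rintro ⟨x, hx, rfl⟩
      exact ⟨⟨x, hx⟩, rfl⟩
  obtain ⟨α, hα, hαe⟩ := H802.exists_aut (H802.restrict_mem hψ hle) hr
  exact ⟨ψ, hψ, fun x hx hx' => h1 ⟨x, hx⟩, α, hα, fun x hx hx' => (hαe ⟨x, hx⟩).symm⟩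

/-- The elements of `S` whose conjugation action on `Q` lies in `A`. -/
def actsIn (S : Subgroup Ω) {Q : Subgroup Ω} (A : Subgroup (MulAut Q)) : Subgroup Ω where
  carrier := {g | g ∈ S ∧ ∃ α ∈ A, ∀ x : Q, ((α x : Q) : Ω) = g * (x : Ω) * g⁻¹}
  one_mem' := ⟨S.one_mem, 1, A.one_mem, fun x => by simp⟩
  mul_mem' := by
    rintro a b ⟨ha, α, hα, h1⟩ ⟨hb, β, hβ, h2⟩
    refine ⟨S.mul_mem ha hb, α * β, A.mul_mem hα hβ, fun x => ?_⟩
    rw [MulAut.mul_apply, h1, h2]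
    group
  inv_mem' := by
    rintro a ⟨ha, α, hα, h1⟩
    refine ⟨S.inv_mem ha, α⁻¹, A.inv_mem hα, fun x => ?_⟩
    have h2 := h1 (α⁻¹ x)
    have h3 : α (α⁻¹ x) = x := α.apply_symm_apply x
    rw [h3] at h2
    rw [h2]
    group

theorem mem_actsIn {Q : Subgroup Ω} {A : Subgroup (MulAut Q)} {g : Ω} :
    g ∈ actsIn S A ↔ g ∈ S ∧ ∃ α ∈ A, ∀ x : Q, ((α x : Q) : Ω) = g * (x : Ω) * g⁻¹ := Iff.rfl

/-- If `ψ` is a homomorphism on `R ≥ Q` inducing `α` on `Q` and `g ∈ R` induces `κ` on `Q`, then `ψ g` induces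
`α κ α⁻¹`. -/
theorem conj_apply_of_extends {Q R : Subgroup Ω} {ψ : R →* Ω} (hQR : Q ≤ R) {α κ : MulAut Q}
    (hα : ∀ (x : Ω) (hx : x ∈ Q) (hx' : x ∈ R), ψ ⟨x, hx'⟩ = (α ⟨x, hx⟩ : Q)) {g : Ω} (hg : g ∈ R)
    (hκ : ∀ x : Q, ((κ x : Q) : Ω) = g * (x : Ω) * g⁻¹) (x : Q) :
    (((α * κ * α⁻¹) x : Q) : Ω) = ψ ⟨g, hg⟩ * (x : Ω) * (ψ ⟨g, hg⟩)⁻¹ := by
  have h1 : ((α * κ * α⁻¹) x : Q) = α (κ (α⁻¹ x)) := rfl
  rw [h1, ← hα _ (κ (α⁻¹ x)).2 (hQR (κ (α⁻¹ x)).2)]
  have h2 : (⟨((κ (α⁻¹ x) : Q) : Ω), hQR (κ (α⁻¹ x)).2⟩ : R) =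
      ⟨g, hg⟩ * ⟨((α⁻¹ x : Q) : Ω), hQR (α⁻¹ x).2⟩ * ⟨g, hg⟩⁻¹ := Subtype.ext (hκ _)
  rw [h2, map_mul, map_mul, map_inv, hα _ (α⁻¹ x).2]
  have h3 : α (⟨((α⁻¹ x : Q) : Ω), (α⁻¹ x).2⟩ : Q) = x := α.apply_symm_apply x
  rw [h3]

/-- Let `F` be saturated, `Q` normal and centric in `F` and `A` a normal `p`-subgroup of `Aut_F(Q)`. Then the group of
elements of `S` whose action on `Q` lies in `A` is normal in `F`. -/
theorem isNormal_actsIn [Fact p.Prime] [Finite S] (hS : IsPGroup p S) {F : FusionSystem S}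
    (hF : F.IsSaturated p) {Q : Subgroup Ω} (hQ : F.IsNormal Q) (hQc : F.IsCentric Q)
    {A : Subgroup (MulAut Q)} (hAF : A ≤ F.autGroup Q)
    (hAn : ∀ a ∈ F.autGroup Q, ∀ k ∈ A, a * k * a⁻¹ ∈ A) (hAp : IsPGroup p A) :
    F.IsNormal (actsIn S A) := by
  have hfinQ : Finite Q := H802.finite_of_le hQ.1
  have hQfn := isFullyNormalized_of_isNormal hQ
  have hQa := H802.isFullyAutomized_of_isFullyNormalized hS hF hQfn
  have hQr := H802.isReceptive_of_isFullyNormalized hS hF hQfn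
  have hAS : A ≤ autInducedBy S Q := H759.le_autInducedBy_of_normal hQa A hAF hAn hAp
  have hQsc := H759.IsNormal.stronglyClosed hQ
  refine H759.isNormal_of_extends ⟨fun g hg => hg.1, fun R hR φ hφ x => ?_⟩ (fun P φ hφ => ?_)
  · obtain ⟨ψ, hψ, h1, α, hα, h2⟩ := exists_extension_with_aut hQ hφ
    obtain ⟨-, κ, hκ, h3⟩ := hR x.2
    have hx' : (x : Ω) ∈ R ⊔ Q := (le_sup_left : R ≤ R ⊔ Q) x.2
    have h4 := conj_apply_of_extends le_sup_right h2 hx' h3
    have h5 : ψ ⟨x, hx'⟩ = φ x := h1 x x.2 hx'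
    rw [h5] at h4
    exact ⟨H802.hom_apply_mem hφ x, α * κ * α⁻¹, hAn α hα κ hκ, h4⟩
  · obtain ⟨ψ, hψ, h1, α, hα, h2⟩ := exists_extension_with_aut hQ hφ
    have hPS : P ≤ S := H802.hom_le hφ
    have hPQS : P ⊔ Q ≤ S := sup_le hPS hQ.1
    have hSN : S ≤ Subgroup.normalizer (Q : Set Ω) := H759.StronglyClosed.le_normalizer hQsc
    have hαF := (H802.mem_autGroup_iff F hQ.1 α).1 hα
    obtain ⟨χ, hχ, hχe⟩ := hQr.2 Q (Q.subtype.comp α.toMonoidHom) hαF
      (H802.range_eq_of_mapsTo hαF (fun x => (α x).2))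
    set N := extender S Q (Q.subtype.comp α.toMonoidHom) with hN
    have hle1 : P ⊔ Q ≤ N := by
      refine H802.le_extender_of_extends le_sup_right hPQS (hPQS.trans hSN)
        (fun x => H802.hom_apply_mem hψ x) (fun x hx => ?_)
      exact h2 x hx _
    have hQN : Q ≤ N := le_sup_right.trans hle1
    have hle2 : actsIn S A ≤ N := by
      rintro g ⟨hgS, κ, hκ, h3⟩
      rw [hN, H802.mem_extender_iff]
      refine ⟨hgS, hSN hgS, ?_⟩
      obtain ⟨h, hh, h4⟩ := (H802.mem_autInducedBy_iff S Q _).1 (hAS (hAn α hα κ hκ))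
      refine ⟨h, hh, fun x hx => ?_⟩
      have h5 := h4 (α x)
      have h6 : ((α * κ * α⁻¹) (α x) : Q) = α (κ x) := by
        show α (κ (α.symm (α x))) = α (κ x)
        rw [MulEquiv.symm_apply_apply]
      rw [h6] at h5
      have h7 : (⟨g * (x : Ω) * g⁻¹, hx⟩ : Q) = κ x := Subtype.ext (h3 x).symm
      rw [h7]
      exact h5
    -- compare `χ` and `ψ` on `P ⊔ Q`
    obtain ⟨z, hzQ, hzC, hz⟩ := H802.exists_conj_of_agree_on_centric hS hF hQc
      (le_sup_right : Q ≤ P ⊔ Q) (H802.restrict_mem hχ hle1) hψ (fun x hx => by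
        rw [h2 x hx]
        exact hχe x hx (hQN hx))
    -- the big source
    set M := P ⊔ actsIn S A ⊔ Q with hM
    have hMN : M ≤ N := sup_le (sup_le (le_sup_left.trans hle1) hle2) hQN
    have hQM : Q ≤ M := le_sup_right
    have hMS : M ≤ S := hMN.trans (H802.extender_le S Q _)
    have hconj : ∀ x : M, conjHom M z x ∈ N := fun x =>
      N.mul_mem (N.mul_mem (hQN hzQ) (hMN x.2)) (N.inv_mem (hQN hzQ))
    obtain ⟨ω, hω, hωe⟩ := H802.exists_comp (F.conj_mem hMS (hQ.1 hzQ)) hχ hconj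
    have hle3 : P ⊔ actsIn S A ≤ M := le_sup_left
    refine ⟨_, H802.restrict_mem hω hle3, fun x hx => ?_⟩
    have hxPQ : (x : Ω) ∈ P ⊔ Q := (le_sup_left : P ≤ P ⊔ Q) x.2
    have hzx : z * (x : Ω) * z⁻¹ ∈ P ⊔ Q :=
      (P ⊔ Q).mul_mem ((P ⊔ Q).mul_mem ((le_sup_right : Q ≤ P ⊔ Q) hzQ) hxPQ)
        ((P ⊔ Q).inv_mem ((le_sup_right : Q ≤ P ⊔ Q) hzQ))
    have h8 := hz ⟨x, hxPQ⟩ hzx
    rw [← h1 x x.2 hxPQ, h8]
    exact hωe ⟨x, hle3 hx⟩

/-- A weakly normal subsystem of a constrained fusion system is constrained. -/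
theorem isConstrained_of_isWeaklyNormalIn [Fact p.Prime] [Finite S] (hS : IsPGroup p S)
    {F : FusionSystem S} (hF : F.IsConstrained p) {T : Subgroup Ω} {E : FusionSystem T}
    (hE : E.IsWeaklyNormalIn F p) : E.IsConstrained p := by
  obtain ⟨hFs, Q₀, hQ₀, hQ₀c⟩ := hF
  obtain ⟨hEs, -, hsub, hT, hinv, hfr⟩ := hE
  have hfinT : Finite T := H802.finite_of_le hT.1
  have hTp : IsPGroup p T := hS.to_le hT.1
  set Q := F.core with hQdef
  have hQ : F.IsNormal Q := H759.isNormal_core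
  have hQc : F.IsCentric Q := H802.isCentric_of_le hQ₀c (H759.IsNormal.le_core hQ₀) hQ.1
  have hQsc := H759.IsNormal.stronglyClosed hQ
  have hfinQ : Finite Q := H802.finite_of_le hQ.1
  have hQp : IsPGroup p Q := hS.to_le hQ.1
  have hRsc := H759.StronglyClosed.inf hT hQsc
  have hRE : E.IsNormal (T ⊓ Q) := isNormal_inf hS hEs hsub hT hQ
  refine ⟨hEs, T ⊓ Q, hRE, ⟨inf_le_left, fun R' hR' => ?_⟩⟩
  rw [eq_of_isConj_of_isNormal hRE hR']
  -- the automorphisms stabilizing the chain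
  let A : Subgroup (MulAut Q) :=
    { carrier := {κ | κ ∈ F.autGroup Q ∧ (∀ x : Q, (x : Ω) ∈ T → κ x = x) ∧
        ∀ x : Q, ((x⁻¹ * κ x : Q) : Ω) ∈ T}
      one_mem' := ⟨one_mem _, fun x _ => rfl, fun x => by
        have : (x⁻¹ * (1 : MulAut Q) x : Q) = 1 := by simp
        rw [this]; exact T.one_mem⟩
      mul_mem' := by
        rintro a b ⟨ha, ha1, ha2⟩ ⟨hb, hb1, hb2⟩
        refine ⟨mul_mem ha hb, fun x hx => ?_, fun x => ?_⟩
        · rw [MulAut.mul_apply, hb1 x hx, ha1 x hx]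
        · have h1 := T.mul_mem (hb2 x) (ha2 (b x))
          have h2 : (x⁻¹ * (a * b) x : Q) = (x⁻¹ * b x) * ((b x)⁻¹ * a (b x)) := by
            rw [MulAut.mul_apply]; group
          rw [h2]
          exact h1
      inv_mem' := by
        rintro a ⟨ha, ha1, ha2⟩
        have h3 : ∀ y : Q, a (a⁻¹ y) = y := fun y => a.apply_symm_apply y
        have h4 : ∀ y : Q, a⁻¹ (a y) = y := fun y => a.symm_apply_apply y
        refine ⟨inv_mem ha, fun x hx => ?_, fun x => ?_⟩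
        · have := h4 x
          rwa [ha1 x hx] at this
        · have h1 := T.inv_mem (ha2 (a⁻¹ x))
          rw [h3] at h1
          have h2 : (x⁻¹ * a⁻¹ x : Q) = ((a⁻¹ x)⁻¹ * x)⁻¹ := by group
          rw [h2]
          exact h1 }
  have hAF : A ≤ F.autGroup Q := fun κ hκ => hκ.1
  have haT : ∀ a ∈ F.autGroup Q, ∀ x : Q, (x : Ω) ∈ T → ((a x : Q) : Ω) ∈ T := by
    intro a ha x hx
    have h1 := (H802.mem_autGroup_iff F hQ.1 a).1 ha
    exact H759.StronglyClosed.apply_mem hT h1 (x := x) hx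
  have hAn : ∀ a ∈ F.autGroup Q, ∀ k ∈ A, a * k * a⁻¹ ∈ A := by
    rintro a ha k ⟨hk, hk1, hk2⟩
    have h3 : ∀ y : Q, a (a⁻¹ y) = y := fun y => a.apply_symm_apply y
    refine ⟨mul_mem (mul_mem ha hk) (inv_mem ha), fun x hx => ?_, fun x => ?_⟩
    · show a (k (a⁻¹ x)) = x
      rw [hk1 _ (haT _ (inv_mem ha) x hx), h3]
    · have h1 := haT a ha _ (hk2 (a⁻¹ x))
      rw [map_mul, map_inv, h3] at h1
      exact h1
  have hAp : IsPGroup p A := by
    rintro ⟨κ, hκ, h1, h2⟩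
    obtain ⟨k, hk⟩ := H759.exists_pow_eq_one_of_chain hQp κ 2
      (fun i => if i = 0 then ⊤ else if i = 1 then T.subgroupOf Q else ⊥) (by simp) (by simp)
      (by
        intro i hi x hx
        rcases i with _ | _ | _ | i
        · trivial
        · exact haT κ hκ x hx
        · have h3 : x = 1 := by simpa using hx
          rw [h3, map_one]
          exact hx.symm ▸ (by simpa using hx)
        · omega)
      (by
        intro i hi x hx
        rcases i with _ | _ | i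
        · exact h2 x
        · have h3 : κ x = x := h1 x hx
          show x⁻¹ * κ x ∈ _
          rw [h3, inv_mul_cancel]
          exact one_mem _
        · omega)
    exact ⟨k, Subtype.ext hk⟩
  have hnorm := isNormal_actsIn hS hFs hQ hQc hAF hAn hAp
  have hle : actsIn S A ≤ Q := H759.IsNormal.le_core hnorm
  have hSN : S ≤ Subgroup.normalizer (Q : Set Ω) := H759.StronglyClosed.le_normalizer hQsc
  rintro g ⟨hgT, hgC⟩
  refine ⟨hgT, hle ?_⟩
  have hgS : g ∈ S := hT.1 hgT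
  refine ⟨hgS, H759.conjAut Q g (hSN hgS), ⟨?_, fun x hx => ?_, fun x => ?_⟩, fun x => rfl⟩
  · exact H802.autInducedBy_le_autGroup F hQ.1
      ((H802.mem_autInducedBy_iff S Q _).2 ⟨g, hgS, fun x => rfl⟩)
  · apply Subtype.ext
    show g * (x : Ω) * g⁻¹ = x
    rw [← Subgroup.mem_centralizer_iff.1 hgC x ⟨hx, x.2⟩]
    group
  · show (x : Ω)⁻¹ * (g * (x : Ω) * g⁻¹) ∈ T
    have h1 : (x : Ω)⁻¹ * g * (x : Ω)⁻¹⁻¹ ∈ T :=
      H759.StronglyClosed.conj_mem hT (S.inv_mem (hQ.1 x.2)) hgT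
    have h2 := T.mul_mem h1 (T.inv_mem hgT)
    have h3 : (x : Ω)⁻¹ * (g * (x : Ω) * g⁻¹) = (x : Ω)⁻¹ * g * (x : Ω)⁻¹⁻¹ * g⁻¹ := by group
    rw [h3]
    exact h2

end Cfsg.Agent.H803
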