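import Cfsg.Agent.H759.FusTransportD
import Cfsg.Agent.H803.Realize
/-!
# A realized fusion system is isomorphic to the fusion system of the group (helper803)
-/
set_option autoImplicit false

namespace Cfsg.Agent.H803
open Cfsg Cfsg.FusionSystem Cfsg.Agent.H759

variable {Ω : Type*} [Group Ω] {S : Subgroup Ω} {p : ℕ}

theorem top_map_subtype (S : Subgroup Ω) : S = (⊤ : Subgroup S).map S.subtype := by
  rw [← MonoidHom.range_eq_map, Subgroup.range_subtype]

/-- If `F` is realized by `ι : S →* G` then `F` and `F_{ι(S)}(G)` are both push-forwards of one system over the top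
subgroup of the group `S`. -/
theorem isPush_groupFusionSystem {G : Type*} [Group G] {F : FusionSystem S} {ι : S →* G}
    (h : F.IsRealizedBy ι) (hinj : Function.Injective ι) {X : FusionSystem (⊤ : Subgroup S)}
    (hX : IsPush (Subgroup.subtype_injective S) X F) :
    IsPush hinj X (groupFusionSystem ι.range) := by
  refine ⟨MonoidHom.range_eq_map ι, fun P φ => ?_⟩
  rw [← hX.hom]
  have hPS : P.map S.subtype ≤ S := Subgroup.map_subtype_le P
  have hφS : ∀ y : P.map S.subtype, cb (Subgroup.subtype_injective S) φ y ∈ S := by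
    intro y
    obtain ⟨x, rfl⟩ := (eqv (Subgroup.subtype_injective S) P).surjective y
    rw [cb_eqv]
    exact (φ x).2
  have key : ∀ x : P, (⟨cb (Subgroup.subtype_injective S) φ (eqv (Subgroup.subtype_injective S) P x),
      hφS _⟩ : S) = φ x := fun x => Subtype.ext (cb_eqv _ φ x)
  rw [h.2 _ hPS _ hφS]
  constructor
  · rintro ⟨-, -, g, hg⟩
    refine ⟨g, fun y => ?_⟩
    obtain ⟨x, rfl⟩ := (eqv (Subgroup.subtype_injective S) P).surjective y
    rw [key]
    have h1 := hg (eqv hinj P x)
    rw [cb_eqv] at h1
    exact h1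
  · rintro ⟨g, hg⟩
    refine ⟨?_, fun y => ?_, g, fun y => ?_⟩
    · rw [MonoidHom.range_eq_map]
      exact Subgroup.map_mono le_top
    · obtain ⟨x, rfl⟩ := (eqv hinj P).surjective y
      rw [cb_eqv]
      exact ⟨_, rfl⟩
    · obtain ⟨x, rfl⟩ := (eqv hinj P).surjective y
      rw [cb_eqv]
      have h1 := hg (eqv (Subgroup.subtype_injective S) P x)
      rw [key] at h1
      exact h1

theorem exists_common_pull {G : Type*} [Group G] {F : FusionSystem S} {ι : S →* G}
    (h : F.IsRealizedBy ι) : ∃ X : FusionSystem (⊤ : Subgroup S),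
      IsPush (Subgroup.subtype_injective S) X F ∧ IsPush h.1 X (groupFusionSystem ι.range) := by
  obtain ⟨X, hX⟩ := exists_pull' (hf := Subgroup.subtype_injective S) (top_map_subtype S) F
  exact ⟨X, hX, isPush_groupFusionSystem h h.1 hX⟩

/-- A realized system is simple iff the fusion system of the group is. -/
theorem isSimple_iff_of_isRealizedBy [Finite S] [Fact p.Prime] {G : Type*} [Group G] {F : FusionSystem S}
    {ι : S →* G} (h : F.IsRealizedBy ι) :
    F.IsSimple p ↔ (groupFusionSystem ι.range).IsSimple p := by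
  obtain ⟨X, hX, hX'⟩ := exists_common_pull h
  have : Finite (⊤ : Subgroup S) := inferInstance
  rw [hX.isSimple_iff, hX'.isSimple_iff]

end Cfsg.Agent.H803
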