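import Mathlib
import Cfsg.Agent.Lib.FrattiniPGroup
/-!
# Generalized extraspecial groups with a noncentral element whose centralizer is elementary abelian (helper803)
-/
set_option autoImplicit false

namespace Cfsg.Agent.H803
open scoped commutatorElement

section
variable {G : Type*} [Group G] {Z : Subgroup G}

/-- The homomorphism `g ↦ [g, x]` when all commutators are central. -/
def commHom (hcom : ∀ a b : G, ⁅a, b⁆ ∈ Z) (hZcen : ∀ z ∈ Z, ∀ g : G, g * z = z * g) (x : G) :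
    G →* Z where
  toFun g := ⟨⁅g, x⁆, hcom g x⟩
  map_one' := Subtype.ext (by simp)
  map_mul' g h := Subtype.ext (by
    show ⁅g * h, x⁆ = ⁅g, x⁆ * ⁅h, x⁆
    have h1 : ⁅g * h, x⁆ = g * ⁅h, x⁆ * g⁻¹ * ⁅g, x⁆ := by
      simp only [commutatorElement_def]; group
    rw [h1, hZcen _ (hcom h x) g, mul_inv_cancel_right, ← hZcen _ (hcom h x)])

theorem commHom_apply (hcom : ∀ a b : G, ⁅a, b⁆ ∈ Z) (hZcen : ∀ z ∈ Z, ∀ g : G, g * z = z * g)
    (x g : G) : ((commHom hcom hZcen x g : Z) : G) = ⁅g, x⁆ := rfl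

variable [Finite G] {p : ℕ} [Fact p.Prime]

theorem index_ker_of_ne {H : Type*} [Group H] [Finite H] (hZc : Nat.card Z = p) (f : H →* Z)
    (hf : ∃ h, f h ≠ 1) : f.ker.index = p := by
  have hp : p.Prime := Fact.out
  rw [Subgroup.index_ker]
  have h1 : Nat.card f.range ∣ p := hZc ▸ Subgroup.card_subgroup_dvd_card f.range
  rcases (Nat.dvd_prime hp).1 h1 with h | h
  · obtain ⟨x, hx⟩ := hf
    have h2 := Subgroup.card_eq_one.1 h
    have h3 : f x ∈ f.range := ⟨x, rfl⟩
    rw [h2, Subgroup.mem_bot] at h3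
    exact absurd h3 hx
  · exact h

/-- The structure of `G = U × A`. -/
theorem exists_decomposition (hZc : Nat.card Z = p) (hcom : ∀ a b : G, ⁅a, b⁆ ∈ Z)
    (hpow : ∀ a : G, a ^ p ∈ Z) (hZcen : ∀ z ∈ Z, ∀ g : G, g * z = z * g) (W : Subgroup G)
    (hWab : ∀ u ∈ W, ∀ v ∈ W, u * v = v * u) (hWp : ∀ u ∈ W, u ^ p = 1) (hZW : Z ≤ W) {y : G}
    (hyW : y ∈ W) (hWy : ∀ g, g * y = y * g → g ∈ W) {g₀ : G} (hg₀ : g₀ ∉ W) :
    W.index = p ∧ ∃ U A : Subgroup G, Nat.card U = p ^ 3 ∧ Z ≤ U ∧ (∀ a ∈ A, a ^ p = 1) ∧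
      (∀ a ∈ A, ∀ g : G, a * g = g * a) ∧ (∃ u ∈ U, ∃ v ∈ U, u * v ≠ v * u) ∧
      Nonempty (U × A ≃* G) := by
  classical
  have hp : p.Prime := Fact.out
  have hZn : Z.Normal := ⟨fun z hz g => by rw [hZcen z hz g, mul_inv_cancel_right]; exact hz⟩
  have hg₀y : ⁅g₀, y⁆ ≠ 1 := by
    intro h
    exact hg₀ (hWy _ (commutatorElement_eq_one_iff_mul_comm.1 h))
  -- the index of `W`
  have hW : W = (commHom hcom hZcen y).ker := by
    ext g
    rw [MonoidHom.mem_ker]
    constructor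
    · intro hg
      apply Subtype.ext
      rw [commHom_apply]
      exact commutatorElement_eq_one_iff_mul_comm.2 (hWab g hg y hyW)
    · intro hg
      apply hWy
      have := congrArg Subtype.val hg
      rw [commHom_apply] at this
      exact commutatorElement_eq_one_iff_mul_comm.1 this
  have hWi : W.index = p := by
    rw [hW]
    refine index_ker_of_ne hZc _ ⟨g₀, fun h => hg₀y ?_⟩
    exact congrArg Subtype.val h
  refine ⟨hWi, ?_⟩
  -- every element is `g₀ ^ s * w`
  have hgen : ∀ g : G, ∃ s : ℕ, (g₀ ^ s)⁻¹ * g ∈ W := by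
    intro g
    have hne : commHom hcom hZcen y g₀ ≠ 1 := fun h => hg₀y (congrArg Subtype.val h)
    have h1 : commHom hcom hZcen y g ∈ Subgroup.zpowers (commHom hcom hZcen y g₀) := by
      have h2 : Subgroup.zpowers (commHom hcom hZcen y g₀) = ⊤ := by
        apply Subgroup.eq_top_of_card_eq
        rw [hZc]
        have h3 : Nat.card (Subgroup.zpowers (commHom hcom hZcen y g₀)) ∣ p :=
          hZc ▸ Subgroup.card_subgroup_dvd_card _
        rcases (Nat.dvd_prime hp).1 h3 with h | h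
        · exact absurd (Subgroup.zpowers_eq_bot.1 (Subgroup.card_eq_one.1 h)) hne
        · exact h
      rw [h2]
      exact Subgroup.mem_top _
    obtain ⟨s, hs⟩ := (mem_powers_iff_mem_zpowers (x := commHom hcom hZcen y g₀)).2 h1
    refine ⟨s, ?_⟩
    rw [hW, MonoidHom.mem_ker, map_mul, map_inv, map_pow]
    have hs' : (commHom hcom hZcen y g₀) ^ s = commHom hcom hZcen y g := hs
    rw [hs', inv_mul_cancel]
  -- the centre
  set C := Subgroup.center G with hC
  have hCW : C ≤ W := fun c hc => hWy c (Subgroup.mem_center_iff.1 hc y).symm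
  have hCmem : ∀ w ∈ W, w * g₀ = g₀ * w → w ∈ C := by
    intro w hw h
    rw [hC, Subgroup.mem_center_iff]
    intro g
    obtain ⟨s, hs⟩ := hgen g
    have h1 : g = g₀ ^ s * ((g₀ ^ s)⁻¹ * g) := by group
    have h2 : Commute w (g₀ ^ s) := (show Commute w g₀ from h).pow_right s
    have h3 : Commute w ((g₀ ^ s)⁻¹ * g) := hWab w hw _ hs
    rw [h1]
    exact (h2.mul_right h3).eq.symm
  have hZC : Z ≤ C := fun z hz => Subgroup.mem_center_iff.2 fun g => hZcen z hz g
  have hCrel : C.relIndex W = p := by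
    have h1 : C.subgroupOf W = ((commHom hcom hZcen g₀).comp W.subtype).ker := by
      ext w
      rw [MonoidHom.mem_ker, Subgroup.mem_subgroupOf]
      constructor
      · intro hw
        apply Subtype.ext
        show ⁅(w : G), g₀⁆ = 1
        exact commutatorElement_eq_one_iff_mul_comm.2 (Subgroup.mem_center_iff.1 hw g₀).symm
      · intro hw
        have h2 : ⁅(w : G), g₀⁆ = 1 := congrArg Subtype.val hw
        exact hCmem w w.2 (commutatorElement_eq_one_iff_mul_comm.1 h2)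
    rw [Subgroup.relIndex, h1]
    refine index_ker_of_ne hZc _ ⟨⟨y, hyW⟩, fun h => ?_⟩
    have h2 : ⁅y, g₀⁆ = 1 := congrArg Subtype.val h
    exact hg₀y (commutatorElement_eq_one_iff_mul_comm.2
      (commutatorElement_eq_one_iff_mul_comm.1 h2).symm)
  have hCi : C.index = p ^ 2 := by
    rw [← Subgroup.relIndex_mul_index hCW, hCrel, hWi, pow_two]
  -- complement of `C / Z` in `G / Z`
  have hQab : ∀ a b : G ⧸ Z, a * b = b * a := by
    intro a b
    obtain ⟨a, rfl⟩ := QuotientGroup.mk_surjective a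
    obtain ⟨b, rfl⟩ := QuotientGroup.mk_surjective b
    rw [← QuotientGroup.mk_mul, ← QuotientGroup.mk_mul, QuotientGroup.eq]
    have h1 : (a * b)⁻¹ * (b * a) = ⁅b⁻¹, a⁻¹⁆ := by
      rw [commutatorElement_def]; group
    rw [h1]
    exact hcom _ _
  have hQp : ∀ a : G ⧸ Z, a ^ p = 1 := by
    intro a
    obtain ⟨a, rfl⟩ := QuotientGroup.mk_surjective a
    rw [← QuotientGroup.mk_pow, QuotientGroup.eq_one_iff]
    exact hpow a
  obtain ⟨K, hK⟩ := Lib.FrattiniPGroup.exists_isCompl_of_elementary hQab hQp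
    (C.map (QuotientGroup.mk' Z))
  set U := K.comap (QuotientGroup.mk' Z) with hU
  have hZU : Z ≤ U := by
    intro z hz
    show (QuotientGroup.mk' Z) z ∈ K
    have : (QuotientGroup.mk' Z) z = 1 := (QuotientGroup.eq_one_iff z).2 hz
    rw [this]
    exact K.one_mem
  have hUC : U ⊓ C = Z := by
    apply le_antisymm
    · rintro x ⟨hxU, hxC⟩
      have h1 : (QuotientGroup.mk' Z) x ∈ C.map (QuotientGroup.mk' Z) ⊓ K := ⟨⟨x, hxC, rfl⟩, hxU⟩
      rw [hK.inf_eq_bot, Subgroup.mem_bot] at h1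
      exact (QuotientGroup.eq_one_iff x).1 h1
    · exact le_inf hZU hZC
  have hUC' : U ⊔ C = ⊤ := by
    rw [eq_top_iff]
    intro x _
    have h1 : (QuotientGroup.mk' Z) x ∈ C.map (QuotientGroup.mk' Z) ⊔ K := by
      rw [hK.sup_eq_top]
      exact Subgroup.mem_top _
    have hnK : K.Normal := ⟨fun k hk g => by rw [hQab g k, mul_inv_cancel_right]; exact hk⟩
    obtain ⟨a, ⟨c, hc, rfl⟩, k, hk, hak⟩ := Subgroup.mem_sup_of_normal_right.1 h1
    have h2 : c⁻¹ * x ∈ U := by
      show (QuotientGroup.mk' Z) (c⁻¹ * x) ∈ K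
      rw [map_mul, map_inv, ← hak, inv_mul_cancel_left]
      exact hk
    have h3 : x = c * (c⁻¹ * x) := by group
    rw [h3]
    exact Subgroup.mul_mem _ ((le_sup_right : C ≤ U ⊔ C) hc) ((le_sup_left : U ≤ U ⊔ C) h2)
  -- complement of `Z` in `C`
  have hCab : ∀ a b : C, a * b = b * a := fun a b =>
    Subtype.ext (hWab a (hCW a.2) b (hCW b.2))
  have hCp : ∀ a : C, a ^ p = 1 := fun a => Subtype.ext (by simpa using hWp a (hCW a.2))
  obtain ⟨K', hK'⟩ := Lib.FrattiniPGroup.exists_isCompl_of_elementary hCab hCp (Z.subgroupOf C)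
  set A := K'.map C.subtype with hA
  have hAC : A ≤ C := Subgroup.map_subtype_le K'
  have hZA : Z ⊓ A = ⊥ := by
    rw [eq_bot_iff]
    rintro x ⟨hxZ, ⟨a, ha, rfl⟩⟩
    have h1 : a ∈ Z.subgroupOf C ⊓ K' := ⟨hxZ, ha⟩
    rw [hK'.inf_eq_bot, Subgroup.mem_bot] at h1
    rw [h1]
    exact one_mem _
  have hZA' : C ≤ Z ⊔ A := by
    intro c hc
    have h1 : (⟨c, hc⟩ : C) ∈ Z.subgroupOf C ⊔ K' := by
      rw [hK'.sup_eq_top]
      exact Subgroup.mem_top _
    have hnK : K'.Normal := ⟨fun k hk g => by rw [hCab g k, mul_inv_cancel_right]; exact hk⟩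
    obtain ⟨a, ha, k, hk, hak⟩ := Subgroup.mem_sup_of_normal_right.1 h1
    have h2 : c = (a : G) * k := (congrArg Subtype.val hak).symm
    rw [h2]
    exact Subgroup.mul_mem _ ((le_sup_left : Z ≤ Z ⊔ A) ha) ((le_sup_right : A ≤ Z ⊔ A) ⟨k, hk, rfl⟩)
  have hUA : U ⊓ A = ⊥ := by
    rw [eq_bot_iff, ← hZA]
    rintro x ⟨hxU, hxA⟩
    exact ⟨hUC.le ⟨hxU, hAC hxA⟩, hxA⟩
  have hUA' : U ⊔ A = ⊤ := by
    rw [eq_top_iff, ← hUC']
    exact sup_le le_sup_left (hZA'.trans (sup_le (hZU.trans le_sup_left) le_sup_right))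
  have hAcen : ∀ a ∈ A, ∀ g : G, a * g = g * a := fun a ha g =>
    (Subgroup.mem_center_iff.1 (hAC ha) g).symm
  -- the isomorphism
  let f : U × A →* G := MonoidHom.noncommCoprod U.subtype A.subtype
    (fun u a => (hAcen a a.2 u).symm)
  have hf : ∀ x : U × A, f x = (x.1 : G) * x.2 := fun x => rfl
  have hfi : Function.Injective f := by
    rw [injective_iff_map_eq_one]
    rintro ⟨u, a⟩ hua
    rw [hf] at hua
    have h1 : (u : G) = (a : G)⁻¹ := eq_inv_of_mul_eq_one_left hua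
    have h2 : (u : G) ∈ U ⊓ A := ⟨u.2, by rw [h1]; exact A.inv_mem a.2⟩
    rw [hUA, Subgroup.mem_bot] at h2
    have h3 : (a : G) = 1 := by
      rw [h2, one_mul] at hua
      exact hua
    exact Prod.ext (Subtype.ext h2) (Subtype.ext h3)
  have hfs : Function.Surjective f := by
    intro g
    have hnA : A.Normal := ⟨fun a ha g => by rw [← hAcen a ha g, mul_inv_cancel_right]; exact ha⟩
    have h1 : g ∈ U ⊔ A := by rw [hUA']; exact Subgroup.mem_top _
    obtain ⟨u, hu, a, ha, hua⟩ := Subgroup.mem_sup_of_normal_right.1 h1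
    exact ⟨(⟨u, hu⟩, ⟨a, ha⟩), hua⟩
  let e : U × A ≃* G := MulEquiv.ofBijective f ⟨hfi, hfs⟩
  -- the order of `U`
  have hcardG : Nat.card U * Nat.card A = Nat.card G := by
    rw [← Nat.card_prod]
    exact Nat.card_congr e.toEquiv
  have hcardC : Nat.card C = p * Nat.card A := by
    let f' : Z × A →* G := MonoidHom.noncommCoprod Z.subtype A.subtype
      (fun u a => (hAcen a a.2 u).symm)
    have hf'i : Function.Injective f' := by
      rw [injective_iff_map_eq_one]
      rintro ⟨u, a⟩ hua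
      have hua' : (u : G) * a = 1 := hua
      have h1 : (u : G) = (a : G)⁻¹ := eq_inv_of_mul_eq_one_left hua'
      have h2 : (u : G) ∈ Z ⊓ A := ⟨u.2, by rw [h1]; exact A.inv_mem a.2⟩
      rw [hZA, Subgroup.mem_bot] at h2
      have h3 : (a : G) = 1 := by
        rw [h2, one_mul] at hua'
        exact hua'
      exact Prod.ext (Subtype.ext h2) (Subtype.ext h3)
    have hr : f'.range = C := by
      apply le_antisymm
      · rintro _ ⟨x, rfl⟩
        exact C.mul_mem (hZC x.1.2) (hAC x.2.2)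
      · intro c hc
        have hnA : A.Normal := ⟨fun a ha g => by rw [← hAcen a ha g, mul_inv_cancel_right]; exact ha⟩
        obtain ⟨u, hu, a, ha, hua⟩ := Subgroup.mem_sup_of_normal_right.1 (hZA' hc)
        exact ⟨(⟨u, hu⟩, ⟨a, ha⟩), hua⟩
    rw [← hr, ← hZc, ← Nat.card_prod]
    exact (Nat.card_congr (MonoidHom.ofInjective hf'i).toEquiv).symm
  have hcardU : Nat.card U = p ^ 3 := by
    have h1 : Nat.card C * C.index = Nat.card G := Subgroup.card_mul_index C
    rw [hCi, hcardC, ← hcardG] at h1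
    have h2 : 0 < Nat.card A := Nat.card_pos
    have h3 : Nat.card U * Nat.card A = p ^ 3 * Nat.card A := by rw [← h1]; ring
    exact Nat.eq_of_mul_eq_mul_right h2 h3
  refine ⟨U, A, hcardU, hZU, fun a ha => hWp a (hCW (hAC ha)), hAcen, ?_, ⟨e⟩⟩
  -- `U` is not abelian
  by_contra hcon
  push Not at hcon
  apply hg₀y
  rw [commutatorElement_eq_one_iff_mul_comm]
  obtain ⟨⟨u, a⟩, h1⟩ := hfs g₀
  obtain ⟨⟨u', a'⟩, h2⟩ := hfs y
  rw [hf] at h1 h2
  rw [← h1, ← h2]
  have c1 : Commute (u : G) u' := hcon u u.2 u' u'.2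
  have c2 : Commute (u : G) a' := (hAcen a' a'.2 u).symm
  have c3 : Commute (a : G) u' := hAcen a a.2 u'
  have c4 : Commute (a : G) a' := hAcen a a.2 a'
  exact ((c1.mul_right c2).mul_left (c3.mul_right c4)).eq

end

end Cfsg.Agent.H803
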