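import Cfsg.Agent.H803.GenExtra
import Cfsg.Agent.J2Type.ExtCube
import Cfsg.Agent.Lib.Dihedral
import Cfsg.Agent.Transfer.ClassTwo
/-!
# Generalized extraspecial groups: the dihedral and the exponent p case (helper803)
-/
set_option autoImplicit false

namespace Cfsg.Agent.H803
open scoped commutatorElement

/-- Every finite group is isomorphic to one in the lowest universe. -/
theorem exists_type_zero (E : Type*) [Group E] [Finite E] :
    ∃ (E' : Type) (_ : Group E'), Nonempty (E ≃* E') := by
  exact ⟨Shrink.{0} E, inferInstance, ⟨Shrink.mulEquiv.symm⟩⟩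

theorem exists_type_zero_comm (E : Type*) [Group E] [Finite E] (h : ∀ a b : E, a * b = b * a) :
    ∃ (E' : Type) (_ : CommGroup E'), Nonempty (E ≃* E') := by
  let _ : CommGroup E := { mul_comm := h }
  exact ⟨Shrink.{0} E, inferInstance, ⟨Shrink.mulEquiv.symm⟩⟩

/-- A nonabelian group of order 8 with a Klein four-like set of involutions is dihedral: here `Z` is a central
subgroup of order 2 containing all commutators and squares, `W` an elementary abelian subgroup with at least 4
elements. -/
theorem dihedral_of_card_eight {G : Type*} [Group G] [Finite G] (hc : Nat.card G = 8) {Z W : Subgroup G}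
    (hZc : Nat.card Z = 2) (hcom : ∀ a b : G, ⁅a, b⁆ ∈ Z) (hpow : ∀ a : G, a ^ 2 ∈ Z)
    (hZcen : ∀ z ∈ Z, ∀ g : G, g * z = z * g)
    (hWp : ∀ u ∈ W, u ^ 2 = 1) (hW4 : 4 ≤ Nat.card W) (hna : ∃ u v : G, u * v ≠ v * u) :
    Nonempty (G ≃* DihedralGroup 4) := by
  classical
  -- an element of order 4
  obtain ⟨r, hr⟩ : ∃ r : G, r ^ 2 ≠ 1 := by
    by_contra hcon
    push Not at hcon
    obtain ⟨u, v, huv⟩ := hna
    apply huv
    have h1 := hcon (u * v)
    have hu := hcon u
    have hv := hcon v
    have e1 : u⁻¹ = u := by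
      rw [inv_eq_iff_mul_eq_one, ← pow_two, hu]
    have e2 : v⁻¹ = v := by
      rw [inv_eq_iff_mul_eq_one, ← pow_two, hv]
    have e3 : (u * v)⁻¹ = u * v := by
      rw [inv_eq_iff_mul_eq_one, ← pow_two, h1]
    rw [← e3, mul_inv_rev, e1, e2]
  have hz2 : ∀ z ∈ Z, z ^ 2 = 1 := by
    intro z hz
    have := pow_card_eq_one' (x := (⟨z, hz⟩ : Z))
    rw [hZc] at this
    exact congrArg Subtype.val this
  have hr4 : r ^ 4 = 1 := by
    have : r ^ 4 = (r ^ 2) ^ 2 := by rw [← pow_mul]
    rw [this]
    exact hz2 _ (hpow r)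
  have hro : orderOf r = 4 := by
    have h1 : orderOf r = 2 ^ (1 + 1) := orderOf_eq_prime_pow (by simpa using hr) (by simpa using hr4)
    simpa using h1
  -- an element of `W` outside `⟨r⟩`
  obtain ⟨s, hsW, hsr⟩ : ∃ s ∈ W, s ∉ Subgroup.zpowers r := by
    by_contra hcon
    push Not at hcon
    have hle : W ≤ Subgroup.zpowers r := hcon
    have hcz : Nat.card (Subgroup.zpowers r) = 4 := by rw [Nat.card_zpowers, hro]
    have h1 : W = Subgroup.zpowers r := Subgroup.eq_of_le_of_card_ge hle (by rw [hcz]; exact hW4)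
    apply hr
    exact hWp r (h1 ▸ Subgroup.mem_zpowers r)
  have hss : s * s = 1 := by rw [← pow_two]; exact hWp s hsW
  have hZeq : ∀ d ∈ Z, d ≠ 1 → d = r ^ 2 := by
    intro d hd hd1
    obtain ⟨n, hn⟩ : ∃ n : ℕ, d = (r ^ 2) ^ n := by
      have hle : Subgroup.zpowers (r ^ 2) ≤ Z := by
        rw [Subgroup.zpowers_le]
        exact hpow r
      have hcard : Nat.card (Subgroup.zpowers (r ^ 2)) = 2 := by
        rw [Nat.card_zpowers]
        exact orderOf_eq_prime (hz2 _ (hpow r)) hr
      have h1 : Subgroup.zpowers (r ^ 2) = Z := Subgroup.eq_of_le_of_card_ge hle (by rw [hcard, hZc])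
      have h2 : d ∈ Subgroup.zpowers (r ^ 2) := h1 ▸ hd
      obtain ⟨n, hn⟩ := mem_powers_iff_mem_zpowers.2 h2
      exact ⟨n, hn.symm⟩
    rcases Nat.even_or_odd' n with ⟨k, rfl | rfl⟩
    · exfalso
      apply hd1
      rw [hn, pow_mul, hz2 _ (hpow r), one_pow]
    · rw [hn, pow_succ, pow_mul, hz2 _ (hpow r), one_pow, one_mul]
  refine Lib.Dihedral.nonempty_mulEquiv (by norm_num) r s hro hss ?_ hsr (by rw [hc])
  -- `s r s = r⁻¹`
  have hne : ⁅s, r⁆ ≠ 1 := by
    intro h
    rw [commutatorElement_eq_one_iff_mul_comm] at h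
    -- then the group is abelian
    have hcz : Nat.card (Subgroup.zpowers r) = 4 := by rw [Nat.card_zpowers, hro]
    have hall : ∀ g : G, g ∈ Subgroup.closure {r, s} := by
      have h1 : Subgroup.zpowers r ≤ Subgroup.closure {r, s} := by
        rw [Subgroup.zpowers_le]
        exact Subgroup.subset_closure (by simp)
      have h2 : 4 ∣ Nat.card (Subgroup.closure {r, s}) := hcz ▸ Subgroup.card_dvd_of_le h1
      have h3 : Nat.card (Subgroup.closure {r, s}) ∣ 8 := hc ▸ Subgroup.card_subgroup_dvd_card _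
      have h4 : Nat.card (Subgroup.closure {r, s}) ≠ 4 := by
        intro h4
        have h5 : Subgroup.zpowers r = Subgroup.closure {r, s} :=
          Subgroup.eq_of_le_of_card_ge h1 (by rw [h4, hcz])
        apply hsr
        rw [h5]
        exact Subgroup.subset_closure (by simp)
      have h5 : Nat.card (Subgroup.closure {r, s}) = 8 := by
        obtain ⟨k, hk⟩ := h2
        have h6 := Nat.le_of_dvd (by norm_num) h3
        rw [hk] at h3 h4 h6 ⊢
        have h7 : k ≤ 2 := by omega
        interval_cases k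
        · simp at h3
        · simp at h4
        · rfl
      have h6 : Subgroup.closure {r, s} = ⊤ := Subgroup.eq_top_of_card_eq _ (by rw [h5, hc])
      intro g
      rw [h6]
      exact Subgroup.mem_top g
    obtain ⟨u, v, huv⟩ := hna
    apply huv
    have hcomm : ∀ x ∈ ({r, s} : Set G), ∀ y ∈ ({r, s} : Set G), x * y = y * x := by
      rintro x (rfl | rfl) y (rfl | rfl)
      · rfl
      · exact h.symm
      · exact h
      · rfl
    let _ : CommGroup (Subgroup.closure ({r, s} : Set G)) := Subgroup.closureCommGroupOfComm hcomm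
    exact congrArg Subtype.val (mul_comm (⟨u, hall u⟩ : Subgroup.closure ({r, s} : Set G)) ⟨v, hall v⟩)
  have h1 := hZeq _ (hcom s r) hne
  rw [commutatorElement_def] at h1
  have hsi : s⁻¹ = s := by rw [inv_eq_iff_mul_eq_one, hss]
  have h2 : s * r * s⁻¹ = r ^ 2 * r := by rw [← h1]; group
  rw [hsi] at h2
  rw [h2, ← pow_succ]
  rw [eq_inv_iff_mul_eq_one, ← pow_succ]
  exact hr4

/-- The excluded structures. -/
theorem excluded_structure {G : Type*} [Group G] [Finite G] {p : ℕ} [Fact p.Prime]
    {Z : Subgroup G} (hZc : Nat.card Z = p) (hcom : ∀ a b : G, ⁅a, b⁆ ∈ Z)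
    (hpow : ∀ a : G, a ^ p ∈ Z) (hZcen : ∀ z ∈ Z, ∀ g : G, g * z = z * g) (W : Subgroup G)
    (hWab : ∀ u ∈ W, ∀ v ∈ W, u * v = v * u) (hWp : ∀ u ∈ W, u ^ p = 1) (hZW : Z ≤ W) {y : G}
    (hyW : y ∈ W) (hWy : ∀ g, g * y = y * g → g ∈ W) {g₀ : G} (hg₀ : g₀ ∉ W)
    (h : p = 2 ∨ g₀ ^ p = 1) :
    (p = 2 ∧ ∃ (A : Type) (_ : CommGroup A), (∀ a : A, a ^ 2 = 1) ∧
      Nonempty (G ≃* DihedralGroup 4 × A)) ∨
    (p ≠ 2 ∧ ∃ (E : Type) (_ : Group E) (A : Type) (_ : CommGroup A), Cfsg.IsExtraspecial p E ∧
      Nat.card E = p ^ 3 ∧ Monoid.exponent E = p ∧ (∀ a : A, a ^ p = 1) ∧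
      Nonempty (G ≃* E × A)) := by
  have hp : p.Prime := Fact.out
  obtain ⟨hWi, U, A, hUc, hZU, hAp, hAcen, ⟨u, hu, v, hv, huv⟩, ⟨e⟩⟩ :=
    exists_decomposition hZc hcom hpow hZcen W hWab hWp hZW hyW hWy hg₀
  obtain ⟨A', iA', ⟨eA⟩⟩ := exists_type_zero_comm A
    (fun a b => Subtype.ext (hAcen a a.2 b))
  have hA'p : ∀ a : A', a ^ p = 1 := by
    intro a
    obtain ⟨a, rfl⟩ := eA.surjective a
    rw [← map_pow]
    have : a ^ p = 1 := Subtype.ext (by simpa using hAp a a.2)
    rw [this, map_one]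
  by_cases hp2 : p = 2
  · left
    subst hp2
    refine ⟨rfl, A', iA', hA'p, ?_⟩
    -- `U` is dihedral
    have hWU : 4 ≤ Nat.card (W.subgroupOf U) := by
      have h1 : (W.subgroupOf U).index ∣ 2 := by
        rw [← hWi]
        have hWn : W.Normal := by
          have h2 : W.index = 2 := hWi
          exact Subgroup.normal_of_index_eq_two h2
        exact Subgroup.relIndex_dvd_index_of_normal W U
      have h2 := Subgroup.card_mul_index (W.subgroupOf U)
      rw [hUc] at h2
      have h3 := Nat.le_of_dvd (by norm_num) h1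
      by_contra hcon
      push Not at hcon
      have h4 : Nat.card (W.subgroupOf U) * (W.subgroupOf U).index ≤ 3 * 2 :=
        Nat.mul_le_mul (by omega) h3
      omega
    have hD : Nonempty (U ≃* DihedralGroup 4) := by
      refine dihedral_of_card_eight (Z := Z.subgroupOf U) (W := W.subgroupOf U) (by rw [hUc]; norm_num)
        ?_ ?_ ?_ ?_ ?_ hWU ⟨⟨u, hu⟩, ⟨v, hv⟩, fun h => huv (congrArg Subtype.val h)⟩
      · rw [← hZc]
        exact Nat.card_congr (Subgroup.subgroupOfEquivOfLe hZU).toEquiv
      · intro a b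
        exact hcom (a : G) b
      · intro a
        have := hpow (a : G)
        exact this
      · intro z hz g
        exact Subtype.ext (hZcen z hz g)
      · intro w hw
        exact Subtype.ext (by simpa using hWp w hw)
    obtain ⟨eD⟩ := hD
    exact ⟨e.symm.trans (MulEquiv.prodCongr eD eA)⟩
  · right
    refine ⟨hp2, ?_⟩
    have hg₀p : g₀ ^ p = 1 := h.resolve_left hp2
    obtain ⟨E', iE', ⟨eE⟩⟩ := exists_type_zero U
    have hcom2 : ∀ a b : G, ∀ c, Commute c ⁅a, b⁆ := fun a b c => hZcen _ (hcom a b) c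
    have hcomp : ∀ a b : G, ⁅a, b⁆ ^ p = 1 := fun a b => hWp _ (hZW (hcom a b))
    have hmul : ∀ a b : G, (a * b) ^ p = a ^ p * b ^ p := fun a b =>
      Transfer.ClassTwo.mul_pow_prime hp hp2 (hcom2 b a a) (hcom2 b a b) (hcomp b a)
    -- `G` has exponent `p`
    have hexp : ∀ g : G, g ^ p = 1 := by
      let K : Subgroup G :=
        { carrier := {g | g ^ p = 1}
          one_mem' := one_pow p
          mul_mem' := by
            intro a b ha hb
            show (a * b) ^ p = 1
            rw [hmul, ha, hb, one_mul]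
          inv_mem' := by
            intro a ha
            show a⁻¹ ^ p = 1
            rw [inv_pow, ha, inv_one] }
      have hWK : W ≤ K := fun w hw => hWp w hw
      have hg₀K : g₀ ∈ K := hg₀p
      have h1 : W.relIndex K * K.index = p := by
        rw [Subgroup.relIndex_mul_index hWK, hWi]
      have h2 : K.index ∣ p := ⟨_, by rw [← h1, mul_comm]⟩
      rcases (Nat.dvd_prime hp).1 h2 with h3 | h3
      · intro g
        have : g ∈ K := by
          rw [Subgroup.index_eq_one.1 h3]
          exact Subgroup.mem_top g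
        exact this
      · exfalso
        rw [h3] at h1
        have h4 : W.relIndex K = 1 := by
          have h5 : W.relIndex K * p = 1 * p := by rw [h1, one_mul]
          exact Nat.eq_of_mul_eq_mul_right hp.pos h5
        exact hg₀ (Subgroup.relIndex_eq_one.1 h4 hg₀K)
    have hcardE : Nat.card E' = p ^ 3 := by
      rw [← hUc]
      exact (Nat.card_congr eE.toEquiv).symm
    have hfE : Finite E' := Finite.of_equiv _ eE.toEquiv
    refine ⟨E', iE', A', iA', ?_, hcardE, ?_, hA'p, ⟨e.symm.trans (MulEquiv.prodCongr eE eA)⟩⟩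
    · refine J2Type.ExtCube.isExtraspecial_of_card_cube hcardE
        ⟨eE ⟨u, hu⟩, eE ⟨v, hv⟩, fun h => huv ?_⟩
      rw [← map_mul, ← map_mul] at h
      exact congrArg Subtype.val (eE.injective h)
    · have h1 : Monoid.exponent E' ∣ p := by
        apply Monoid.exponent_dvd_of_forall_pow_eq_one
        intro x
        obtain ⟨x, rfl⟩ := eE.surjective x
        rw [← map_pow]
        have : x ^ p = 1 := Subtype.ext (by simpa using hexp x)
        rw [this, map_one]
      rcases (Nat.dvd_prime hp).1 h1 with h2 | h2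
      · exfalso
        rw [Monoid.exp_eq_one_iff] at h2
        have h3 : Nat.card E' = 1 := Nat.card_unique
        rw [hcardE] at h3
        have := Nat.one_lt_pow (n := 3) (by norm_num) hp.one_lt
        omega
      · exact h2

end Cfsg.Agent.H803
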