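import Mathlib
/-!
# Two transvections with different centres generate an element inverting both centres (helper803)
-/
set_option autoImplicit false

namespace Cfsg.Agent.H803

theorem exists_inv_mod {W : Type*} [Group W] {p : ℕ} [Fact p.Prime] {a : ℕ} (ha : ¬ p ∣ a) :
    ∃ k : ℕ, ∀ z : W, z ^ p = 1 → z ^ (a * k) = z := by
  have hp : p.Prime := Fact.out
  obtain ⟨k, hk⟩ := Nat.exists_mul_mod_eq_one_of_coprime
    ((Nat.Prime.coprime_iff_not_dvd hp).2 ha).symm hp.one_lt
  refine ⟨k, fun z hz => ?_⟩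
  rw [pow_eq_pow_mod _ hz, hk.2, pow_one]

/-- Let `τ`, `τ'` be transvections of an abelian group with centres `⟨z⟩ ≠ ⟨y⟩` of order `p`, `y` not fixed by `τ` and
`z` not fixed by `τ'`. Then some element `i` of `⟨τ, τ'⟩` inverts `z` and `y` and fixes every element fixed by `τ` and
`τ'`; these together with `y`, `z` generate. -/
theorem exists_neg {W : Type*} [Group W] (hab : ∀ a b : W, a * b = b * a) {p : ℕ} [Fact p.Prime]
    (τ τ' : MulAut W) (z y : W) (hz : z ^ p = 1) (hy : y ^ p = 1) (hτz : τ z = z) (hτ'y : τ' y = y)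
    (a b : ℕ) (ha : ¬ p ∣ a) (hb : ¬ p ∣ b) (hτy : τ y = y * z ^ a) (hτ'z : τ' z = z * y ^ b)
    (h1 : ∀ w, ∃ s : ℕ, τ w = w * z ^ s) (h2 : ∀ w, ∃ s : ℕ, τ' w = w * y ^ s) :
    ∃ i ∈ Subgroup.closure {τ, τ'}, i z = z⁻¹ ∧ i y = y⁻¹ ∧
      ∀ w, ∃ (m n : ℕ) (c : W), w = c * y ^ m * z ^ n ∧ τ c = c ∧ τ' c = c ∧ i c = c := by
  have hp : p.Prime := Fact.out
  let _ : CommGroup W := { mul_comm := hab }
  obtain ⟨k, hk⟩ := exists_inv_mod (W := W) ha
  obtain ⟨l, hl⟩ := exists_inv_mod (W := W) hb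
  have hpow : ∀ n, (τ ^ n) z = z ∧ (τ ^ n) y = y * z ^ (a * n) := by
    intro n
    induction n with
    | zero => simp
    | succ n ih =>
      rw [pow_succ']
      refine ⟨?_, ?_⟩
      · rw [MulAut.mul_apply, ih.1, hτz]
      · rw [MulAut.mul_apply, ih.2, map_mul, map_pow, hτz, hτy, mul_assoc, ← pow_add]
        congr 2
        ring
  have hpow' : ∀ n, (τ' ^ n) y = y ∧ (τ' ^ n) z = z * y ^ (b * n) := by
    intro n
    induction n with
    | zero => simp
    | succ n ih =>
      rw [pow_succ']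
      refine ⟨?_, ?_⟩
      · rw [MulAut.mul_apply, ih.1, hτ'y]
      · rw [MulAut.mul_apply, ih.2, map_mul, map_pow, hτ'y, hτ'z, mul_assoc, ← pow_add]
        congr 2
        ring
  set u := τ ^ k with hu
  set v := τ' ^ (l * (p - 1)) with hv
  have huz : u z = z := (hpow k).1
  have huy : u y = y * z := by rw [hu, (hpow k).2, hk z hz]
  have hvy : v y = y := (hpow' _).1
  have hvz : v z = z * y⁻¹ := by
    rw [hv, (hpow' _).2, ← mul_assoc, pow_mul, hl y hy]
    congr 1
    rw [eq_inv_iff_mul_eq_one, ← pow_succ, Nat.sub_add_cancel hp.one_lt.le, hy]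
  set w := u * v * u with hw
  have hwz : w z = y⁻¹ := by
    show u (v (u z)) = y⁻¹
    rw [huz, hvz, map_mul, map_inv, huz, huy, mul_inv]
    rw [mul_comm y⁻¹, ← mul_assoc, mul_inv_cancel, one_mul]
  have hwy : w y = z := by
    show u (v (u y)) = z
    rw [huy, map_mul, hvy, hvz, mul_comm z, ← mul_assoc, mul_inv_cancel, one_mul, huz]
  have hτm : τ ∈ Subgroup.closure {τ, τ'} := Subgroup.subset_closure (by simp)
  have hτm' : τ' ∈ Subgroup.closure {τ, τ'} := Subgroup.subset_closure (by simp)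
  have hwm : w ∈ Subgroup.closure {τ, τ'} :=
    mul_mem (mul_mem (pow_mem hτm _) (pow_mem hτm' _)) (pow_mem hτm _)
  refine ⟨w * w, mul_mem hwm hwm, ?_, ?_, fun x => ?_⟩
  · show w (w z) = z⁻¹
    rw [hwz, map_inv, hwy]
  · show w (w y) = y⁻¹
    rw [hwy, hwz]
  · obtain ⟨s, hs⟩ := h1 x
    -- first correction
    have hy1 : ∀ m, τ (y ^ m) = y ^ m * z ^ (a * m) := by
      intro m
      rw [map_pow, hτy, mul_pow, ← pow_mul]
    have hz1 : ∀ m, τ' (z ^ m) = z ^ m * y ^ (b * m) := by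
      intro m
      rw [map_pow, hτ'z, mul_pow, ← pow_mul]
    have hks : z ^ (a * (k * s)) = z ^ s := by rw [← mul_assoc a, pow_mul, hk z hz]
    set c₁ := x * (y ^ (k * s))⁻¹ with hc₁
    have hτc₁ : τ c₁ = c₁ := by
      rw [hc₁, map_mul, map_inv, hs, hy1, hks, mul_inv]
      rw [mul_assoc, mul_comm ((y ^ (k * s))⁻¹), ← mul_assoc (z ^ s), mul_inv_cancel, one_mul]
    obtain ⟨t, ht⟩ := h2 c₁
    have hlt : y ^ (b * (l * t)) = y ^ t := by rw [← mul_assoc b, pow_mul, hl y hy]
    set c := c₁ * (z ^ (l * t))⁻¹ with hc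
    have hτc : τ c = c := by
      rw [hc, map_mul, map_inv, map_pow, hτz, hτc₁]
    have hτ'c : τ' c = c := by
      rw [hc, map_mul, map_inv, ht, hz1, hlt, mul_inv]
      rw [mul_assoc, mul_comm ((z ^ (l * t))⁻¹), ← mul_assoc (y ^ t), mul_inv_cancel, one_mul]
    have huc : u c = c := by
      have : ∀ n, (τ ^ n) c = c := by
        intro n
        induction n with
        | zero => rfl
        | succ n ih => rw [pow_succ', MulAut.mul_apply, ih, hτc]
      exact this _
    have hvc : v c = c := by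
      have : ∀ n, (τ' ^ n) c = c := by
        intro n
        induction n with
        | zero => rfl
        | succ n ih => rw [pow_succ', MulAut.mul_apply, ih, hτ'c]
      exact this _
    have hwc : w c = c := by
      show u (v (u c)) = c
      rw [huc, hvc, huc]
    refine ⟨k * s, l * t, c, ?_, hτc, hτ'c, ?_⟩
    · rw [hc, hc₁, mul_right_comm _ (z ^ (l * t))⁻¹, inv_mul_cancel_right, inv_mul_cancel_right]
    · show w (w c) = c
      rw [hwc, hwc]

end Cfsg.Agent.H803
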