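import Cfsg.Agent.H803.StrongRes
import Cfsg.Agent.H803.Constrained
import Cfsg.Agent.H803.Transv
import Cfsg.Agent.S0120
/-!
# Extending an involutory automorphism from a normal subgroup (helper803)
-/
set_option autoImplicit false

namespace Cfsg.Agent.H803
open Cfsg Cfsg.FusionSystem Cfsg.Agent.H759
open scoped commutatorElement

variable {Ω : Type*} [Group Ω] {S : Subgroup Ω} {F : FusionSystem S} {p : ℕ}

/-- Let `W` be normal in `F`, contained in the strongly closed `P` and containing all elements of order `p` of `P`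
(`p` odd). An involution `i` of `Aut_F(W)` commuting with the action of `P` extends to an involution `j` of
`Aut_F(P)`. -/
theorem exists_involution [Finite S] [Fact p.Prime] (hp2 : p ≠ 2) (hS : IsPGroup p S)
    (hF : F.IsSaturated p) {P W : Subgroup Ω} (hP : F.StronglyClosed P) (hW : F.IsNormal W)
    (hWP : W ≤ P) (hW1 : ∀ x ∈ P, x ^ p = 1 → x ∈ W) {i : MulAut W} (hi : i ∈ F.autGroup W)
    (hi2 : i * i = 1)
    (hcomm : ∀ g ∈ P, ∀ (w : W) (hg : g * (w : Ω) * g⁻¹ ∈ W),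
      ((i ⟨g * w * g⁻¹, hg⟩ : W) : Ω) = g * (i w : W) * g⁻¹) :
    ∃ j ∈ F.autGroup P, (∀ (w : Ω) (hw : w ∈ W), ((j ⟨w, hWP hw⟩ : P) : Ω) = (i ⟨w, hw⟩ : W)) ∧
      j * j = 1 := by
  have hp : p.Prime := Fact.out
  have hfP : Finite P := H802.finite_of_le hP.1
  have hfW : Finite W := H802.finite_of_le hW.1
  have hWr := H802.isReceptive_of_isFullyNormalized hS hF (isFullyNormalized_of_isNormal hW)
  have hiF := (H802.mem_autGroup_iff F hW.1 i).1 hi
  obtain ⟨χ, hχ, hχe⟩ := hWr.2 W _ hiF (H802.range_eq_of_mapsTo hiF (fun x => (i x).2))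
  have hSN : S ≤ Subgroup.normalizer (W : Set Ω) :=
    StronglyClosed.le_normalizer (IsNormal.stronglyClosed hW)
  have hPN : P ≤ extender S W (W.subtype.comp i.toMonoidHom) := by
    intro g hg
    rw [H802.mem_extender_iff]
    exact ⟨hP.1 hg, hSN (hP.1 hg), g, hP.1 hg, fun x hx => hcomm g hg x hx⟩
  have hψ := H802.restrict_mem hχ hPN
  set ψ := χ.comp (Subgroup.inclusion hPN) with hψdef
  have hψP : ∀ x : P, ψ x ∈ P := fun x => hP.2 P le_rfl _ hψ x
  obtain ⟨α, hα, hαe⟩ := H802.exists_aut hψ (H802.range_eq_of_mapsTo hψ hψP)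
  have hαW : ∀ (w : Ω) (hw : w ∈ W), ((α ⟨w, hWP hw⟩ : P) : Ω) = (i ⟨w, hw⟩ : W) := by
    intro w hw
    rw [hαe]
    exact hχe w hw (hPN (hWP hw))
  -- powers of `α` on `W`
  have hpow : ∀ n (w : Ω) (hw : w ∈ W), (((α ^ n) ⟨w, hWP hw⟩ : P) : Ω) = ((i ^ n) ⟨w, hw⟩ : W) := by
    intro n
    induction n with
    | zero => intro w hw; rfl
    | succ n ih =>
      intro w hw
      have h1 : (α ^ (n + 1)) ⟨w, hWP hw⟩ = (α ^ n) (α ⟨w, hWP hw⟩) := by rw [pow_succ]; rfl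
      have h2 : (i ^ (n + 1)) ⟨w, hw⟩ = (i ^ n) (i ⟨w, hw⟩) := by rw [pow_succ]; rfl
      have h3 : α ⟨w, hWP hw⟩ = ⟨(i ⟨w, hw⟩ : W), hWP (i ⟨w, hw⟩).2⟩ := Subtype.ext (hαW w hw)
      rw [h1, h2, h3]
      exact ih _ _
  have hfA : Finite (MulAut P) := inferInstance
  obtain ⟨a, m, hm, hn⟩ := Nat.exists_eq_pow_mul_and_not_dvd (orderOf_pos α).ne' p hp.ne_one
  have hodd : Odd (p ^ a) := (hp.odd_of_ne_two hp2).pow
  have hip : i ^ p ^ a = i := by
    obtain ⟨k, hk⟩ := hodd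
    rw [hk, pow_succ, pow_mul, pow_two, hi2, one_pow, one_mul]
  have hjo : (orderOf (α ^ p ^ a)).Coprime p := by
    have h1 : (α ^ p ^ a) ^ m = 1 := by
      rw [← pow_mul, ← hn, pow_orderOf_eq_one]
    exact Nat.Coprime.coprime_dvd_left (orderOf_dvd_of_pow_eq_one h1)
      ((Nat.Prime.coprime_iff_not_dvd hp).2 hm).symm
  have hjW : ∀ (w : Ω) (hw : w ∈ W), (((α ^ p ^ a) ⟨w, hWP hw⟩ : P) : Ω) = (i ⟨w, hw⟩ : W) := by
    intro w hw
    rw [hpow, hip]
  refine ⟨α ^ p ^ a, pow_mem hα _, hjW, ?_⟩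
  apply S0120.result hp2 (hS.to_le hP.1)
  · have h1 : (α ^ p ^ a * α ^ p ^ a) ^ orderOf (α ^ p ^ a) = 1 := by
      rw [← pow_two, ← pow_mul, mul_comm, pow_mul, pow_orderOf_eq_one, one_pow]
    exact Nat.Coprime.coprime_dvd_left (orderOf_dvd_of_pow_eq_one h1) hjo
  · intro x hx
    have hx' : (x : Ω) ^ p = 1 := by
      have := congrArg Subtype.val hx
      simpa using this
    have hxW : (x : Ω) ∈ W := hW1 x x.2 hx'
    apply Subtype.ext
    have h1 := hjW x hxW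
    have h2 := hjW _ (i ⟨x, hxW⟩).2
    show (((α ^ p ^ a) ((α ^ p ^ a) x) : P) : Ω) = x
    have h3 : (α ^ p ^ a) x = ⟨(i ⟨x, hxW⟩ : W), hWP (i ⟨x, hxW⟩).2⟩ := Subtype.ext h1
    rw [h3, h2]
    have h4 : i (i ⟨(x : Ω), hxW⟩) = ⟨(x : Ω), hxW⟩ := by
      have := congrArg (fun f : MulAut W => f ⟨(x : Ω), hxW⟩) hi2
      exact this
    exact congrArg Subtype.val h4

end Cfsg.Agent.H803
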