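import Cfsg.Agent.AschCrit.PSUTorus
import Cfsg.Agent.TwoFusion.GoldBenPSU
/-!
# `PSU₃(2^n)` is not generated by an elementary abelian 2-group and an involution (helper803)

`not_psu`: no `A` with `a² = 1` for all `a ∈ A` and no `x` with `x² = 1` satisfy `⟨A, x⟩ = PSU₃(2^n)`, `n ≥ 2`.
-/
set_option autoImplicit false

namespace Cfsg.Agent.H803.RankOne
open Cfsg Cfsg.Agent.LieRecognition Cfsg.Agent.LieRecognition.HermHeis
  Cfsg.Agent.LieRecognition.PSUThreeSylow Cfsg.Agent.AschCrit.PSUTorus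

theorem not_psu {F : Type*} [Field F] [Finite F] {n : ℕ} (hn : 2 ≤ n)
    (hF : Nat.card F = (2 ^ n) ^ 2) (hZ : Subgroup.center (Cfsg.PSU 3 F (2 ^ n)) = ⊥)
    (A : Subgroup (Cfsg.PSU 3 F (2 ^ n))) (hA : ∀ a ∈ A, a * a = 1) (x : Cfsg.PSU 3 F (2 ^ n))
    (hx : x * x = 1) (hgen : A ⊔ Subgroup.zpowers x = ⊤) : False := by
  have hn1 : 1 ≤ n := by omega
  have h2p : Fact (Nat.Prime 2) := ⟨Nat.prime_two⟩
  have hq : 1 < 2 ^ n := Nat.one_lt_two_pow (by omega)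
  have hq4 : 3 < 2 ^ n := by
    calc 3 < 2 ^ 2 := by norm_num
      _ ≤ 2 ^ n := Nat.pow_le_pow_right (by norm_num) hn
  obtain ⟨hch, σ, hσ, hs, -⟩ := exists_heis_equiv F hn1 hF
  obtain ⟨H, S, w, ψ, hfaith, hS, hcl, -, htor, -, -⟩ :=
    Cfsg.Agent.AschCrit.PSUTorus.exists_model (F := F) (σ := σ) hn1 hs hF
  obtain ⟨u, hu1, hu3⟩ := Cfsg.Agent.TwoFusion.GoldBenPSU.exists_unit hq4 hF
  have hu : (u : F) * σ u = 1 := by
    rw [hs, ← pow_succ', ← Units.val_pow_eq_pow_val, hu1, Units.val_one]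
  obtain ⟨y, hyH, hwy, hy⟩ := htor u hu
  -- `y ≠ 1`
  obtain ⟨x₀, hx₀⟩ := HermHeis.exists_heis_a (σ := σ) hq hs hF 1
  have hy1 : y ≠ 1 := by
    rintro rfl
    have h1 := hy x₀
    rw [one_mul, mul_one] at h1
    have h2 : x₀ = twist (u : F) hu x₀ := ψ.injective (Subtype.ext h1)
    have h3 : x₀.a = (u : F) ^ 3 * x₀.a := congrArg Heis.a h2
    rw [hx₀, mul_one] at h3
    exact hu3 (Units.ext (by rw [Units.val_pow_eq_pow_val, ← h3, Units.val_one]))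
  -- `y` commutes with the involutions of `S`
  have hyS : ∀ s ∈ S, s * s = 1 → s * y = y * s := by
    intro s hs' hss
    obtain ⟨v, hv⟩ := ψ.surjective ⟨s, hs'⟩
    have h1 : v * v = 1 := by
      apply ψ.injective
      rw [map_mul, hv, map_one]
      exact Subtype.ext hss
    have h2 : v.a = 0 := (mul_self_eq_one_iff v).1 h1
    have h3 : twist (u : F) hu v = v := by
      ext
      · show (u : F) ^ 3 * v.a = v.a
        rw [h2, mul_zero]
      · rfl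
    have h4 := hy v
    rw [h3, hv] at h4
    exact h4.symm
  -- `S` is a Sylow subgroup
  have hcardS : Nat.card S = 2 ^ (n * 3) := by
    rw [← Nat.card_congr ψ.toEquiv, HermHeis.card_heis hq hs hF, ← pow_mul]
  have hSp : IsPGroup 2 S := IsPGroup.of_card hcardS
  have hSi : ¬ 2 ∣ S.index := by
    have := Cfsg.Agent.SuzukiRankOne.Reduction.odd_index_of_le hS le_rfl
    exact fun h => Nat.not_even_iff_odd.mpr this (even_iff_two_dvd.mpr h)
  set S' : Sylow 2 (Cfsg.PSU 3 F (2 ^ n)) := hSp.toSylow hSi with hS'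
  have hS'S : (S' : Subgroup (Cfsg.PSU 3 F (2 ^ n))) = S := rfl
  have hAp : IsPGroup 2 A := fun a => ⟨1, Subtype.ext (by
    have := hA a a.2
    simpa [pow_two] using this)⟩
  have hxp : IsPGroup 2 (Subgroup.zpowers x) := by
    rintro ⟨_, m, rfl⟩
    refine ⟨1, Subtype.ext ?_⟩
    show (x ^ m) ^ 2 ^ 1 = 1
    rw [pow_one, ← zpow_natCast, zpow_comm, zpow_natCast, pow_two, hx, one_zpow]
  obtain ⟨T, hAT⟩ := hAp.exists_le_sylow
  obtain ⟨T', hxT'⟩ := hxp.exists_le_sylow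
  obtain ⟨g, hg⟩ := MulAction.exists_smul_eq (Cfsg.PSU 3 F (2 ^ n)) S' T
  obtain ⟨g', hg'⟩ := MulAction.exists_smul_eq (Cfsg.PSU 3 F (2 ^ n)) S' T'
  have hmem : ∀ (k : Cfsg.PSU 3 F (2 ^ n)) (a : Cfsg.PSU 3 F (2 ^ n)),
      a ∈ ((k • S' : Sylow 2 (Cfsg.PSU 3 F (2 ^ n))) : Subgroup (Cfsg.PSU 3 F (2 ^ n))) ↔
        k⁻¹ * a * k ∈ S := by
    intro k a
    rw [Sylow.coe_subgroup_smul, Subgroup.mem_pointwise_smul_iff_inv_smul_mem, hS'S]
    simp [MulAut.smul_def]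
  have hTm : ∀ a, a ∈ (T : Subgroup (Cfsg.PSU 3 F (2 ^ n))) ↔ g⁻¹ * a * g ∈ S := by
    intro a; rw [← hg]; exact hmem g a
  have hTm' : ∀ a, a ∈ (T' : Subgroup (Cfsg.PSU 3 F (2 ^ n))) ↔ g'⁻¹ * a * g' ∈ S := by
    intro a; rw [← hg']; exact hmem g' a
  -- the two Sylow subgroups fix different points
  have hstab : MulAction.stabilizer (Cfsg.PSU 3 F (2 ^ n))
      (QuotientGroup.mk 1 : Cfsg.PSU 3 F (2 ^ n) ⧸ H) = H := by
    ext k
    rw [MulAction.mem_stabilizer_iff]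
    show ((k * 1 : Cfsg.PSU 3 F (2 ^ n)) : Cfsg.PSU 3 F (2 ^ n) ⧸ H) = ((1 : Cfsg.PSU 3 F (2 ^ n)) : _ ⧸ H) ↔ _
    rw [mul_one, QuotientGroup.eq, mul_one, inv_mem_iff]
  have hSH : ∀ h ∈ H, ∀ s ∈ S, h * s * h⁻¹ ∈ S := fun h hh s hs' =>
    hS.conj_mem h (by rw [hstab]; exact hh) s hs'
  have hwS : w ∉ S := fun h => hS.not_mem (hS.le h)
  have hgg' : g⁻¹ * g' ∉ H := by
    intro hh
    -- `T = T'`
    have hTT : ∀ a, a ∈ (T' : Subgroup (Cfsg.PSU 3 F (2 ^ n))) → a ∈ (T : Subgroup (Cfsg.PSU 3 F (2 ^ n))) := by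
      intro a ha
      rw [hTm]
      have h1 := hSH _ hh _ ((hTm' a).1 ha)
      have h2 : g⁻¹ * g' * (g'⁻¹ * a * g') * (g⁻¹ * g')⁻¹ = g⁻¹ * a * g := by group
      rwa [h2] at h1
    have hle : (⊤ : Subgroup (Cfsg.PSU 3 F (2 ^ n))) ≤ T := by
      rw [← hgen]
      exact sup_le hAT (fun a ha => hTT a (hxT' ha))
    have h3 := (hTm (g * w * g⁻¹)).1 (hle (Subgroup.mem_top _))
    apply hwS
    have h4 : g⁻¹ * (g * w * g⁻¹) * g = w := by group
    rwa [h4] at h3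
  obtain ⟨k, hk1, hk2⟩ : ∃ k : Cfsg.PSU 3 F (2 ^ n), g⁻¹ * k ∈ H ∧ g'⁻¹ * (k * w) ∈ H := by
    have h2t := hS.two_transitive
    rw [MulAction.is_two_pretransitive_iff] at h2t
    have hne1 : (QuotientGroup.mk 1 : Cfsg.PSU 3 F (2 ^ n) ⧸ H) ≠ QuotientGroup.mk w := by
      intro h
      apply hS.not_mem
      rw [hstab]
      rw [QuotientGroup.eq] at h
      simpa using h
    have hne2 : (QuotientGroup.mk g : Cfsg.PSU 3 F (2 ^ n) ⧸ H) ≠ QuotientGroup.mk g' := by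
      intro h
      exact hgg' (QuotientGroup.eq.1 h)
    obtain ⟨k, hk1, hk2⟩ := h2t hne1 hne2
    refine ⟨k, ?_, ?_⟩
    · have h3 : (QuotientGroup.mk (k * 1) : Cfsg.PSU 3 F (2 ^ n) ⧸ H) = QuotientGroup.mk g := hk1
      rw [eq_comm, QuotientGroup.eq, mul_one] at h3
      exact h3
    · have h3 : (QuotientGroup.mk (k * w) : Cfsg.PSU 3 F (2 ^ n) ⧸ H) = QuotientGroup.mk g' := hk2
      rw [eq_comm, QuotientGroup.eq] at h3
      exact h3
  -- the element `k y k⁻¹` is central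
  have hc1 : ∀ a ∈ A, a * (k * y * k⁻¹) = (k * y * k⁻¹) * a := by
    intro a ha
    have h1 : k⁻¹ * a * k ∈ S := by
      have h2 := hSH _ (H.inv_mem hk1) _ ((hTm a).1 (hAT ha))
      have h3 : (g⁻¹ * k)⁻¹ * (g⁻¹ * a * g) * (g⁻¹ * k)⁻¹⁻¹ = k⁻¹ * a * k := by group
      rwa [h3] at h2
    have h4 := hyS _ h1 (by
      have : k⁻¹ * a * k * (k⁻¹ * a * k) = k⁻¹ * (a * a) * k := by group
      rw [this, hA a ha]; group)
    calc a * (k * y * k⁻¹) = k * (k⁻¹ * a * k * y) * k⁻¹ := by group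
      _ = k * (y * (k⁻¹ * a * k)) * k⁻¹ := by rw [h4]
      _ = _ := by group
  have hc2 : x * (k * y * k⁻¹) = (k * y * k⁻¹) * x := by
    have h1 : (k * w)⁻¹ * x * (k * w) ∈ S := by
      have h2 := hSH _ (H.inv_mem hk2) _ ((hTm' x).1 (hxT' (Subgroup.mem_zpowers x)))
      have h3 : (g'⁻¹ * (k * w))⁻¹ * (g'⁻¹ * x * g') * (g'⁻¹ * (k * w))⁻¹⁻¹ = (k * w)⁻¹ * x * (k * w) := by
        group
      rwa [h3] at h2
    have h4 := hyS _ h1 (by
      have : (k * w)⁻¹ * x * (k * w) * ((k * w)⁻¹ * x * (k * w)) = (k * w)⁻¹ * (x * x) * (k * w) := by group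
      rw [this, hx]; group)
    have h5 : w * y * w⁻¹ = y := by rw [hwy]; group
    calc x * (k * y * k⁻¹) = x * (k * (w * y * w⁻¹) * k⁻¹) := by rw [h5]
      _ = (k * w) * ((k * w)⁻¹ * x * (k * w) * y) * (k * w)⁻¹ := by group
      _ = (k * w) * (y * ((k * w)⁻¹ * x * (k * w))) * (k * w)⁻¹ := by rw [h4]
      _ = (k * (w * y * w⁻¹) * k⁻¹) * x := by group
      _ = _ := by rw [h5]
  have hcen : k * y * k⁻¹ ∈ Subgroup.center (Cfsg.PSU 3 F (2 ^ n)) := by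
    have h1 : A ⊔ Subgroup.zpowers x ≤ Subgroup.centralizer {k * y * k⁻¹} := by
      refine sup_le (fun a ha => ?_) ?_
      · rw [Subgroup.mem_centralizer_singleton_iff]
        exact hc1 a ha
      · rw [Subgroup.zpowers_le, Subgroup.mem_centralizer_singleton_iff]
        exact hc2
    rw [hgen] at h1
    rw [Subgroup.mem_center_iff]
    intro b
    exact (Subgroup.mem_centralizer_singleton_iff.1 (h1 (Subgroup.mem_top b)))
  rw [hZ, Subgroup.mem_bot] at hcen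
  apply hy1
  have : y = k⁻¹ * (k * y * k⁻¹) * k := by group
  rw [this, hcen]; group

end Cfsg.Agent.H803.RankOne
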