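import Cfsg.Agent.H803.OmWreath

/-!
# The frame of planes is determined by the 2-subgroup (helper803)

* `vx_psi` : the commutator space of an element `x` of the wreath product with `(x² + 1)(x - 1) = 0` is a sum of planes;
* `exists_perm` : an isometry which maps sums of two planes to sums of two planes permutes the planes;
* `norm_mem` : the normaliser of `psi (sub D S E) ∩ ker chi` is contained in `psi (sub D S E)`.
-/

set_option autoImplicit false
set_option linter.unusedSectionVars false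

namespace Cfsg.Agent.H803.OmFrame

open Matrix Subgroup QuadraticMap Equiv
open Cfsg.Agent.H637 Cfsg.Agent.H803.WrNorm Cfsg.Agent.H803.OmPlane Cfsg.Agent.H803.OmWreath
open Cfsg.Agent.ClassicalGeometry.Reflection

variable {F : Type*} [Field F] {κ ρ : Type} [Fintype κ] [DecidableEq κ] [Fintype ρ] [DecidableEq ρ]

theorem one'_ne' (i : Fin 2) : one' (Fin 2) F i ≠ 0 := one_ne_zero

theorem mulVec_left_eq_zero {a : MM F} {w : Fin 2 → F}
    (h : ((a : GL (Fin 2) F) : Matrix (Fin 2) (Fin 2) F) *ᵥ w = 0) : w = 0 := by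
  have h1 : (((a⁻¹ : MM F) : GL (Fin 2) F) : Matrix (Fin 2) (Fin 2) F) *ᵥ
      (((a : GL (Fin 2) F) : Matrix (Fin 2) (Fin 2) F) *ᵥ w) = w := by
    rw [← coe_mul_mulVec, inv_mul_cancel]
    exact Matrix.one_mulVec _
  rw [← h1, h, Matrix.mulVec_zero]

/-- Moved planes. -/
theorem sq_moved {d : ρ → F} {x : Wr (MM F) κ × CC d} (hx : Sq (psi κ d x)) {i : κ}
    (hi : x.1.right i ≠ i) (w : Fin 2 → F) :
    ap (psi κ d x) (ap (psi κ d x) (emb i w)) = -emb i w := by
  have h1 := hx (emb i w)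
  rw [psi_emb, psi_emb, psi_emb] at h1
  have h2 : x.1.right (x.1.right i) = i := by
    by_contra hne
    -- the component at `σ i`
    have h3 := hx (emb i (fun _ => 1))
    rw [psi_emb, psi_emb, psi_emb] at h3
    have h4 := congrArg (pr (x.1.right i)) h3
    rw [pr_add, pr_add, pr_emb, pr_emb, pr_emb, pr_emb, if_pos rfl, if_neg hi,
      if_neg (fun h => hne (x.1.right.injective h).symm), if_neg (fun h => hi (x.1.right.injective h).symm),
      zero_add, zero_add] at h4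
    have h5 := mulVec_left_eq_zero h4
    exact one_ne_zero (congrFun h5 0)
  have h3 := congrArg (pr i) h1
  rw [pr_add, pr_add, pr_emb, pr_emb, pr_emb, pr_emb, if_pos rfl, if_neg (Ne.symm hi),
    if_neg (fun h => hi (by rw [h2] at h; exact h.symm)), if_pos h2.symm, zero_add] at h3
  rw [psi_emb, psi_emb, ← sub_eq_zero, sub_neg_eq_add]
  refine ext_pr (fun j => ?_) ?_
  · rw [pr_add, pr_emb, pr_emb, h2]
    by_cases hj : j = i
    · rw [if_pos hj, if_pos hj, ← h2, h2]
      rw [h2] at h3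
      exact h3.symm
    · rw [if_neg hj, if_neg hj, add_zero]
      rfl
  · rw [pR_add, pR_emb, pR_emb, add_zero]
    rfl

/-- Fixed planes. -/
theorem sq_fixed (h2 : (2 : F) ≠ 0) {d : ρ → F} {x : Wr (MM F) κ × CC d} (hx : Sq (psi κ d x)) {i : κ}
    (hi : x.1.right i = i) (hi' : x.1.left i ≠ 1) (w : Fin 2 → F) :
    ap (psi κ d x) (ap (psi κ d x) (emb i w)) = -emb i w := by
  set A : Matrix (Fin 2) (Fin 2) F := ((x.1.left i : GL (Fin 2) F) : Matrix (Fin 2) (Fin 2) F) with hA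
  have h1 : ∀ w, A *ᵥ (A *ᵥ (A *ᵥ w)) + A *ᵥ w = A *ᵥ (A *ᵥ w) + w := by
    intro w
    have h3 := congrArg (pr i) (hx (emb i w))
    simp only [psi_emb, hi, pr_add, pr_emb, if_true] at h3
    exact h3
  have h3 : (A * A + 1) * (A - 1) = 0 := by
    apply Matrix.mulVec_injective
    funext w
    rw [Matrix.zero_mulVec, ← Matrix.mulVec_mulVec, Matrix.sub_mulVec, Matrix.one_mulVec, Matrix.mulVec_sub,
      Matrix.add_mulVec, Matrix.add_mulVec, ← Matrix.mulVec_mulVec, ← Matrix.mulVec_mulVec, Matrix.one_mulVec,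
      Matrix.one_mulVec, h1 w, sub_self]
  rcases plane_sq h2 A (det_sq h2 _ one'_ne' (x.1.left i).2) h3 with h4 | h4
  · exfalso
    apply hi'
    apply Subtype.ext
    apply Units.ext
    exact h4
  · rw [psi_emb, psi_emb, hi, hi]
    have h5 : A *ᵥ (A *ᵥ w) = -w := by
      rw [Matrix.mulVec_mulVec, h4, Matrix.neg_mulVec, Matrix.one_mulVec]
    rw [← hA, h5]
    have e : ((-1 : F) • w) = -w := by rw [neg_smul, one_smul]
    rw [← e, emb_smul, neg_smul, one_smul]

/-- The support. -/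
noncomputable def supp {d : ρ → F} (x : Wr (MM F) κ × CC d) : Finset κ := by
  classical exact Finset.univ.filter (fun i => x.1.right i ≠ i ∨ x.1.left i ≠ 1)

theorem mem_supp {d : ρ → F} {x : Wr (MM F) κ × CC d} {i : κ} :
    i ∈ supp x ↔ x.1.right i ≠ i ∨ x.1.left i ≠ 1 := by
  classical
  rw [supp, Finset.mem_filter]
  exact ⟨fun h => h.2, fun h => ⟨Finset.mem_univ _, h⟩⟩

/-- The condition on the rest: no isometry of square `-1`. -/
def NoSq (d : ρ → F) : Prop :=
  ∀ b : CC d, (((b : GL ρ F) : Matrix ρ ρ F) * ((b : GL ρ F) : Matrix ρ ρ F) + 1) *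
    (((b : GL ρ F) : Matrix ρ ρ F) - 1) = 0 → ((b : GL ρ F) : Matrix ρ ρ F) = 1

theorem vx_psi (h2 : (2 : F) ≠ 0) {d : ρ → F} (hd : NoSq d) {x : Wr (MM F) κ × CC d}
    (hx : Sq (psi κ d x)) : Vx (psi κ d x) = PS F ρ (supp x) := by
  apply le_antisymm
  · rintro _ ⟨v, rfl⟩
    rw [LinearMap.sub_apply, LinearMap.id_apply]
    have hsub : ∀ i, pr i (ap (psi κ d x) v - v) = pr i (ap (psi κ d x) v) - pr i v := fun _ => rfl
    have hsubR : pR (ap (psi κ d x) v - v) = pR (ap (psi κ d x) v) - pR v := rfl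
    refine ⟨fun i hi => ?_, ?_⟩
    · rw [mem_supp, not_or, not_not, not_not] at hi
      rw [hsub, pr_psi, hi.2]
      have h3 : x.1.right.symm i = i := by rw [Equiv.symm_apply_eq]; exact hi.1.symm
      rw [h3, sub_eq_zero]
      exact Matrix.one_mulVec _
    · have h1 : ∀ w, ((x.2 : GL ρ F) : Matrix ρ ρ F) *ᵥ (((x.2 : GL ρ F) : Matrix ρ ρ F) *ᵥ
          (((x.2 : GL ρ F) : Matrix ρ ρ F) *ᵥ w)) + ((x.2 : GL ρ F) : Matrix ρ ρ F) *ᵥ w =
          ((x.2 : GL ρ F) : Matrix ρ ρ F) *ᵥ (((x.2 : GL ρ F) : Matrix ρ ρ F) *ᵥ w) + w := by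
        intro w
        have h3 := congrArg pR (hx (eR w))
        rw [pR_add, pR_add, pR_psi, pR_psi, pR_psi, pR_eR] at h3
        exact h3
      have h3 := hd x.2 (by
        apply Matrix.mulVec_injective
        funext w
        rw [Matrix.zero_mulVec, ← Matrix.mulVec_mulVec, Matrix.sub_mulVec, Matrix.one_mulVec, Matrix.mulVec_sub,
          Matrix.add_mulVec, Matrix.add_mulVec, ← Matrix.mulVec_mulVec, ← Matrix.mulVec_mulVec, Matrix.one_mulVec,
          Matrix.one_mulVec, h1 w, sub_self])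
      rw [hsubR, pR_psi, h3, Matrix.one_mulVec, sub_self]
  · apply PS_le
    intro i hi w
    apply mem_Vx h2
    by_cases h : x.1.right i = i
    · exact sq_fixed h2 hx h ((mem_supp.1 hi).resolve_left (not_not.2 h)) w
    · exact sq_moved hx h w

/-! ### The rotations of order four -/

/-- The rotation. -/
def rotM (F : Type*) [Field F] : Matrix (Fin 2) (Fin 2) F := !![0, -1; 1, 0]

theorem rotM_sq : rotM F * rotM F = -1 := by
  ext i j
  fin_cases i <;> fin_cases j <;> simp [rotM, Matrix.mul_apply, Fin.sum_univ_two]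

theorem exists_rot : ∃ r : MM F, ((r : GL (Fin 2) F) : Matrix (Fin 2) (Fin 2) F) = rotM F := by
  have hdet : (rotM F).det ≠ 0 := by
    rw [rotM, Matrix.det_fin_two_of]
    simp
  refine ⟨⟨Matrix.GeneralLinearGroup.mkOfDetNeZero _ hdet, ?_⟩, rfl⟩
  rw [mem_isometryGroup_iff]
  intro v
  change DQ _ (rotM F *ᵥ v) = _
  rw [DQ_apply, DQ_apply, Fin.sum_univ_two, Fin.sum_univ_two]
  simp [rotM, one', Matrix.mulVec, dotProduct, Fin.sum_univ_two]
  ring

/-- The rotation, as an isometry. -/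
noncomputable def rot (F : Type*) [Field F] : MM F := exists_rot.choose

theorem coe_rot : (((rot F : MM F) : GL (Fin 2) F) : Matrix (Fin 2) (Fin 2) F) = rotM F :=
  exists_rot.choose_spec

theorem rot_sq (w : Fin 2 → F) : (((rot F : MM F) : GL (Fin 2) F) : Matrix (Fin 2) (Fin 2) F) *ᵥ
    ((((rot F : MM F) : GL (Fin 2) F) : Matrix (Fin 2) (Fin 2) F) *ᵥ w) = -w := by
  rw [coe_rot, Matrix.mulVec_mulVec, rotM_sq, Matrix.neg_mulVec, Matrix.one_mulVec]

theorem rot_ne_one : rot F ≠ 1 := by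
  intro h
  have h1 := coe_rot (F := F)
  rw [h] at h1
  have h2 := congrFun (congrFun h1 0) 0
  change (1 : Matrix (Fin 2) (Fin 2) F) 0 0 = rotM F 0 0 at h2
  rw [Matrix.one_apply_eq] at h2
  exact one_ne_zero h2

theorem rot_pow : (rot F) ^ 2 ^ 2 = 1 := by
  apply isometryGroup_ext
  intro w
  have e : (rot F) ^ 2 ^ 2 = rot F * rot F * (rot F * rot F) := by
    rw [show (2 : ℕ) ^ 2 = 2 + 2 from rfl, pow_add, pow_two]
  rw [e, coe_mul_mulVec, coe_mul_mulVec, coe_mul_mulVec, rot_sq, rot_sq, neg_neg]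
  exact (Matrix.one_mulVec _).symm

/-- The product of the rotations in two planes. -/
noncomputable def rr (κ : Type) [Fintype κ] [DecidableEq κ] (d : ρ → F) (i j : κ) : Wr (MM F) κ × CC d :=
  sg (CC d) i (rot F) * sg (CC d) j (rot F)

theorem rr_right (d : ρ → F) (i j : κ) : (rr κ d i j).1.right = 1 := rfl

theorem rr_snd (d : ρ → F) (i j : κ) : (rr κ d i j).2 = 1 := mul_one _

theorem rr_left (d : ρ → F) {i j : κ} (hij : i ≠ j) (k : κ) :
    (rr κ d i j).1.left k = if k = i ∨ k = j then rot F else 1 := by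
  have e3 : (rr κ d i j).1.left k = (sg (CC d) i (rot F)).1.left k * (sg (CC d) j (rot F)).1.left k := rfl
  rw [e3, sg_left, sg_left]
  by_cases hi : k = i
  · rw [if_pos hi, if_neg (fun h => hij (hi.symm.trans h)), if_pos (Or.inl hi), mul_one]
  · rw [if_neg hi, one_mul]
    by_cases hj : k = j
    · rw [if_pos hj, if_pos (Or.inr hj)]
    · rw [if_neg hj, if_neg]
      rintro (h | h)
      · exact hi h
      · exact hj h

theorem supp_rr (d : ρ → F) {i j : κ} (hij : i ≠ j) : supp (rr κ d i j) = {i, j} := by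
  ext k
  rw [mem_supp, rr_left d hij, rr_right]
  simp only [Perm.coe_one, id_eq, ne_eq, not_true_eq_false, false_or, Finset.mem_insert, Finset.mem_singleton]
  by_cases h : k = i ∨ k = j
  · rw [if_pos h]
    exact ⟨fun _ => h, fun _ => rot_ne_one⟩
  · rw [if_neg h]
    exact ⟨fun h' => absurd rfl h', fun h' => absurd h' h⟩

theorem pr_rr (d : ρ → F) {i j : κ} (hij : i ≠ j) (k : κ) (v : (κ × Fin 2) ⊕ ρ → F) :
    pr k (ap (psi κ d (rr κ d i j)) v) =
      ((((if k = i ∨ k = j then rot F else 1 : MM F)) : GL (Fin 2) F) : Matrix (Fin 2) (Fin 2) F) *ᵥ pr k v := by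
  rw [pr_psi, rr_left d hij]
  rfl

theorem sq_rr (d : ρ → F) {i j : κ} (hij : i ≠ j) : Sq (psi κ d (rr κ d i j)) := by
  intro v
  refine ext_pr (fun k => ?_) ?_
  · rw [pr_add, pr_add, pr_rr d hij, pr_rr d hij, pr_rr d hij]
    split_ifs with h
    · rw [rot_sq, rot_sq, neg_add_cancel, neg_add_cancel]
    · have e2 : ∀ w : Fin 2 → F, ((((1 : MM F) : GL (Fin 2) F)) : Matrix (Fin 2) (Fin 2) F) *ᵥ w = w :=
        fun w => Matrix.one_mulVec _
      rw [e2, e2, e2]
  · rw [pR_add, pR_add, pR_psi, pR_psi, pR_psi, rr_snd]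
    have e2 : ∀ w : ρ → F, ((((1 : CC d) : GL ρ F)) : Matrix ρ ρ F) *ᵥ w = w :=
      fun w => Matrix.one_mulVec _
    rw [e2, e2, e2]

/-! ### Isometries permuting the sums of two planes -/

theorem card_of_PS_eq [Fintype F] {d : ρ → F} (g : OO κ d) {I J : Finset κ}
    (h : (PS F ρ I).map (ap g) = PS F ρ J) : I.card = J.card := by
  have h1 : Nat.card ((PS F ρ I).map (ap g)) = Nat.card (PS F ρ I) :=
    Nat.card_congr (Submodule.equivMapOfInjective (ap g) (ap_injective g) (PS F ρ I)).symm.toEquiv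
  rw [h, card_PS, card_PS] at h1
  have h2 := Nat.pow_right_injective (Fintype.one_lt_card (α := F)) h1
  omega

theorem PS_singleton_injective {i j : κ} (h : PS F ρ {i} = PS F ρ ({j} : Finset κ)) : i = j := by
  by_contra hne
  have h1 : (emb i (fun _ => 1) : (κ × Fin 2) ⊕ ρ → F) ∈ PS F ρ ({j} : Finset κ) := by
    rw [← h]
    exact emb_mem_PS (Finset.mem_singleton_self i) _
  have h2 := h1.1 i (by simpa using hne)
  rw [pr_emb, if_pos rfl] at h2
  exact one_ne_zero (congrFun h2 0)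

theorem exists_perm [Fintype F] (hk : 3 ≤ Fintype.card κ) {d : ρ → F} (g : OO κ d)
    (hg : ∀ i j : κ, i ≠ j → ∃ J : Finset κ, (PS F ρ {i, j}).map (ap g) = PS F ρ J) :
    ∃ σ : Perm κ, ∀ i, (PS F ρ {i}).map (ap g) = PS F ρ {σ i} := by
  have h1 : ∀ i : κ, ∃ i', (PS F ρ {i}).map (ap g) = PS F ρ {i'} := by
    intro i
    obtain ⟨j, hj⟩ : ∃ j, j ≠ i := by
      have : Nontrivial κ := Fintype.one_lt_card_iff_nontrivial.1 (by omega)
      exact exists_ne i
    obtain ⟨l, hl⟩ : ∃ l, l ∉ ({i, j} : Finset κ) := by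
      by_contra hcon
      push Not at hcon
      have h3 : (Finset.univ : Finset κ) ⊆ {i, j} := fun x _ => hcon x
      have h4 := Finset.card_le_card h3
      rw [Finset.card_univ] at h4
      have h5 := Finset.card_le_two (a := i) (b := j)
      omega
    simp only [Finset.mem_insert, Finset.mem_singleton, not_or] at hl
    obtain ⟨J, hJ⟩ := hg i j hj.symm
    obtain ⟨K, hK⟩ := hg i l (Ne.symm hl.1)
    have h3 : ({i} : Finset κ) = {i, j} ∩ {i, l} := by
      ext x
      simp only [Finset.mem_inter, Finset.mem_insert, Finset.mem_singleton]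
      constructor
      · exact fun h => ⟨Or.inl h, Or.inl h⟩
      · rintro ⟨h | h, h' | h'⟩
        · exact h
        · exact h
        · exact h'
        · exact absurd (h'.symm.trans h) hl.2
    have h4 : (PS F ρ {i}).map (ap g) = PS F ρ (J ∩ K) := by
      rw [h3, ← PS_inf, Submodule.map_inf _ (ap_injective g), hJ, hK, PS_inf]
    have h5 := card_of_PS_eq g h4
    rw [Finset.card_singleton] at h5
    obtain ⟨i', hi'⟩ := Finset.card_eq_one.1 h5.symm
    exact ⟨i', by rw [h4, hi']⟩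
  choose f hf using h1
  have hinj : Function.Injective f := by
    intro i j hij
    apply PS_singleton_injective (F := F) (ρ := ρ)
    apply Submodule.map_injective_of_injective (ap_injective g)
    rw [hf, hf, hij]
  exact ⟨Equiv.ofBijective f (Finite.injective_iff_bijective.1 hinj), hf⟩

/-! ### The spinor norm -/

section Chi

variable [Fintype F]

theorem sg_reflIso (d : ρ → F) (i : κ) (v : Fin 2 → F) (hv : DQ (one' (Fin 2) F) v ≠ 0)
    (hv' : DQ (cf κ d) (emb i v) ≠ 0) :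
    psi κ d (sg (CC d) i (reflIso (DQ (one' (Fin 2) F)) v hv)) = reflIso (DQ (cf κ d)) (emb i v) hv' := by
  apply ap_ext
  intro w
  have e1 : ap (reflIso (DQ (cf κ d)) (emb i v) hv') w =
      w - ((DQ (cf κ d) (emb i v))⁻¹ * polar (⇑(DQ (cf κ d))) (emb i v) w) • emb i v := by
    rw [ap_apply, coe_reflIso, reflectionMatrix_mulVec]
  rw [e1, DQ_emb, polar_emb]
  have hsub : ∀ (j : κ) (a b : (κ × Fin 2) ⊕ ρ → F), pr j (a - b) = pr j a - pr j b := fun _ _ _ => rfl
  have hsubR : ∀ (a b : (κ × Fin 2) ⊕ ρ → F), pR (a - b) = pR a - pR b := fun _ _ => rfl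
  refine ext_pr (fun j => ?_) ?_
  · rw [pr_psi, sg_left, sg_right, hsub, pr_smul, pr_emb]
    by_cases hj : j = i
    · subst hj
      rw [if_pos rfl, if_pos rfl, coe_reflIso, reflectionMatrix_mulVec]
      rfl
    · rw [if_neg hj, if_neg hj, smul_zero, sub_zero]
      exact Matrix.one_mulVec _
  · rw [pR_psi, hsubR, pR_smul, pR_emb, smul_zero, sub_zero, sg_snd]
    exact Matrix.one_mulVec _

/-- All values of `chi` on reflections are attained on reflections of the planes. -/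
theorem exists_sg_chi (h2 : (2 : F) ≠ 0) (d : ρ → F) (i : κ) : ∀ z ∈ RR F, ∃ a : MM F, a ^ 2 = 1 ∧
    (chi (cf κ d)) (psi κ d (sg (CC d) i a)) = z := by
  classical
  have hQ := DQ_nondegenerate h2 (one' (Fin 2) F) one'_ne'
  obtain ⟨⟨v, hv⟩, w, hw0, hw⟩ := ClassicalGeometry.Universal.exists_isSquare_and_not h2
    (DQ (one' (Fin 2) F)) hQ (by rw [Fintype.card_fin])
  rintro z (rfl | hz)
  · have hv0 : DQ (one' (Fin 2) F) v ≠ 0 := by rw [hv]; exact one_ne_zero
    have hv' : DQ (cf κ d) (emb i v) ≠ 0 := by rw [DQ_emb]; exact hv0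
    refine ⟨reflIso (DQ (one' (Fin 2) F)) v hv0, by rw [pow_two, reflIso_mul_self], ?_⟩
    rw [sg_reflIso d i v hv0 hv', chi_reflIso h2, DQ_emb, if_pos (by rw [hv]; exact ⟨1, by ring⟩)]
  · rw [Set.mem_singleton_iff] at hz
    have hw' : DQ (cf κ d) (emb i w) ≠ 0 := by rw [DQ_emb]; exact hw0
    refine ⟨reflIso (DQ (one' (Fin 2) F)) w hw0, by rw [pow_two, reflIso_mul_self], ?_⟩
    rw [sg_reflIso d i w hw0 hw', chi_reflIso h2, DQ_emb, if_neg hw, hz]

theorem sq_of_mem_closure {z : Fˣ × ℤˣ} (hz : z ∈ closure (RR F)) : z * z = 1 := by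
  induction hz using closure_induction with
  | mem z hz =>
    rcases hz with rfl | hz
    · exact Prod.ext (by simp) (by simp)
    · rw [Set.mem_singleton_iff] at hz
      subst hz
      exact Prod.ext (by simp) (by simp)
  | one => exact one_mul 1
  | mul x y _ _ hx hy => rw [mul_mul_mul_comm, hx, hy, one_mul]
  | inv x _ hx => rw [← mul_inv, hx, inv_one]

/-- The character on the wreath product. -/
noncomputable def chw (κ : Type) [Fintype κ] [DecidableEq κ] (d : ρ → F) :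
    Wr (MM F) κ × CC d →* Fˣ × ℤˣ := (chi (cf κ d)).comp (psi κ d)

theorem chw_sg (d : ρ → F) (i j : κ) (a : MM F) : chw κ d (sg (CC d) i a) = chw κ d (sg (CC d) j a) := by
  have e : sg (CC d) j a = ((⟨1, swap i j⟩ : Wr (MM F) κ), (1 : CC d)) * sg (CC d) i a *
      ((⟨1, swap i j⟩ : Wr (MM F) κ), (1 : CC d))⁻¹ := by
    refine Prod.ext (SemidirectProduct.ext ?_ ?_) ?_
    · funext k
      have e1 : (((⟨1, swap i j⟩ : Wr (MM F) κ), (1 : CC d)) * sg (CC d) i a *
        ((⟨1, swap i j⟩ : Wr (MM F) κ), (1 : CC d))⁻¹).1.left k =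
          1 * (sg (CC d) i a).1.left ((swap i j).symm k) * 1⁻¹ := rfl
      rw [e1, sg_left, sg_left, one_mul, inv_one, mul_one]
      by_cases hk : k = j
      · subst hk
        rw [if_pos rfl, if_pos]
        rw [symm_swap, swap_apply_right]
      · rw [if_neg hk, if_neg]
        intro h
        apply hk
        rw [Equiv.symm_apply_eq, swap_apply_left] at h
        exact h
    · have e1 : (((⟨1, swap i j⟩ : Wr (MM F) κ), (1 : CC d)) * sg (CC d) i a *
        ((⟨1, swap i j⟩ : Wr (MM F) κ), (1 : CC d))⁻¹).1.right = swap i j * 1 * (swap i j)⁻¹ := rfl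
      rw [e1, mul_one, mul_inv_cancel]
      rfl
    · have e1 : (((⟨1, swap i j⟩ : Wr (MM F) κ), (1 : CC d)) * sg (CC d) i a *
        ((⟨1, swap i j⟩ : Wr (MM F) κ), (1 : CC d))⁻¹).2 = (1 * 1 * 1⁻¹ : CC d) := rfl
      rw [e1, sg_snd]
      simp
  rw [e, map_mul, map_mul, map_inv, mul_comm (chw κ d _) (chw κ d (sg (CC d) i a)), mul_inv_cancel_right]

theorem chw_rr (h2 : (2 : F) ≠ 0) (d : ρ → F) (hd : ∀ r, d r ≠ 0) (i j : κ) : chw κ d (rr κ d i j) = 1 := by
  rw [rr, map_mul, chw_sg d j i]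
  exact sq_of_mem_closure (chi_mem_closure h2 _ (cf_ne d hd) _)

/-- **The normaliser.** -/
theorem norm_mem (h2 : (2 : F) ≠ 0) (hk : 3 ≤ Fintype.card κ) (d : ρ → F) (hd : ∀ r, d r ≠ 0) (hR : NoSq d)
    (D : Subgroup (MM F)) (S : Subgroup (Perm κ)) (E : Subgroup (CC d)) (hrot : rot F ∈ D)
    (hD : ∀ m : MM F, (∀ d ∈ D, m * d * m⁻¹ ∈ D) → m ∈ D)
    (hS : ∀ m : Perm κ, (∀ d ∈ S, m * d * m⁻¹ ∈ S) → m ∈ S)
    (hE : ∀ m : CC d, (∀ d ∈ E, m * d * m⁻¹ ∈ E) → m ∈ E)
    (hRR : ∀ z ∈ RR F, ∀ i : κ, ∃ a ∈ D, chw κ d (sg (CC d) i a) = z) (g : OO κ d)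
    (hg : ∀ x ∈ sub D S E, chw κ d x = 1 → ∃ y ∈ sub D S E, g * psi κ d x * g⁻¹ = psi κ d y) :
    ∃ y ∈ sub D S E, g = psi κ d y := by
  -- the planes are permuted
  have h1 : ∀ i j : κ, i ≠ j → ∃ J : Finset κ, (PS F ρ {i, j}).map (ap g) = PS F ρ J := by
    intro i j hij
    obtain ⟨y, hy, hgy⟩ := hg (rr κ d i j) (mul_mem (sg_mem i hrot) (sg_mem j hrot)) (chw_rr h2 d hd i j)
    refine ⟨supp y, ?_⟩
    rw [← vx_psi h2 hR (x := y) (by rw [← hgy]; exact Sq_conj g (sq_rr d hij)), ← hgy, Vx_conj,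
      vx_psi h2 hR (sq_rr d hij), supp_rr d hij]
  obtain ⟨σ, hσ⟩ := exists_perm hk g h1
  obtain ⟨x, rfl⟩ := exists_psi_eq h2 d g σ (fun i w => by
    have h3 : ap g (emb i w) ∈ (PS F ρ {i}).map (ap g) :=
      ⟨_, emb_mem_PS (Finset.mem_singleton_self i) w, rfl⟩
    rw [hσ] at h3
    exact ⟨_, mem_PS_singleton h3⟩)
  refine ⟨x, ?_, rfl⟩
  have : Nontrivial κ := Fintype.one_lt_card_iff_nontrivial.1 (by omega)
  refine mem_sub_of_norm (chw κ d) D S E hD hS hE ?_ x ?_
  · intro y _ i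
    have h3 : chw κ d y ∈ closure (RR F) := chi_mem_closure h2 _ (cf_ne d hd) _
    have h4 : closure (RR F) ≤ D.map ((chw κ d).comp (sg (CC d) i)) := by
      rw [closure_le]
      intro z hz
      obtain ⟨a, ha, haz⟩ := hRR z hz i
      exact ⟨a, ha, haz⟩
    exact h4 h3
  · intro t ht ht1
    obtain ⟨y, hy, hgy⟩ := hg t ht ht1
    rw [← map_inv, ← map_mul, ← map_mul] at hgy
    rw [psi_injective d hgy]
    exact hy

end Chi

end Cfsg.Agent.H803.OmFrame
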