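import Cfsg.Agent.H637.OrthOdd
import Cfsg.Agent.H94.Syl2Sym

/-!
# The isometry groups of planes and lines over fields of odd order (helper803)

* `SN X` : the Sylow 2-subgroups of `X` are self-normalising; `sn_dihedral`, `SN.congr`, `sn_plane`, `sn_line`,
  `sn_of_subsingleton`.
* `plane_sq` : an isometry `a` of a plane with `(a² + 1)(a - 1) = 0` has `a = 1` or `a² = -1`;
* `plane_ns` : it is `1` if the plane is `⟨d₀, d₁⟩` with `d₀ d₁` a nonsquare.
-/

set_option autoImplicit false

namespace Cfsg.Agent.H803.OmPlane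

open Matrix Subgroup QuadraticMap
open Cfsg.Agent.H637
open Cfsg.Agent.ClassicalGeometry.Reflection

/-- The Sylow `2`-subgroups are self-normalising. -/
def SN (X : Type*) [Group X] : Prop :=
  ∀ P : Sylow 2 X, ∀ x : X, (∀ t ∈ (P : Subgroup X), x * t * x⁻¹ ∈ (P : Subgroup X)) → x ∈ (P : Subgroup X)

theorem sn_dihedral (n : ℕ) [NeZero n] : SN (DihedralGroup n) := by
  have : Fact (Nat.Prime 2) := ⟨Nat.prime_two⟩
  intro P x hx
  have h2 : (DihedralGroup.sr 0 : DihedralGroup n) ^ 2 = 1 := by
    rw [pow_two, DihedralGroup.sr_mul_sr, sub_self]; rfl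
  obtain ⟨b, hb, -, hb2⟩ := exists_mem_sylow (χ := dsgn n) h2 P
  obtain ⟨j, rfl⟩ := exists_sr hb2
  -- the rotations
  have key : ∀ i : ZMod n, (∀ t ∈ (P : Subgroup (DihedralGroup n)),
      DihedralGroup.r i * t * (DihedralGroup.r i)⁻¹ ∈ (P : Subgroup (DihedralGroup n))) →
      DihedralGroup.r i ∈ (P : Subgroup (DihedralGroup n)) := by
    intro i hi
    refine H94.Syl2Sym.mem_of_sq P le_rfl hi ?_
    have h3 := mul_mem (hi _ hb) (inv_mem hb)
    have e : (DihedralGroup.r i : DihedralGroup n) * DihedralGroup.sr j * (DihedralGroup.r i)⁻¹ *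
        (DihedralGroup.sr j)⁻¹ = DihedralGroup.r i * DihedralGroup.r i := by
      rw [mul_inv_eq_iff_eq_mul, mul_inv_eq_iff_eq_mul]
      simp only [DihedralGroup.r_mul_r, DihedralGroup.r_mul_sr, DihedralGroup.sr_mul_r]
      congr 1
      ring
    rw [← e]
    exact h3
  rcases x with i | i
  · exact key i hx
  · have h4 : (DihedralGroup.sr i : DihedralGroup n) = DihedralGroup.r (j - i) * DihedralGroup.sr j := by
      rw [DihedralGroup.r_mul_sr]
      congr 1
      ring
    have h5 : (DihedralGroup.r (j - i) : DihedralGroup n) = DihedralGroup.sr i * (DihedralGroup.sr j)⁻¹ := by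
      rw [h4, mul_inv_cancel_right]
    rw [h4]
    refine mul_mem (key _ fun t ht => ?_) hb
    have e : (DihedralGroup.r (j - i) : DihedralGroup n) * t * (DihedralGroup.r (j - i))⁻¹ =
        DihedralGroup.sr i * ((DihedralGroup.sr j)⁻¹ * t * DihedralGroup.sr j) * (DihedralGroup.sr i)⁻¹ := by
      rw [h5]; group
    rw [e]
    exact hx _ (mul_mem (mul_mem (inv_mem hb) ht) hb)

theorem SN.congr {X Y : Type*} [Group X] [Group Y] [Finite X] (e : Y ≃* X) (h : SN Y) : SN X := by
  intro P x hx
  obtain ⟨T, hT⟩ := sylow_map_equiv e P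
  have hm : ∀ z : Y, e z ∈ (P : Subgroup X) ↔ z ∈ (T : Subgroup Y) := by
    intro z
    rw [hT]
    constructor
    · rintro ⟨w, hw, he⟩
      exact (e.injective he) ▸ hw
    · exact fun h => ⟨z, h, rfl⟩
  obtain ⟨y, rfl⟩ := e.surjective x
  rw [hm]
  refine h T y fun t ht => ?_
  have := hx (e t) ((hm t).2 ht)
  rwa [← map_inv, ← map_mul, ← map_mul, hm] at this

theorem sn_of_two_group {X : Type*} [Group X] (h : IsPGroup 2 X) : SN X := by
  intro P x _
  have h1 : (⊤ : Subgroup X) = P := P.3 (h.to_subgroup ⊤) le_top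
  rw [← h1]
  exact mem_top x

section Field

variable {F : Type*} [Field F] [Fintype F]

/-- Dimension two. -/
theorem sn_plane (hF : Odd (Fintype.card F)) {ι : Type} [Fintype ι] [DecidableEq ι]
    (hι : Fintype.card ι = 2) (Q : QuadraticForm F (ι → F)) (hQ : (polarBilin Q).Nondegenerate) :
    SN (Cfsg.isometryGroup F (⇑Q)) := by
  have h2 := two_ne_zero_of_odd hF
  have h1 : 1 < Fintype.card F := Fintype.one_lt_card
  have hm1 : (-1 : F) ≠ 0 := neg_ne_zero.2 one_ne_zero
  have hQ0 := disc_ne_zero' Q hQ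
  by_cases hs : IsSquare (disc (LieClassical.OmegaReindex.quadPlus 1 F) * disc Q)
  · obtain ⟨e, he⟩ := exists_equiv h2 (LieClassical.OmegaReindex.quadPlus 1 F) Q
      (LieClassical.OmegaReindex.quadPlus_nondegenerate (m := 1)) hQ (by rw [hι]; simp) hs
    have e1 := isoConj e _ _ he
    rw [LieClassical.OmegaReindex.coe_quadPlus] at e1
    obtain ⟨e2⟩ := S0305.result (F := F) rfl
    have : NeZero (Fintype.card F - 1) := ⟨by omega⟩
    exact (sn_dihedral (Fintype.card F - 1)).congr (e2.symm.trans e1)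
  · obtain ⟨b, hb⟩ : ∃ b : F, ¬ IsSquare (-b) := by
      obtain ⟨b, hb⟩ := FiniteField.exists_nonsquare (ClassicalGeometry.Universal.ringChar_ne_two h2)
      exact ⟨-b, by rwa [neg_neg]⟩
    have hb0 : b ≠ 0 := by
      rintro rfl
      apply hb
      rw [neg_zero]
      exact IsSquare.zero
    have hab : ∀ z₁ z₂ : F, z₁ ^ 2 + 0 * z₁ * z₂ + b * z₂ ^ 2 = 0 → z₁ = 0 ∧ z₂ = 0 := by
      intro z₁ z₂ h
      by_cases hz : z₂ = 0
      · subst hz
        simp at h
        exact ⟨h, rfl⟩
      · exfalso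
        apply hb
        refine ⟨z₁ / z₂, ?_⟩
        field_simp
        linear_combination -h
    have hnsq : ¬ IsSquare (-1 * b) := by rwa [neg_one_mul]
    have hd : IsSquare (disc (LieClassical.OmegaReindex.quadMinus 0 F 0 b) * disc Q) := by
      have h3 : disc (LieClassical.OmegaReindex.quadMinus 0 F 0 b) * disc Q = (b * disc Q) * (2 * 2) := by
        rw [disc_minus]; ring
      rw [h3]
      refine IsSquare.mul ?_ ⟨2, rfl⟩
      have e1 := ClassicalGeometry.Universal.isSquare_mul_iff h2 hm1 hb0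
      have e2 := ClassicalGeometry.Universal.isSquare_mul_iff h2 hm1 hQ0
      have e3 := ClassicalGeometry.Universal.isSquare_mul_iff h2 hb0 hQ0
      rw [disc_plus, pow_one, e2] at hs
      rw [e1] at hnsq
      rw [e3]
      exact prop_aux2 _ _ _ hs hnsq
    obtain ⟨e, he⟩ := exists_equiv h2 (LieClassical.OmegaReindex.quadMinus 0 F 0 b) Q
      (LieClassical.OmegaReindex.quadMinus_nondegenerate hab) hQ (by rw [hι]; simp) hd
    have e1 := isoConj e _ _ he
    rw [LieClassical.OmegaReindex.coe_quadMinus] at e1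
    obtain ⟨e2⟩ := S0306.result (F := F) rfl 0 b hab
    exact (sn_dihedral (Fintype.card F + 1)).congr (e2.symm.trans e1)

theorem isPGroup_of_card_two {X : Type*} [Group X] (h : Nat.card X = 2) : IsPGroup 2 X := by
  have : Fact (Nat.Prime 2) := ⟨Nat.prime_two⟩
  exact IsPGroup.of_card (n := 1) (by rw [h, pow_one])

/-- Dimension one. -/
theorem sn_line (hF : Odd (Fintype.card F)) (d : F) (hd : d ≠ 0) :
    SN (Cfsg.isometryGroup F (⇑(DQ (fun _ : Unit => d)))) :=
  sn_of_two_group (isPGroup_of_card_two (card_isometry_unit (two_ne_zero_of_odd hF) d hd))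

end Field

section Alg

variable {F : Type*} [Field F]

/-- `2 × 2` matrices with `(A² + 1)(A - 1) = 0` and determinant `± 1`. -/
theorem plane_sq (h2 : (2 : F) ≠ 0) (A : Matrix (Fin 2) (Fin 2) F) (hdet : A.det * A.det = 1)
    (h : (A * A + 1) * (A - 1) = 0) : A = 1 ∨ A * A = -1 := by
  have hCH : A * A = A.trace • A - A.det • (1 : Matrix (Fin 2) (Fin 2) F) := by
    ext i j
    fin_cases i <;> fin_cases j <;>
      simp [Matrix.mul_apply, Fin.sum_univ_two, Matrix.trace_fin_two, Matrix.det_fin_two] <;> ring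
  by_cases hd : (A - 1).det = 0
  · left
    have hd' : 1 - A.trace + A.det = 0 := by
      rw [Matrix.det_fin_two] at hd ⊢
      rw [Matrix.trace_fin_two]
      simp [Matrix.sub_apply] at hd
      linear_combination hd
    have htr : A.trace = 1 + A.det := by linear_combination -hd'
    rcases mul_self_eq_one_iff.1 hdet with h1 | h1
    · -- `A² + 1 = 2 A`
      have e1 : A * A + 1 = (2 : F) • A := by
        rw [hCH, htr, h1, one_smul, sub_add_cancel]
        congr 1
        norm_num
      rw [e1, Matrix.smul_mul, smul_eq_zero] at h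
      have h3 := h.resolve_left h2
      have hu : IsUnit A := (Matrix.isUnit_iff_isUnit_det A).2 (by rw [h1]; exact isUnit_one)
      have h4 : A - 1 = 0 := (hu.mul_right_eq_zero).1 h3
      exact sub_eq_zero.1 h4
    · have e1 : A * A + 1 = (2 : F) • 1 := by
        rw [hCH, htr, h1, add_neg_cancel, zero_smul, zero_sub, neg_smul, neg_neg, one_smul, two_smul]
      rw [e1, Matrix.smul_mul, smul_eq_zero, one_mul] at h
      exact sub_eq_zero.1 (h.resolve_left h2)
  · right
    have hu : IsUnit (A - 1) := (Matrix.isUnit_iff_isUnit_det _).2 (isUnit_iff_ne_zero.2 hd)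
    have h3 : A * A + 1 = 0 := (hu.mul_left_eq_zero).1 h
    exact eq_neg_of_add_eq_zero_left h3

variable {ι : Type} [Fintype ι] [DecidableEq ι]

/-- The Gram matrix is preserved. -/
theorem gram (h2 : (2 : F) ≠ 0) (d : ι → F) {g : GL ι F} (hg : g ∈ Cfsg.isometryGroup F (⇑(DQ d))) :
    (g : Matrix ι ι F)ᵀ * Matrix.diagonal d * (g : Matrix ι ι F) = Matrix.diagonal d := by
  rw [mem_isometryGroup_iff] at hg
  ext i j
  have h1 : polar (⇑(DQ d)) ((g : Matrix ι ι F) *ᵥ Pi.single i 1) ((g : Matrix ι ι F) *ᵥ Pi.single j 1) =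
      polar (⇑(DQ d)) (Pi.single i 1) (Pi.single j 1) := by
    rw [polar, polar, ← Matrix.mulVec_add, hg, hg, hg]
  rw [polar_DQ, polar_DQ] at h1
  have h3 : (2 : F) * (((g : Matrix ι ι F)ᵀ * Matrix.diagonal d * (g : Matrix ι ι F)) i j) =
      2 * (Matrix.diagonal d i j) := by
    rw [Matrix.mul_apply, Finset.mul_sum]
    have e1 : ∀ k, (2 : F) * (((g : Matrix ι ι F)ᵀ * Matrix.diagonal d) i k * (g : Matrix ι ι F) k j) =
        2 * d k * (((g : Matrix ι ι F) *ᵥ Pi.single i 1) k * ((g : Matrix ι ι F) *ᵥ Pi.single j 1) k) := by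
      intro k
      rw [Matrix.mulVec_single_one, Matrix.mulVec_single_one, Matrix.mul_diagonal]
      simp only [Matrix.col_apply, Matrix.transpose_apply]
      ring
    rw [Finset.sum_congr rfl fun k _ => e1 k, h1, Finset.sum_eq_single i]
    · by_cases hij : i = j
      · subst hij
        simp
      · simp [hij]
    · intro k _ hk
      rw [Pi.single_eq_of_ne hk]
      ring
    · intro h
      exact absurd (Finset.mem_univ i) h
  exact mul_left_cancel₀ h2 h3

theorem det_sq (h2 : (2 : F) ≠ 0) (d : ι → F) (hd : ∀ i, d i ≠ 0) {g : GL ι F}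
    (hg : g ∈ Cfsg.isometryGroup F (⇑(DQ d))) :
    (g : Matrix ι ι F).det * (g : Matrix ι ι F).det = 1 := by
  have h1 := congrArg Matrix.det (gram h2 d hg)
  rw [Matrix.det_mul, Matrix.det_mul, Matrix.det_transpose, Matrix.det_diagonal] at h1
  have h3 : (∏ i, d i) ≠ 0 := Finset.prod_ne_zero_iff.2 fun i _ => hd i
  apply mul_right_cancel₀ h3
  linear_combination h1

/-- The plane `⟨d₀, d₁⟩` with `d₀ d₁` a nonsquare has no isometry of square `-1`. -/
theorem plane_ns (h2 : (2 : F) ≠ 0) (d : Fin 2 → F) (hd : ∀ i, d i ≠ 0) (hns : ¬ IsSquare (d 0 * d 1))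
    {g : GL (Fin 2) F} (hg : g ∈ Cfsg.isometryGroup F (⇑(DQ d)))
    (h : ((g : Matrix (Fin 2) (Fin 2) F) * g + 1) * (g - 1) = 0) : (g : Matrix (Fin 2) (Fin 2) F) = 1 := by
  rcases plane_sq h2 _ (det_sq h2 d hd hg) h with h1 | h1
  · exact h1
  exfalso
  have hG := gram h2 d hg
  generalize (g : Matrix (Fin 2) (Fin 2) F) = A at h1 hG
  have a00 := congrFun (congrFun h1 0) 0
  have a01 := congrFun (congrFun h1 0) 1
  have a10 := congrFun (congrFun h1 1) 0
  have g00 := congrFun (congrFun hG 0) 0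
  have g01 := congrFun (congrFun hG 0) 1
  simp [Matrix.mul_apply, Fin.sum_univ_two] at a00 a01 a10 g00 g01
  have hd0 := hd 0
  have hd1 := hd 1
  have h2d : ∀ z : F, z = -z → z = 0 := by
    intro z hz
    have : (2 : F) * z = 0 := by linear_combination hz
    exact (mul_eq_zero.1 this).resolve_left h2
  by_cases hw : A 0 0 + A 1 1 = 0
  · have hw' : A 1 1 = - A 0 0 := by linear_combination hw
    have e1 : A 0 0 * (d 0 * A 0 1 - d 1 * A 1 0) = 0 := by
      rw [hw'] at g01
      linear_combination g01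
    rcases mul_eq_zero.1 e1 with h3 | h3
    · apply hns
      refine ⟨d 1 * A 1 0, ?_⟩
      rw [h3] at g00
      linear_combination (-d 1) * g00
    · apply hd0
      apply h2d
      linear_combination (-1 : F) * g00 + (d 0) * a00 - (A 1 0) * h3
  · have e1 : A 0 1 = 0 := by
      have : A 0 1 * (A 0 0 + A 1 1) = 0 := by linear_combination a01
      exact (mul_eq_zero.1 this).resolve_right hw
    rw [e1] at a00
    have e2 : A 1 0 = 0 := by
      have : A 1 0 * (A 0 0 + A 1 1) = 0 := by linear_combination a10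
      exact (mul_eq_zero.1 this).resolve_right hw
    apply hd0
    apply h2d
    rw [e2] at g00
    linear_combination (-1 : F) * g00 + (d 0) * a00

end Alg

end Cfsg.Agent.H803.OmPlane
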