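import Mathlib

/-!
# Self-normalising subgroups of wreath products (helper803)

`Wr M κ` is the semidirect product of `κ → M` by `Perm κ`, `Wr M κ × C` the group considered.
`sub D Σ E` is the subgroup of all elements with components in `D ≤ M`, `Σ ≤ Perm κ`, `E ≤ C`.

* `mem_sub_of_norm` : if `χ : Wr M κ × C → Z` has commutative image, `D`, `Σ`, `E` are self-normalising and every value of
  `χ` on `sub D Σ E` is attained on `D` in every coordinate, then an element which conjugates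
  `sub D Σ E ∩ ker χ` into `sub D Σ E` lies in `sub D Σ E`.
-/

set_option autoImplicit false

namespace Cfsg.Agent.H803.WrNorm

open Subgroup Equiv

variable {M C : Type*} [Group M] [Group C] {κ : Type*} [DecidableEq κ]

/-- The action of the permutations on the families. -/
def act (M : Type*) [Group M] (κ : Type*) : Perm κ →* MulAut (κ → M) where
  toFun σ :=
    { toFun := fun a i => a (σ.symm i)
      invFun := fun a i => a (σ i)
      left_inv := fun a => by funext i; simp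
      right_inv := fun a => by funext i; simp
      map_mul' := fun _ _ => rfl }
  map_one' := rfl
  map_mul' σ τ := rfl

omit [DecidableEq κ] in
@[simp] theorem act_apply (σ : Perm κ) (a : κ → M) (i : κ) : act M κ σ a i = a (σ.symm i) := rfl

/-- The wreath product. -/
abbrev Wr (M : Type*) [Group M] (κ : Type*) := (κ → M) ⋊[act M κ] Perm κ

/-- The subgroup given by `D`, `Σ`, `E`. -/
def sub (D : Subgroup M) (S : Subgroup (Perm κ)) (E : Subgroup C) : Subgroup (Wr M κ × C) where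
  carrier := {x | (∀ i, x.1.left i ∈ D) ∧ x.1.right ∈ S ∧ x.2 ∈ E}
  mul_mem' := by
    rintro x y ⟨h1, h2, h3⟩ ⟨h4, h5, h6⟩
    exact ⟨fun i => mul_mem (h1 i) (h4 _), mul_mem h2 h5, mul_mem h3 h6⟩
  one_mem' := ⟨fun _ => one_mem _, one_mem _, one_mem _⟩
  inv_mem' := by
    rintro x ⟨h1, h2, h3⟩
    exact ⟨fun i => inv_mem (h1 _), inv_mem h2, inv_mem h3⟩

omit [DecidableEq κ] in
theorem mem_sub {D : Subgroup M} {S : Subgroup (Perm κ)} {E : Subgroup C} {x : Wr M κ × C} :
    x ∈ sub D S E ↔ (∀ i, x.1.left i ∈ D) ∧ x.1.right ∈ S ∧ x.2 ∈ E := Iff.rfl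

/-- The element concentrated at `i`. -/
def sg (C : Type*) [Group C] (i : κ) : M →* Wr M κ × C :=
  (MonoidHom.inl (Wr M κ) C).comp ((SemidirectProduct.inl).comp (MonoidHom.mulSingle (fun _ : κ => M) i))

theorem sg_left (i : κ) (d : M) (j : κ) : (sg C i d).1.left j = if j = i then d else 1 := by
  change (Pi.mulSingle i d : κ → M) j = _
  rw [Pi.mulSingle_apply]

theorem sg_right (i : κ) (d : M) : (sg C i d).1.right = (1 : Perm κ) := rfl

theorem sg_snd (i : κ) (d : M) : (sg C i d).2 = (1 : C) := rfl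

theorem sg_mem {D : Subgroup M} {S : Subgroup (Perm κ)} {E : Subgroup C} (i : κ) {d : M} (hd : d ∈ D) :
    sg C i d ∈ sub D S E := by
  refine ⟨fun j => ?_, one_mem _, one_mem _⟩
  rw [sg_left]
  split_ifs
  · exact hd
  · exact one_mem _

omit [DecidableEq κ] in
theorem mul_left' (x y : Wr M κ × C) (i : κ) :
    (x * y).1.left i = x.1.left i * y.1.left (x.1.right.symm i) := rfl

omit [DecidableEq κ] in
theorem mul_right' (x y : Wr M κ × C) : (x * y).1.right = x.1.right * y.1.right := rfl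

omit [DecidableEq κ] in
theorem inv_right' (x : Wr M κ × C) : (x⁻¹).1.right = (x.1.right)⁻¹ := rfl

omit [DecidableEq κ] in
theorem inv_left' (x : Wr M κ × C) (i : κ) : (x⁻¹).1.left i = (x.1.left (x.1.right i))⁻¹ := rfl

theorem mem_sub_of_norm {Z : Type*} [CommGroup Z] (χ : Wr M κ × C →* Z) (D : Subgroup M)
    (S : Subgroup (Perm κ)) (E : Subgroup C) [Nontrivial κ]
    (hD : ∀ m : M, (∀ d ∈ D, m * d * m⁻¹ ∈ D) → m ∈ D)
    (hS : ∀ m : Perm κ, (∀ d ∈ S, m * d * m⁻¹ ∈ S) → m ∈ S)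
    (hE : ∀ m : C, (∀ d ∈ E, m * d * m⁻¹ ∈ E) → m ∈ E)
    (hχ : ∀ x ∈ sub D S E, ∀ i : κ, ∃ d ∈ D, χ (sg C i d) = χ x)
    (x : Wr M κ × C) (hx : ∀ t ∈ sub D S E, χ t = 1 → x * t * x⁻¹ ∈ sub D S E) : x ∈ sub D S E := by
  -- correction
  have hcor : ∀ t ∈ sub D S E, ∀ i : κ, ∃ d ∈ D, sg C i d * t ∈ sub D S E ∧ χ (sg C i d * t) = 1 := by
    intro t ht i
    obtain ⟨d, hd, h⟩ := hχ t ht i
    refine ⟨d⁻¹, inv_mem hd, mul_mem (sg_mem i (inv_mem hd)) ht, ?_⟩
    rw [map_mul, map_inv, map_inv, h, inv_mul_cancel]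
  obtain ⟨i0, -⟩ := exists_pair_ne κ
  -- the permutation
  have h1 : x.1.right ∈ S := by
    apply hS
    intro σ hσ
    obtain ⟨d, hd, h2, h3⟩ := hcor ((⟨1, σ⟩ : Wr M κ), 1) ⟨fun _ => one_mem _, hσ, one_mem _⟩ i0
    have h4 := (hx _ h2 h3).2.1
    rw [mul_right', mul_right', mul_right', inv_right', sg_right, one_mul] at h4
    exact h4
  -- reduction to trivial permutation
  obtain ⟨d0, hd0, h2, h3⟩ := hcor ((⟨1, x.1.right⟩ : Wr M κ), 1) ⟨fun _ => one_mem _, h1, one_mem _⟩ i0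
  set t0 : Wr M κ × C := sg C i0 d0 * ((⟨1, x.1.right⟩ : Wr M κ), 1) with ht0
  obtain ⟨y, hydef⟩ : ∃ y, y = x * t0⁻¹ := ⟨_, rfl⟩
  suffices hy : y ∈ sub D S E by
    have := mul_mem hy h2
    rwa [hydef, inv_mul_cancel_right] at this
  have hyr : y.1.right = 1 := by
    rw [hydef, mul_right', inv_right', ht0, mul_right', sg_right, one_mul]
    exact mul_inv_cancel _
  have hy : ∀ t ∈ sub D S E, χ t = 1 → y * t * y⁻¹ ∈ sub D S E := by
    intro t ht htχ
    have e : y * t * y⁻¹ = x * (t0⁻¹ * t * t0) * x⁻¹ := by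
      rw [hydef]; group
    rw [e]
    apply hx
    · exact mul_mem (mul_mem (inv_mem h2) ht) h2
    · rw [map_mul, map_mul, map_inv, htχ, h3]
      simp
  have hconj : ∀ (t : Wr M κ × C), t.1.right = 1 → ∀ i, (y * t * y⁻¹).1.left i =
      y.1.left i * t.1.left i * (y.1.left i)⁻¹ := by
    intro t ht i
    have e1 : (y * t * y⁻¹).1.left i = y.1.left i * t.1.left (y.1.right.symm i) *
        (y.1.left (y.1.right ((y.1.right * t.1.right).symm i)))⁻¹ := rfl
    rw [e1, hyr, ht]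
    rfl
  refine ⟨fun i => ?_, by rw [hyr]; exact one_mem _, ?_⟩
  · apply hD
    intro d hd
    obtain ⟨l, hl⟩ := exists_ne i
    obtain ⟨d', hd', h5, h6⟩ := hcor _ (sg_mem (S := S) (E := E) i hd) l
    have h7 := (hy _ h5 h6).1 i
    have e2 : (sg C l d' * sg C i d).1.left i = d := by
      have e3 : (sg C l d' * sg C i d).1.left i = (sg C l d').1.left i * (sg C i d).1.left i := rfl
      rw [e3, sg_left, sg_left, if_neg hl.symm, if_pos rfl, one_mul]
    rw [hconj _ rfl, e2] at h7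
    exact h7
  · apply hE
    intro e he
    obtain ⟨d', hd', h5, h6⟩ := hcor ((1 : Wr M κ), e) ⟨fun _ => one_mem _, one_mem _, he⟩ i0
    have h7 := (hy _ h5 h6).2.2
    change y.2 * ((1 : C) * e) * (y.2)⁻¹ ∈ E at h7
    rwa [one_mul] at h7

end Cfsg.Agent.H803.WrNorm
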