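import Cfsg.Agent.H803.OmPlane
import Cfsg.Agent.H803.WrNorm

/-!
# The wreath product of the isometry group of a plane inside an orthogonal group (helper803)

The form is `DQ (cf d)` on `(κ × Fin 2 ⊕ ρ) → F`: the sum of planes `⟨1, 1⟩` indexed by `κ` and of `DQ d`.

* `psi : Wr (MM F) κ × CC d →* isometryGroup F (DQ (cf d))`, injective;
* `pr i`, `pR` : the components of a vector; `emb i`, `eR` : the embeddings; `PS I` : sums of planes;
* `exists_psi_eq` : an isometry which permutes the planes lies in the range of `psi`.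
-/

set_option autoImplicit false
set_option linter.unusedSectionVars false

namespace Cfsg.Agent.H803.OmWreath

open Matrix Subgroup QuadraticMap Equiv
open Cfsg.Agent.H637 Cfsg.Agent.H803.WrNorm Cfsg.Agent.H803.OmPlane
open Cfsg.Agent.ClassicalGeometry.Reflection

variable {F : Type*} [Field F] {κ ρ : Type} [Fintype κ] [DecidableEq κ] [Fintype ρ] [DecidableEq ρ]

/-- The coefficients. -/
def cf (κ : Type) (d : ρ → F) : (κ × Fin 2) ⊕ ρ → F := Sum.elim (fun _ => 1) d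

/-- The isometry group of the plane. -/
abbrev MM (F : Type*) [Field F] := Cfsg.isometryGroup F (⇑(DQ (one' (Fin 2) F)))
/-- The isometry group of the rest. -/
abbrev CC (d : ρ → F) := Cfsg.isometryGroup F (⇑(DQ d))
/-- The orthogonal group. -/
abbrev OO (κ : Type) [Fintype κ] [DecidableEq κ] (d : ρ → F) := Cfsg.isometryGroup F (⇑(DQ (cf κ d)))

/-- The components. -/
def pr (i : κ) (v : (κ × Fin 2) ⊕ ρ → F) : Fin 2 → F := fun s => v (Sum.inl (i, s))
/-- The last component. -/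
def pR (v : (κ × Fin 2) ⊕ ρ → F) : ρ → F := fun r => v (Sum.inr r)

/-- The embeddings. -/
def emb (i : κ) (w : Fin 2 → F) : (κ × Fin 2) ⊕ ρ → F :=
  Sum.elim (fun p => if p.1 = i then w p.2 else 0) (fun _ => 0)
/-- The embedding of the rest. -/
def eR (w : ρ → F) : (κ × Fin 2) ⊕ ρ → F := Sum.elim (fun _ => 0) w

theorem ext_pr {v w : (κ × Fin 2) ⊕ ρ → F} (h1 : ∀ i, pr i v = pr i w) (h2 : pR v = pR w) : v = w := by
  funext p
  rcases p with ⟨i, s⟩ | r
  · exact congrFun (h1 i) s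
  · exact congrFun h2 r

theorem pr_emb (i j : κ) (w : Fin 2 → F) : pr j (emb i w : (κ × Fin 2) ⊕ ρ → F) = if j = i then w else 0 := by
  funext s
  change (if j = i then w s else 0) = _
  split_ifs <;> rfl

theorem pR_emb (i : κ) (w : Fin 2 → F) : pR (emb i w : (κ × Fin 2) ⊕ ρ → F) = 0 := rfl

theorem pr_eR (j : κ) (w : ρ → F) : pr j (eR w : (κ × Fin 2) ⊕ ρ → F) = 0 := rfl

theorem pR_eR (w : ρ → F) : pR (eR w : (κ × Fin 2) ⊕ ρ → F) = w := rfl

theorem pr_add (i : κ) (v w : (κ × Fin 2) ⊕ ρ → F) : pr i (v + w) = pr i v + pr i w := rfl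

theorem pR_add (v w : (κ × Fin 2) ⊕ ρ → F) : pR (v + w) = pR v + pR w := rfl

theorem pr_smul (i : κ) (c : F) (v : (κ × Fin 2) ⊕ ρ → F) : pr i (c • v) = c • pr i v := rfl

theorem pR_smul (c : F) (v : (κ × Fin 2) ⊕ ρ → F) : pR (c • v) = c • pR v := rfl

theorem decomp (v : (κ × Fin 2) ⊕ ρ → F) : v = ∑ i, emb i (pr i v) + eR (pR v) := by
  funext p
  rw [Pi.add_apply, Finset.sum_apply]
  rcases p with ⟨i, s⟩ | r
  · change v (Sum.inl (i, s)) = (∑ j, if i = j then v (Sum.inl (j, s)) else 0) + 0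
    simp
  · change v (Sum.inr r) = (∑ j : κ, (0 : F)) + v (Sum.inr r)
    simp

theorem DQ_cf (d : ρ → F) (v : (κ × Fin 2) ⊕ ρ → F) :
    DQ (cf κ d) v = ∑ i, DQ (one' (Fin 2) F) (pr i v) + DQ d (pR v) := by
  rw [DQ_apply, Fintype.sum_sum_type, Fintype.sum_prod_type]
  refine congrArg₂ (· + ·) ?_ ?_
  · refine Finset.sum_congr rfl fun i _ => ?_
    rw [DQ_apply]
    rfl
  · rw [DQ_apply]
    rfl

theorem DQ_emb (d : ρ → F) (i : κ) (w : Fin 2 → F) :
    DQ (cf κ d) (emb i w) = DQ (one' (Fin 2) F) w := by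
  rw [DQ_cf, pR_emb, QuadraticMap.map_zero, add_zero, Finset.sum_eq_single i]
  · rw [pr_emb, if_pos rfl]
  · intro j _ hj
    rw [pr_emb, if_neg hj, QuadraticMap.map_zero]
  · intro h
    exact absurd (Finset.mem_univ i) h

theorem DQ_eR (d : ρ → F) (w : ρ → F) : DQ (cf κ d) (eR w) = DQ d w := by
  rw [DQ_cf, pR_eR]
  simp [pr_eR]

theorem polar_emb (d : ρ → F) (i : κ) (w : Fin 2 → F) (v : (κ × Fin 2) ⊕ ρ → F) :
    polar (⇑(DQ (cf κ d))) (emb i w) v = polar (⇑(DQ (one' (Fin 2) F))) w (pr i v) := by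
  rw [polar_DQ, polar_DQ, Fintype.sum_sum_type, Fintype.sum_prod_type, Finset.sum_eq_single i]
  · have e1 : (∑ r : ρ, 2 * cf κ d (Sum.inr r) * (emb i w (Sum.inr r) * v (Sum.inr r))) = 0 :=
      Finset.sum_eq_zero fun r _ => by
        change 2 * d r * (0 * v (Sum.inr r)) = 0
        ring
    rw [e1, add_zero]
    refine Finset.sum_congr rfl fun s _ => ?_
    change 2 * (1 : F) * ((if i = i then w s else 0) * v (Sum.inl (i, s))) = _
    rw [if_pos rfl]
    rfl
  · intro j _ hj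
    refine Finset.sum_eq_zero fun s _ => ?_
    change 2 * (1 : F) * ((if j = i then w s else 0) * v (Sum.inl (j, s))) = _
    rw [if_neg hj]
    ring
  · intro h
    exact absurd (Finset.mem_univ i) h

theorem cf_ne (d : ρ → F) (hd : ∀ r, d r ≠ 0) (i : (κ × Fin 2) ⊕ ρ) : cf κ d i ≠ 0 := by
  rcases i with i | i
  · exact one_ne_zero
  · exact hd i

/-! ### The homomorphism -/

/-- The linear map of an element of the wreath product. -/
def lin {d : ρ → F} (x : Wr (MM F) κ × CC d) : ((κ × Fin 2) ⊕ ρ → F) →ₗ[F] ((κ × Fin 2) ⊕ ρ → F) where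
  toFun v := Sum.elim (fun p => ((((x.1.left p.1 : MM F) : GL (Fin 2) F) : Matrix (Fin 2) (Fin 2) F) *ᵥ
      (pr (x.1.right.symm p.1) v)) p.2) (((x.2 : GL ρ F) : Matrix ρ ρ F) *ᵥ pR v)
  map_add' v w := by
    refine ext_pr (fun i => ?_) ?_
    · rw [pr_add]
      funext s
      change ((((x.1.left i : MM F) : GL (Fin 2) F) : Matrix (Fin 2) (Fin 2) F) *ᵥ
        (pr (x.1.right.symm i) (v + w))) s = _
      rw [pr_add, Matrix.mulVec_add]
      rfl
    · change (((x.2 : GL ρ F) : Matrix ρ ρ F) *ᵥ pR (v + w)) = _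
      rw [pR_add, Matrix.mulVec_add]
      rfl
  map_smul' c v := by
    refine ext_pr (fun i => ?_) ?_
    · funext s
      change ((((x.1.left i : MM F) : GL (Fin 2) F) : Matrix (Fin 2) (Fin 2) F) *ᵥ
        (pr (x.1.right.symm i) (c • v))) s = _
      rw [pr_smul, Matrix.mulVec_smul]
      rfl
    · change (((x.2 : GL ρ F) : Matrix ρ ρ F) *ᵥ pR (c • v)) = _
      rw [pR_smul, Matrix.mulVec_smul]
      rfl

theorem pr_lin {d : ρ → F} (x : Wr (MM F) κ × CC d) (i : κ) (v : (κ × Fin 2) ⊕ ρ → F) :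
    pr i (lin x v) = (((x.1.left i : MM F) : GL (Fin 2) F) : Matrix (Fin 2) (Fin 2) F) *ᵥ
      (pr (x.1.right.symm i) v) := rfl

theorem pR_lin {d : ρ → F} (x : Wr (MM F) κ × CC d) (v : (κ × Fin 2) ⊕ ρ → F) :
    pR (lin x v) = ((x.2 : GL ρ F) : Matrix ρ ρ F) *ᵥ pR v := rfl

theorem lin_one {d : ρ → F} : lin (1 : Wr (MM F) κ × CC d) = LinearMap.id := by
  refine LinearMap.ext fun v => ext_pr (fun i => ?_) ?_
  · rw [pr_lin]
    exact Matrix.one_mulVec _
  · rw [pR_lin]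
    exact Matrix.one_mulVec _

theorem lin_mul {d : ρ → F} (x y : Wr (MM F) κ × CC d) : lin (x * y) = lin x ∘ₗ lin y := by
  refine LinearMap.ext fun v => ext_pr (fun i => ?_) ?_
  · rw [LinearMap.comp_apply, pr_lin, pr_lin, pr_lin, Matrix.mulVec_mulVec]
    rfl
  · rw [LinearMap.comp_apply, pR_lin, pR_lin, pR_lin, Matrix.mulVec_mulVec]
    rfl

/-- The homomorphism to matrices. -/
noncomputable def psiMat (κ : Type) [Fintype κ] [DecidableEq κ] (d : ρ → F) :
    Wr (MM F) κ × CC d →* Matrix ((κ × Fin 2) ⊕ ρ) ((κ × Fin 2) ⊕ ρ) F where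
  toFun x := LinearMap.toMatrix' (lin x)
  map_one' := by rw [lin_one, LinearMap.toMatrix'_id]
  map_mul' x y := by rw [lin_mul, LinearMap.toMatrix'_comp]

theorem psiMat_mulVec {d : ρ → F} (x : Wr (MM F) κ × CC d) (v : (κ × Fin 2) ⊕ ρ → F) :
    psiMat κ d x *ᵥ v = lin x v := by
  change LinearMap.toMatrix' (lin x) *ᵥ v = _
  rw [LinearMap.toMatrix'_mulVec]

/-- The homomorphism. -/
noncomputable def psi (κ : Type) [Fintype κ] [DecidableEq κ] (d : ρ → F) :
    Wr (MM F) κ × CC d →* OO κ d :=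
  (psiMat κ d).toHomUnits.codRestrict _ (fun x => by
    rw [mem_isometryGroup_iff]
    intro v
    rw [MonoidHom.coe_toHomUnits, psiMat_mulVec, DQ_cf, DQ_cf]
    have h1 : ∀ i, DQ (one' (Fin 2) F) (pr i (lin x v)) = DQ (one' (Fin 2) F) (pr (x.1.right.symm i) v) := by
      intro i
      rw [pr_lin]
      exact (mem_isometryGroup_iff _ _).1 (x.1.left i).2 _
    have h2 : DQ d (pR (lin x v)) = DQ d (pR v) := by
      rw [pR_lin]
      exact (mem_isometryGroup_iff _ _).1 x.2.2 _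
    rw [h2, Finset.sum_congr rfl fun i _ => h1 i]
    congr 1
    exact Equiv.sum_comp x.1.right.symm (fun i => DQ (one' (Fin 2) F) (pr i v)))

/-- The action on vectors. -/
def ap {d : ρ → F} (g : OO κ d) : ((κ × Fin 2) ⊕ ρ → F) →ₗ[F] ((κ × Fin 2) ⊕ ρ → F) :=
  Matrix.toLin' ((g : GL ((κ × Fin 2) ⊕ ρ) F) : Matrix ((κ × Fin 2) ⊕ ρ) ((κ × Fin 2) ⊕ ρ) F)

theorem ap_apply {d : ρ → F} (g : OO κ d) (v : (κ × Fin 2) ⊕ ρ → F) :
    ap g v = ((g : GL ((κ × Fin 2) ⊕ ρ) F) : Matrix ((κ × Fin 2) ⊕ ρ) ((κ × Fin 2) ⊕ ρ) F) *ᵥ v := rfl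

theorem ap_mul {d : ρ → F} (g h : OO κ d) (v : (κ × Fin 2) ⊕ ρ → F) : ap (g * h) v = ap g (ap h v) := by
  rw [ap_apply, ap_apply, ap_apply, coe_mul_mulVec]

theorem ap_one {d : ρ → F} (v : (κ × Fin 2) ⊕ ρ → F) : ap (1 : OO κ d) v = v := Matrix.one_mulVec _

theorem ap_inv_ap {d : ρ → F} (g : OO κ d) (v : (κ × Fin 2) ⊕ ρ → F) : ap g⁻¹ (ap g v) = v := by
  rw [← ap_mul, inv_mul_cancel, ap_one]

theorem ap_ap_inv {d : ρ → F} (g : OO κ d) (v : (κ × Fin 2) ⊕ ρ → F) : ap g (ap g⁻¹ v) = v := by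
  rw [← ap_mul, mul_inv_cancel, ap_one]

theorem ap_injective {d : ρ → F} (g : OO κ d) : Function.Injective (ap g) :=
  Function.LeftInverse.injective (ap_inv_ap g)

theorem ap_ext {d : ρ → F} {g h : OO κ d} (H : ∀ v, ap g v = ap h v) : g = h :=
  isometryGroup_ext _ g h H

theorem DQ_ap {d : ρ → F} (g : OO κ d) (v : (κ × Fin 2) ⊕ ρ → F) :
    DQ (cf κ d) (ap g v) = DQ (cf κ d) v := (mem_isometryGroup_iff _ _).1 g.2 v

theorem polar_ap {d : ρ → F} (g : OO κ d) (u v : (κ × Fin 2) ⊕ ρ → F) :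
    polar (⇑(DQ (cf κ d))) (ap g u) (ap g v) = polar (⇑(DQ (cf κ d))) u v := by
  rw [polar, polar, ← map_add, DQ_ap, DQ_ap, DQ_ap]

theorem ap_psi {d : ρ → F} (x : Wr (MM F) κ × CC d) (v : (κ × Fin 2) ⊕ ρ → F) :
    ap (psi κ d x) v = lin x v := by
  rw [ap_apply]
  exact psiMat_mulVec x v

theorem pr_psi {d : ρ → F} (x : Wr (MM F) κ × CC d) (i : κ) (v : (κ × Fin 2) ⊕ ρ → F) :
    pr i (ap (psi κ d x) v) = (((x.1.left i : MM F) : GL (Fin 2) F) : Matrix (Fin 2) (Fin 2) F) *ᵥ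
      (pr (x.1.right.symm i) v) := by
  rw [ap_psi, pr_lin]

theorem pR_psi {d : ρ → F} (x : Wr (MM F) κ × CC d) (v : (κ × Fin 2) ⊕ ρ → F) :
    pR (ap (psi κ d x) v) = ((x.2 : GL ρ F) : Matrix ρ ρ F) *ᵥ pR v := by
  rw [ap_psi, pR_lin]

theorem psi_emb {d : ρ → F} (x : Wr (MM F) κ × CC d) (i : κ) (w : Fin 2 → F) :
    ap (psi κ d x) (emb i w) = emb (x.1.right i)
      ((((x.1.left (x.1.right i) : MM F) : GL (Fin 2) F) : Matrix (Fin 2) (Fin 2) F) *ᵥ w) := by
  refine ext_pr (fun j => ?_) ?_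
  · rw [pr_psi, pr_emb, pr_emb]
    by_cases hj : j = x.1.right i
    · subst hj
      rw [Equiv.symm_apply_apply, if_pos rfl, if_pos rfl]
    · rw [if_neg hj, if_neg (fun h => hj (by rw [← h, Equiv.apply_symm_apply])), Matrix.mulVec_zero]
  · rw [pR_psi, pR_emb, pR_emb, Matrix.mulVec_zero]

theorem psi_injective (d : ρ → F) : Function.Injective (psi κ d) := by
  rw [injective_iff_map_eq_one]
  intro x hx
  have h1 : ∀ v, ap (psi κ d x) v = v := fun v => by rw [hx, ap_one]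
  have h2 : x.1.right = 1 := by
    apply Equiv.ext
    intro i
    have h3 := h1 (emb i (fun _ => 1))
    rw [psi_emb] at h3
    have h4 := congrArg (pr i) h3
    rw [pr_emb, pr_emb, if_pos rfl] at h4
    by_contra hne
    rw [if_neg (fun h => hne h.symm)] at h4
    have h5 := congrFun h4 0
    exact zero_ne_one h5
  have h3 : ∀ i, x.1.left i = 1 := by
    intro i
    apply isometryGroup_ext
    intro w
    have h4 := h1 (emb i w)
    rw [psi_emb, h2] at h4
    have h5 := congrArg (pr i) h4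
    rw [pr_emb, pr_emb, if_pos rfl] at h5
    change (if i = i then _ else _) = w at h5
    rw [if_pos rfl] at h5
    rw [Subgroup.coe_one, Units.val_one, Matrix.one_mulVec]
    exact h5
  have h4 : x.2 = 1 := by
    apply isometryGroup_ext
    intro w
    have h5 := congrArg pR (h1 (eR w))
    rw [pR_psi, pR_eR] at h5
    rw [Subgroup.coe_one, Units.val_one, Matrix.one_mulVec]
    exact h5
  exact Prod.ext (SemidirectProduct.ext (funext h3) h2) h4

/-! ### Isometries which permute the planes -/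

theorem exists_iso {ι : Type} [Fintype ι] [DecidableEq ι] (Q : QuadraticForm F (ι → F))
    (L : (ι → F) →ₗ[F] (ι → F)) (hL : Function.Injective L) (hQ : ∀ v, Q (L v) = Q v) :
    ∃ g : Cfsg.isometryGroup F (⇑Q), ∀ v, ((g : GL ι F) : Matrix ι ι F) *ᵥ v = L v := by
  have hdet : (LinearMap.toMatrix' L).det ≠ 0 := by
    intro h0
    obtain ⟨v, hv, h1⟩ := Matrix.exists_mulVec_eq_zero_iff.2 h0
    rw [LinearMap.toMatrix'_mulVec] at h1
    exact hv (hL (by rw [h1, map_zero]))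
  have hm : Matrix.GeneralLinearGroup.mkOfDetNeZero _ hdet ∈ Cfsg.isometryGroup F (⇑Q) := by
    rw [mem_isometryGroup_iff]
    intro v
    change Q (LinearMap.toMatrix' L *ᵥ v) = Q v
    rw [LinearMap.toMatrix'_mulVec, hQ]
  refine ⟨⟨_, hm⟩, fun v => ?_⟩
  change LinearMap.toMatrix' L *ᵥ v = L v
  rw [LinearMap.toMatrix'_mulVec]

theorem emb_add (i : κ) (v w : Fin 2 → F) :
    (emb i (v + w) : (κ × Fin 2) ⊕ ρ → F) = emb i v + emb i w := by
  refine ext_pr (fun j => ?_) ?_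
  · rw [pr_add, pr_emb, pr_emb, pr_emb]
    split_ifs
    · rfl
    · rw [add_zero]
  · rw [pR_add, pR_emb, pR_emb, pR_emb, add_zero]

theorem emb_smul (i : κ) (c : F) (w : Fin 2 → F) :
    (emb i (c • w) : (κ × Fin 2) ⊕ ρ → F) = c • emb i w := by
  refine ext_pr (fun j => ?_) ?_
  · rw [pr_smul, pr_emb, pr_emb]
    split_ifs
    · rfl
    · rw [smul_zero]
  · rw [pR_smul, pR_emb, pR_emb, smul_zero]

theorem emb_injective (i : κ) : Function.Injective (emb i : (Fin 2 → F) → ((κ × Fin 2) ⊕ ρ → F)) := by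
  intro v w h
  have := congrArg (pr i) h
  rwa [pr_emb, pr_emb, if_pos rfl, if_pos rfl] at this

theorem eR_add (v w : ρ → F) : (eR (v + w) : (κ × Fin 2) ⊕ ρ → F) = eR v + eR w :=
  ext_pr (fun _ => by rw [pr_add, pr_eR, pr_eR, pr_eR, add_zero]) rfl

theorem eR_smul (c : F) (w : ρ → F) : (eR (c • w) : (κ × Fin 2) ⊕ ρ → F) = c • eR w :=
  ext_pr (fun _ => by rw [pr_smul, pr_eR, pr_eR, smul_zero]) rfl

theorem polar_plane_eq_zero (h2 : (2 : F) ≠ 0) {z : Fin 2 → F}
    (h : ∀ u, polar (⇑(DQ (one' (Fin 2) F))) u z = 0) : z = 0 := by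
  funext s
  have h1 := h (Pi.single s 1)
  rw [polar_DQ, Finset.sum_eq_single s] at h1
  · rw [Pi.single_eq_same] at h1
    have h3 : (2 : F) * z s = 0 := by
      have e : (2 : F) * one' (Fin 2) F s * (1 * z s) = 2 * z s := by
        change (2 : F) * 1 * (1 * z s) = _
        ring
      rw [← e]
      exact h1
    exact (mul_eq_zero.1 h3).resolve_left h2
  · intro k _ hk
    rw [Pi.single_eq_of_ne hk]
    ring
  · intro h
    exact absurd (Finset.mem_univ s) h

theorem exists_psi_eq (h2 : (2 : F) ≠ 0) (d : ρ → F) (g : OO κ d) (σ : Perm κ)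
    (h : ∀ i w, ∃ w', ap g (emb i w) = emb (σ i) w') : ∃ x, psi κ d x = g := by
  have h' : ∀ i w, ap g (emb i w) = emb (σ i) (pr (σ i) (ap g (emb i w))) := by
    intro i w
    obtain ⟨w', hw'⟩ := h i w
    rw [hw', pr_emb, if_pos rfl]
  -- the components
  let A : κ → (Fin 2 → F) →ₗ[F] (Fin 2 → F) := fun j =>
    { toFun := fun w => pr j (ap g (emb (σ.symm j) w))
      map_add' := fun v w => by rw [emb_add, map_add, pr_add]
      map_smul' := fun c w => by rw [emb_smul, map_smul, pr_smul]; rfl }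
  have hA : ∀ i w, ap g (emb i w) = emb (σ i) (A (σ i) w) := by
    intro i w
    change _ = emb (σ i) (pr (σ i) (ap g (emb (σ.symm (σ i)) w)))
    rw [Equiv.symm_apply_apply]
    exact h' i w
  have hA' : ∀ j w, ap g (emb (σ.symm j) w) = emb j (A j w) := by
    intro j w
    have := hA (σ.symm j) w
    rwa [Equiv.apply_symm_apply] at this
  have hAi : ∀ j, Function.Injective (A j) := by
    intro j v w hvw
    apply emb_injective (ρ := ρ) (σ.symm j)
    apply ap_injective g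
    rw [hA', hA', hvw]
  have hAq : ∀ j v, DQ (one' (Fin 2) F) (A j v) = DQ (one' (Fin 2) F) v := by
    intro j v
    rw [← DQ_emb d j, ← hA', DQ_ap, DQ_emb]
  choose a ha using fun j => exists_iso (DQ (one' (Fin 2) F)) (A j) (hAi j) (hAq j)
  have hAs : ∀ j, Function.Surjective (A j) := fun j => LinearMap.injective_iff_surjective.1 (hAi j)
  have hR0 : ∀ j w, pr j (ap g (eR w)) = 0 := by
    intro j w
    apply polar_plane_eq_zero h2
    intro u
    obtain ⟨u', rfl⟩ := hAs j u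
    rw [← polar_emb d j, ← hA', polar_ap, polar_emb, pr_eR]
    simp [polar]
  let B : (ρ → F) →ₗ[F] (ρ → F) :=
    { toFun := fun w => pR (ap g (eR w))
      map_add' := fun v w => by rw [eR_add, map_add, pR_add]
      map_smul' := fun c w => by rw [eR_smul, map_smul, pR_smul]; rfl }
  have hB : ∀ w, ap g (eR w) = eR (B w) := by
    intro w
    refine ext_pr (fun j => ?_) rfl
    rw [hR0, pr_eR]
  have hBi : Function.Injective B := by
    intro v w hvw
    have h1 : (eR v : (κ × Fin 2) ⊕ ρ → F) = eR w := by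
      apply ap_injective g
      rw [hB, hB, hvw]
    exact congrArg pR h1
  have hBq : ∀ v, DQ d (B v) = DQ d v := by
    intro v
    rw [← DQ_eR (κ := κ), ← hB, DQ_ap, DQ_eR]
  obtain ⟨b, hb⟩ := exists_iso (DQ d) B hBi hBq
  refine ⟨((⟨a, σ⟩ : Wr (MM F) κ), b), ?_⟩
  apply ap_ext
  intro v
  rw [decomp v, map_add, map_add, map_sum, map_sum]
  congr 1
  · refine Finset.sum_congr rfl fun i _ => ?_
    rw [psi_emb, hA]
    congr 1
    exact ha (σ i) _
  · rw [hB]
    refine ext_pr (fun j => ?_) ?_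
    · rw [pr_psi, pr_eR, pr_eR, Matrix.mulVec_zero]
    · rw [pR_psi, pR_eR, pR_eR]
      exact hb _

/-! ### Sums of planes and the elements with `(x² + 1)(x - 1) = 0` -/

/-- Sums of planes. -/
def PS (F : Type*) [Field F] (ρ : Type) [Fintype ρ] [DecidableEq ρ] (I : Finset κ) :
    Submodule F ((κ × Fin 2) ⊕ ρ → F) where
  carrier := {v | (∀ i, i ∉ I → pr i v = 0) ∧ pR v = 0}
  add_mem' := by
    rintro v w ⟨h1, h2⟩ ⟨h3, h4⟩
    exact ⟨fun i hi => by rw [pr_add, h1 i hi, h3 i hi, add_zero], by rw [pR_add, h2, h4, add_zero]⟩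
  zero_mem' := ⟨fun _ _ => rfl, rfl⟩
  smul_mem' := by
    rintro c v ⟨h1, h2⟩
    exact ⟨fun i hi => by rw [pr_smul, h1 i hi, smul_zero], by rw [pR_smul, h2, smul_zero]⟩

theorem mem_PS {I : Finset κ} {v : (κ × Fin 2) ⊕ ρ → F} :
    v ∈ PS F ρ I ↔ (∀ i, i ∉ I → pr i v = 0) ∧ pR v = 0 := Iff.rfl

theorem emb_mem_PS {I : Finset κ} {i : κ} (hi : i ∈ I) (w : Fin 2 → F) :
    (emb i w : (κ × Fin 2) ⊕ ρ → F) ∈ PS F ρ I := by
  refine ⟨fun j hj => ?_, rfl⟩
  rw [pr_emb, if_neg]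
  rintro rfl
  exact hj hi

theorem mem_PS_singleton {i : κ} {v : (κ × Fin 2) ⊕ ρ → F} (h : v ∈ PS F ρ {i}) : v = emb i (pr i v) := by
  refine ext_pr (fun j => ?_) ?_
  · rw [pr_emb]
    split_ifs with hj
    · rw [hj]
    · exact h.1 j (by simpa using hj)
  · rw [h.2, pR_emb]

theorem PS_le {I : Finset κ} {W : Submodule F ((κ × Fin 2) ⊕ ρ → F)} (h : ∀ i ∈ I, ∀ w, emb i w ∈ W) :
    PS F ρ I ≤ W := by
  intro v hv
  have h1 : v = ∑ i, emb i (pr i v) := by
    have h3 := decomp v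
    have e : (eR (0 : ρ → F) : (κ × Fin 2) ⊕ ρ → F) = 0 := ext_pr (fun _ => rfl) rfl
    rwa [hv.2, e, add_zero] at h3
  rw [h1]
  refine Submodule.sum_mem _ fun i _ => ?_
  by_cases hi : i ∈ I
  · exact h i hi _
  · rw [hv.1 i hi]
    have e : (emb i 0 : (κ × Fin 2) ⊕ ρ → F) = 0 := by
      refine ext_pr (fun j => ?_) rfl
      rw [pr_emb]
      split_ifs <;> rfl
    rw [e]
    exact Submodule.zero_mem _

theorem PS_inf (I J : Finset κ) : PS F ρ I ⊓ PS F ρ J = PS F ρ (I ∩ J) := by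
  ext v
  constructor
  · rintro ⟨h1, h2⟩
    refine ⟨fun i hi => ?_, h1.2⟩
    rw [Finset.mem_inter, not_and_or] at hi
    rcases hi with hi | hi
    · exact h1.1 i hi
    · exact h2.1 i hi
  · rintro ⟨h1, h2⟩
    exact ⟨⟨fun i hi => h1 i fun h => hi (Finset.mem_inter.1 h).1, h2⟩,
      ⟨fun i hi => h1 i fun h => hi (Finset.mem_inter.1 h).2, h2⟩⟩

theorem card_PS [Fintype F] (I : Finset κ) :
    Nat.card (PS F ρ I) = Fintype.card F ^ (2 * I.card) := by
  have e : PS F ρ I ≃ (I → Fin 2 → F) :=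
    { toFun := fun v i => pr i.1 v.1
      invFun := fun f => ⟨fun p => Sum.elim (fun q : κ × Fin 2 => if h : q.1 ∈ I then f ⟨q.1, h⟩ q.2 else 0)
        (fun _ : ρ => 0) p, ⟨fun i hi => by
          funext s
          change (if h : i ∈ I then f ⟨i, h⟩ s else 0) = 0
          rw [dif_neg hi], rfl⟩⟩
      left_inv := by
        rintro ⟨v, hv⟩
        apply Subtype.ext
        refine ext_pr (fun i => ?_) ?_
        · funext s
          change (if h : i ∈ I then pr i v s else 0) = pr i v s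
          by_cases h : i ∈ I
          · rw [dif_pos h]
          · rw [dif_neg h, hv.1 i h]
            rfl
        · exact hv.2.symm
      right_inv := by
        intro f
        funext i s
        change (if h : i.1 ∈ I then f ⟨i.1, h⟩ s else 0) = f i s
        rw [dif_pos i.2] }
  rw [Nat.card_congr e, Nat.card_fun, Nat.card_fun]
  simp only [Nat.card_eq_fintype_card, Fintype.card_fin, Fintype.card_coe]
  rw [← pow_mul]

/-- The commutator space. -/
def Vx {d : ρ → F} (g : OO κ d) : Submodule F ((κ × Fin 2) ⊕ ρ → F) := LinearMap.range (ap g - LinearMap.id)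

/-- `(g² + 1)(g - 1) = 0`. -/
def Sq {d : ρ → F} (g : OO κ d) : Prop := ∀ v, ap g (ap g (ap g v)) + ap g v = ap g (ap g v) + v

theorem Vx_conj {d : ρ → F} (h g : OO κ d) : Vx (h * g * h⁻¹) = (Vx g).map (ap h) := by
  ext v
  constructor
  · rintro ⟨w, rfl⟩
    refine ⟨ap g (ap h⁻¹ w) - ap h⁻¹ w, ⟨ap h⁻¹ w, rfl⟩, ?_⟩
    rw [LinearMap.sub_apply, map_sub, ap_mul, ap_mul, LinearMap.id_apply, ap_ap_inv]
  · rintro ⟨_, ⟨w, rfl⟩, rfl⟩
    refine ⟨ap h w, ?_⟩
    rw [LinearMap.sub_apply, LinearMap.sub_apply, map_sub, ap_mul, ap_mul, LinearMap.id_apply, LinearMap.id_apply,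
      ap_inv_ap]

theorem Sq_conj {d : ρ → F} (h : OO κ d) {g : OO κ d} (hg : Sq g) : Sq (h * g * h⁻¹) := by
  intro v
  have h1 := congrArg (ap h) (hg (ap h⁻¹ v))
  rw [map_add, map_add, ap_ap_inv] at h1
  simp only [ap_mul, ap_inv_ap]
  exact h1

theorem mem_Vx {d : ρ → F} (h2 : (2 : F) ≠ 0) {g : OO κ d} {v : (κ × Fin 2) ⊕ ρ → F}
    (h : ap g (ap g v) = -v) : v ∈ Vx g := by
  refine ⟨(2 : F)⁻¹ • (-(ap g v) - v), ?_⟩
  rw [LinearMap.sub_apply, LinearMap.id_apply, map_smul, map_sub, map_neg, h, ← smul_sub]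
  have e : - -v - ap g v - (-ap g v - v) = (2 : F) • v := by
    rw [two_smul]
    abel
  rw [e, smul_smul, inv_mul_cancel₀ h2, one_smul]

end Cfsg.Agent.H803.OmWreath
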