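import Cfsg.Agent.H759.FusNormal
import Cfsg.Agent.H802.FusCentric
import Cfsg.Agent.Transfer.OmegaFaithful
/-!
# Strongly resistant subgroups: normality from a chain covering the elements of order p (helper803)
-/
set_option autoImplicit false

namespace Cfsg.Agent.H803
open Cfsg Cfsg.FusionSystem Cfsg.Agent.H759
open scoped commutatorElement

variable {Ω : Type*} [Group Ω] {S : Subgroup Ω} {F : FusionSystem S} {p : ℕ}

/-- A group of automorphisms of a finite group, closed under taking powers, all of whose elements of order prime to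
`p` are trivial, is a `p`-group. -/
theorem isPGroup_of_coprime_trivial {G : Type*} [Group G] [Finite G] [Fact p.Prime] (K : Subgroup G)
    (h : ∀ k ∈ K, (orderOf k).Coprime p → k = 1) : IsPGroup p K := by
  have hp : p.Prime := Fact.out
  rintro ⟨k, hk⟩
  obtain ⟨a, m, hm, hn⟩ := Nat.exists_eq_pow_mul_and_not_dvd (orderOf_pos k).ne' p hp.ne_one
  refine ⟨a, Subtype.ext ?_⟩
  show k ^ p ^ a = 1
  apply h _ (pow_mem hk _)
  have h1 : (k ^ p ^ a) ^ m = 1 := by
    rw [← pow_mul, ← hn, pow_orderOf_eq_one]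
  exact Nat.Coprime.coprime_dvd_left (orderOf_dvd_of_pow_eq_one h1)
    ((Nat.Prime.coprime_iff_not_dvd hp).2 hm).symm

/-- **Normality criterion** (`p` odd): a strongly closed subgroup `Q` is normal if there is a chain
`1 = c 0, c 1, …, c n` of strongly closed subgroups with `[Q, c (i+1)] ≤ c i` and `c n` contains all elements of order
`p` of `Q`. -/
theorem isNormal_of_omega_chain [Finite S] [Fact p.Prime] (hp2 : p ≠ 2) (hS : IsPGroup p S)
    (hF : F.IsSaturated p) {Q : Subgroup Ω} (hQ : F.StronglyClosed Q) (n : ℕ) (c : ℕ → Subgroup Ω)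
    (h0 : c 0 = ⊥) (hn : ∀ x ∈ Q, x ^ p = 1 → x ∈ c n) (hc : ∀ i ≤ n, F.StronglyClosed (c i))
    (hcomm : ∀ i < n, ⁅Q, c (i + 1)⁆ ≤ c i) : F.IsNormal Q := by
  refine isNormal_of_forall hS hF hQ (fun R hRa hRr hQR α hα g hg hgn => ?_)
  have hRS : R ≤ S := hRa.1
  have hfR : Finite R := Finite.of_injective _ (Subgroup.inclusion_injective hRS)
  let K : Subgroup (MulAut R) :=
    { carrier := {κ | κ ∈ F.autGroup R ∧ (∀ x : R, (x : Ω)⁻¹ * (κ x : R) ∈ Q) ∧
        ∀ i < n, ∀ x : R, (x : Ω) ∈ c (i + 1) → (x : Ω)⁻¹ * (κ x : R) ∈ c i}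
      one_mem' := ⟨one_mem _, fun x => by simp, fun i _ x _ => by simp⟩
      mul_mem' := by
        rintro a b ⟨ha, ha', ha''⟩ ⟨hb, hb', hb''⟩
        have h1 : ∀ x : R, (x : Ω)⁻¹ * (a (b x) : R) = ((x : Ω)⁻¹ * (b x : R)) *
          (((b x : R) : Ω)⁻¹ * (a (b x) : R)) := fun x => by group
        refine ⟨mul_mem ha hb, fun x => ?_, fun i hi x hx => ?_⟩
        · rw [MulAut.mul_apply, h1]
          exact mul_mem (hb' x) (ha' _)
        · rw [MulAut.mul_apply, h1]
          refine mul_mem (hb'' i hi x hx) (ha'' i hi _ ?_)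
          exact StronglyClosed.apply_mem (hc (i + 1) hi) ((mem_autGroup F hRS).1 hb) hx
      inv_mem' := by
        rintro a ⟨ha, ha', ha''⟩
        refine ⟨inv_mem ha, fun x => ?_, fun i hi x hx => ?_⟩
        · have h1 := ha' (a⁻¹ x)
          rw [MulAut.apply_inv_self] at h1
          have h2 := inv_mem h1
          simpa using h2
        · have hx' : ((a⁻¹ x : R) : Ω) ∈ c (i + 1) :=
            StronglyClosed.apply_mem (hc (i + 1) hi) ((mem_autGroup F hRS).1 (inv_mem ha)) hx
          have h1 := ha'' i hi (a⁻¹ x) hx'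
          rw [MulAut.apply_inv_self] at h1
          have h2 := inv_mem h1
          simpa using h2 }
  have hKA : K ≤ F.autGroup R := fun k hk => hk.1
  have hKn : ∀ a ∈ F.autGroup R, ∀ k ∈ K, a * k * a⁻¹ ∈ K := by
    rintro a ha k ⟨hk, hk', hk''⟩
    have ham := (mem_autGroup F hRS).1 ha
    have ham' := (mem_autGroup F hRS).1 (inv_mem ha)
    refine ⟨mul_mem (mul_mem ha hk) (inv_mem ha), fun x => ?_, fun i hi x hx => ?_⟩
    · have h1 := hk' (a⁻¹ x)
      have h2 : ((a ((a⁻¹ x)⁻¹ * k (a⁻¹ x)) : R) : Ω) ∈ Q :=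
        StronglyClosed.apply_mem hQ ham (x := (a⁻¹ x)⁻¹ * k (a⁻¹ x)) h1
      rw [map_mul, map_inv, MulAut.apply_inv_self] at h2
      exact h2
    · have hx' : ((a⁻¹ x : R) : Ω) ∈ c (i + 1) := StronglyClosed.apply_mem (hc (i + 1) hi) ham' hx
      have h1 := hk'' i hi (a⁻¹ x) hx'
      have h2 : ((a ((a⁻¹ x)⁻¹ * k (a⁻¹ x)) : R) : Ω) ∈ c i :=
        StronglyClosed.apply_mem (hc i hi.le) ham (x := (a⁻¹ x)⁻¹ * k (a⁻¹ x)) h1
      rw [map_mul, map_inv, MulAut.apply_inv_self] at h2
      exact h2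
  have hKp : IsPGroup p K := by
    have hfA : Finite (MulAut R) := inferInstance
    refine isPGroup_of_coprime_trivial K (fun κ hκK ho => ?_)
    obtain ⟨hκ, hκ', hκ''⟩ := hκK
    have hRp : IsPGroup p R := hS.to_le hRS
    set f : R →* R := κ.toMonoidHom with hf
    have hiter : ∀ x : R, f^[orderOf κ] x = x := Transfer.OmegaFaithful.iterate_orderOf κ
    -- trivial on the chain
    have h1 : ∀ i ≤ n, ∀ x : R, (x : Ω) ∈ c i → f x = x := by
      intro i
      induction i with
      | zero =>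
        intro _ x hx
        rw [h0, Subgroup.mem_bot] at hx
        have : x = 1 := Subtype.ext hx
        rw [this, map_one]
      | succ i ih =>
        intro hi x hx
        refine Transfer.OmegaFaithful.map_eq_self_of_fixed hRp ho f x (hiter x) ?_
        exact ih (Nat.le_of_succ_le hi) _ (hκ'' i hi x hx)
    -- trivial on `Q ∩ R`
    obtain ⟨g, hg1, hg2⟩ := Transfer.OmegaFaithful.restrict_data f (Q.subgroupOf R)
      (fun x hx => StronglyClosed.apply_mem hQ ((mem_autGroup F hRS).1 hκ) hx)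
    have h2 : ∀ x : Q.subgroupOf R, g x = x := by
      refine Transfer.OmegaFaithful.map_eq_self_of_omega hp2 ho _ (hRp.to_subgroup _) g
        (fun x => ?_) (fun x hx => ?_)
      · apply Subtype.ext
        rw [hg2, hiter]
      · apply Subtype.ext
        rw [hg1]
        apply h1 n le_rfl
        refine hn _ x.2 ?_
        have := congrArg (fun y : Q.subgroupOf R => ((y : R) : Ω)) hx
        simpa using this
    -- trivial on `R`
    apply MulEquiv.ext
    intro x
    refine Transfer.OmegaFaithful.map_eq_self_of_fixed hRp ho f x (hiter x) ?_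
    have h3 := h2 ⟨x⁻¹ * f x, hκ' x⟩
    have h4 := congrArg Subtype.val h3
    rw [hg1] at h4
    exact h4
  have hKS := le_autInducedBy_of_normal hRa K hKA hKn hKp
  apply hKS
  apply hKn α hα
  refine ⟨autGroup_map F (conj_mem' F hRS (hQ.1 hg) (fun x => rfl)), fun x => ?_, fun i hi x hx => ?_⟩
  · rw [coe_conjAut]
    have h1 : (x : Ω)⁻¹ * (g * x * g⁻¹) = ((x : Ω)⁻¹ * g * x) * g⁻¹ := by group
    rw [h1]
    exact mul_mem (StronglyClosed.conj_mem' hQ (hRS x.2) hg) (inv_mem hg)
  · rw [coe_conjAut]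
    have h1 : ⁅g, (x : Ω)⁻¹⁆ ∈ ⁅Q, c (i + 1)⁆ := Subgroup.commutator_mem_commutator hg (inv_mem hx)
    have h2 := hcomm i hi h1
    have h3 : (x : Ω)⁻¹ * (g * x * g⁻¹) = (⁅g, (x : Ω)⁻¹⁆)⁻¹ := by
      rw [commutatorElement_def]; group
    rw [h3]
    exact inv_mem h2

end Cfsg.Agent.H803
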